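import Cfsg.Agent.H347.HX.G23.Main
import Cfsg.Agent.TAB.F22.FxA_m3
import Cfsg.Agent.H447.CTabLam_m3
import Cfsg.Agent.Prune
set_option linter.all false
prune_inst 0x7f00000000000000000000000000000000000000000000000000000000000000000000000000000000000000000000000000000000000000000000000000000000000000000000000000000000000000003fffffffffffffffffffffffffffbeffbdfbfeffff
open scoped Cfsg.Agent.FastGrp

/-!
# MO, defining characteristic: the character table of `G₂(3)` (helper82)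

The classes are those of helper347 (`G₂(3)` on the 364 points of its hexagon).  Seeds: the permutation character, its
constituent of degree `104` (an idempotent of the hexagon) and the number of square roots.
-/

set_option autoImplicit false
set_option maxRecDepth 100000
set_option Elab.async false

namespace Cfsg.Agent.MO.Df.G23

open Cfsg Subgroup Cfsg.Agent.H347.HX Cfsg.Agent.H347.HX.G23 Cfsg.Agent.TAB Cfsg.Agent.TAB.Eng Cfsg.Agent.TAB.Use
open Cfsg.Agent.TAB.Sm1 Cfsg.Agent.TAB.Sm2 Cfsg.Agent.H447.CTab Cfsg.Agent.Characters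

/-! ### words -/

theorem base_lt : ∀ f ∈ base, f < 364 := by decide

/-- two elements which agree on the base are equal -/
theorem eqb {X Y : ℕ → ℕ} {x y : A} (hX : Rp X x) (hY : Rp Y y)
    (h : (base.all fun b => Nat.beq (X b) (Y b)) = true) : x = y := by
  refine (inv_mul_eq_one.1 (hbase _ fun f hf => ⟨base_lt f hf, ?_⟩)).symm
  rw [Subgroup.coe_mul, Subgroup.coe_inv, Equiv.Perm.mul_apply, Equiv.Perm.inv_eq_iff_eq]
  exact Fin.ext ((hX _).trans ((Nat.eq_of_beq_eq_true (List.all_eq_true.1 h f hf)).trans (hY ⟨f, base_lt f hf⟩).symm))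

/-- equality of words -/
def cb (u v : List ℕ) : Bool := base.all fun b => Nat.beq (ap fl u b) (ap fl v b)

theorem eqw {u v : List ℕ} (h : cb u v = true) : ev s u = ev s v := eqb (Rp.ev rp_s u) (Rp.ev rp_s v) h

theorem ev_pow (L : List ℕ) (m : ℕ) : ev s (List.replicate m L).flatten = ev s L ^ m := by
  induction m with
  | zero => rfl
  | succ m ih => rw [List.replicate_succ, List.flatten_cons, ev_append, ih, pow_succ']

theorem conj_w {u v : List ℕ} (W : List ℕ) (h : cb (W ++ u) (v ++ W) = true) : IsConj (ev s u) (ev s v) :=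
  isConj_iff.2 ⟨ev s W, mul_inv_eq_iff_eq_mul.2 (by rw [mulw, mulw]; exact eqw h)⟩

/-- the order -/
def ordc (X : ℕ → ℕ) (n : ℕ) : Bool :=
  Nat.blt 0 n && (base.all fun b => Nat.beq (it X n b) b) &&
    alb n fun m => Nat.beq m 0 || base.any fun b => !Nat.beq (it X m b) b

theorem of_ordc {X : ℕ → ℕ} {x : A} (hX : Rp X x) {n : ℕ} (h : ordc X n = true) : orderOf x = n := by
  simp only [ordc, Bool.and_eq_true, Nat.blt_eq] at h
  refine (orderOf_eq_iff h.1.1).2 ⟨eqb (Y := fun b => b) (hX.it n) (fun _ => rfl) h.1.2, fun m hm h0 e => ?_⟩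
  have h1 := of_alb h.2 m hm
  rw [Bool.or_eq_true, Nat.beq_eq, List.any_eq_true] at h1
  obtain ⟨b, hb, h2⟩ := h1.resolve_left h0.ne'
  have h3 := hX.it m ⟨b, base_lt b hb⟩
  rw [e] at h3
  have h4 : b = it X m b := h3
  rw [← h4, Nat.beq_refl] at h2
  cases h2

/-! ### the classes -/

/-- the words of the representatives -/
def xw (i : ℕ) : List ℕ := wr (wv.getD i [])

/-- the orders of the representatives -/
def ol : List ℕ := [1, 2, 3, 3, 3, 3, 3, 4, 4, 6, 6, 6, 6, 7, 8, 8, 9, 9, 9, 12, 12, 13, 13]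

/-- the orders of the centralizers -/
def cl : List ℕ := [4245696, 576, 162, 162, 729, 5832, 5832, 96, 96, 18, 18, 72, 72, 7, 8, 8, 27, 27, 27, 12, 12, 13, 13]

/-- the types of the classes -/
def rc : List ℕ := [0, 1, 2, 3, 4, 5, 6, 7, 8, 9, 10, 11, 12, 13, 14, 15, 16, 16, 17, 18, 19, 20, 20]

theorem len : lst.length = 23 := rfl

/-- the entries of the list -/
noncomputable def pr (i : Fin 23) : A × Cl := lst.get (i.cast len.symm)

theorem pr_mem (i : Fin 23) : pr i ∈ lst := List.get_mem _ _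

theorem pr_fst (i : Fin 23) : (pr i).1 = ev s (xw i) := by fin_cases i <;> rfl

theorem pr_inj (i j : Fin 23) (h : IsConj (pr i).1 (pr j).1) : i = j := by
  have h1 : ts.map (cnc 364 co (pr i).2.X) = ts.map (cnc 364 co (pr j).2.X) := List.map_congr_left fun t _ => by
    rw [← cn_eq (lst_Rp _ (pr_mem i)), ← cn_eq (lst_Rp _ (pr_mem j)), cn_isConj t h]
  exact Fin.cast_injective _ (List.nodup_iff_injective_get.1 (List.Nodup.of_map _ lst_key)
    (List.inj_on_of_nodup_map lst_key (pr_mem i) (pr_mem j) h1))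

theorem pr_bd : ∀ i : Fin 23, bd (pr i).2.l = cl.getD i 0 := by decide +kernel

/-- the classes -/
noncomputable def T : ClassTab A 23 :=
  ClassTab.ofBound (fun i => (pr i).1) (fun i => cl.getD i 0) card_A pr_inj
    (fun i => pr_bd i ▸ card_le (lst_Rp _ (pr_mem i)) hbase (lst_run _ (pr_mem i))) (by decide +kernel)
    (by decide +kernel)

theorem T_x (i : Fin 23) : T.x i = ev s (xw i) := pr_fst i

theorem T_rp (i : Fin 23) : Rp (pr i).2.X (T.x i) := lst_Rp _ (pr_mem i)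

theorem conj_pw {i j : Fin 23} {m : ℕ} (W : List ℕ)
    (h : cb (W ++ (List.replicate m (xw i)).flatten) (xw j ++ W) = true) : IsConj (T.x i ^ m) (T.x j) := by
  rw [T_x, T_x, ← ev_pow]
  exact conj_w W h

/-! ### the characters of the idempotents -/

/-- the distance from the point `0` -/
def rk (p : ℕ) : ℕ := dg 4 15 0xaa99999999999999999999999999999999988888888888888888888888888888888888888888888888888888888888888888888888888888888888888888777777777777777777777777777777777777777777777777777777777777777777777777777777777777777777777777777777777777777776666666666666666666666666666666666666666666666666666666666666666666666555555555555555555555555555555444444444444443333332222110 p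

theorem rk_ok : (alb 364 fun p => Nat.beq p 0 || anb 6 fun j => Nat.blt (rk (fl j p)) (rk p)) = true := by
  decide +kernel

theorem trans (p : Fin 364) : ∃ g : A, (g : Equiv.Perm (Fin 364)) 0 = p := by
  induction h : rk p using Nat.strong_induction_on generalizing p with
  | _ k ih =>
    have h1 := of_alb rk_ok p p.2
    rw [Bool.or_eq_true, Nat.beq_eq, anb_iff] at h1
    rcases h1 with h1 | ⟨j, -, h1⟩
    · exact ⟨1, Fin.ext h1.symm⟩
    · rw [Nat.blt_eq, h] at h1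
      obtain ⟨g, hg⟩ := ih _ h1 ((s j : Equiv.Perm (Fin 364)) p) rfl
      refine ⟨(s j)⁻¹ * g, ?_⟩
      rw [Subgroup.coe_mul, Equiv.Perm.mul_apply, hg]
      exact inv_self _ _

/-- sums -/
noncomputable def smi (n : ℕ) (f : ℕ → ℤ) : ℤ := Nat.rec 0 (fun k ih => Int.add ih (f k)) n

theorem smi_eq (n : ℕ) (f : ℕ → ℤ) : smi n f = ∑ k : Fin n, f k := by
  induction n with
  | zero => rfl
  | succ n ih => rw [Fin.sum_univ_castSucc]; exact congrArg (· + f n) ih

theorem sd_of {c : ℕ → ℤ} {N : ℤ} (hN : N ≠ 0)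
    (h : (alb 364 fun y => decide (smi 364 (fun z => c (co 0 z) * c (co z y)) = N * c (co 0 y))) = true) {v : List ℤ}
    (hv : ∀ i : Fin 23, smi 364 (fun q => c (co q ((pr i).2.X q))) = N * v.getD i 0) : Sd T v := by
  have hN' : (N : ℂ) ≠ 0 := Int.cast_ne_zero.2 hN
  refine ⟨_, Brauer.isGeneralizedCharacter_of_isCharacter (isCharacter_of_idem (G := A) (X := Fin 364)
    (Matrix.of fun x y => (c (co x y) : ℂ) / N) ?_ fun g x y => congrArg (fun a => (c a : ℂ) / N) (g.2 x y)), fun i => ?_⟩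
  · ext x y
    obtain ⟨g, rfl⟩ := trans x
    obtain ⟨y, rfl⟩ := (g : Equiv.Perm (Fin 364)).surjective y
    have h1 := congrArg (Int.cast : ℤ → ℂ) ((smi_eq _ _).symm.trans (of_decide_eq_true (of_alb h y y.2)))
    push_cast at h1
    rw [Matrix.mul_apply, ← Equiv.sum_comp (g : Equiv.Perm (Fin 364))]
    simp only [Matrix.of_apply, g.2 _ _, div_mul_div_comm, ← Finset.sum_div, Fin.val_zero]
    rw [div_eq_div_iff (mul_ne_zero hN' hN') hN']
    exact (congrArg (· * (N : ℂ)) h1).trans (by ring)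
  · have h1 := congrArg (Int.cast : ℤ → ℂ) ((smi_eq _ _).symm.trans (hv i))
    push_cast at h1
    simp only [Matrix.of_apply, ← Finset.sum_div]
    rw [div_eq_iff hN', mul_comm, ← h1]
    exact Finset.sum_congr rfl fun q _ => congrArg (fun a => (c (co q a) : ℂ)) (T_rp i q)

/-- words which fix the point `0` -/
private def sw : List (List ℕ) := [[0], [1], [3], [4], [5, 1, 5]]

/-- the distance from the points `0, 1, 2, 4` under these words -/
private def rk0 (p : ℕ) : ℕ := dg 4 15 0x89899b9a98cda99979bb89a9d89cbc89878cbc5b9855c6c68aa58aaa9ac8a8789dabdb7c5c66bbba89b6aa9a8777c65a989a76ac85d66c95675b6876a77abbc54c6d66777786795644557576787949a6bbb7a75655c686855b65a8c55b555664568765c677955b66454a56597b755755a5545756566456b744a67865778a8633668834a97b6444557459454445348464453454485565443465473a867892357343834333323343535729322122222242211121101000 p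

private theorem rk0_ok : (alb 364 fun p => [0, 1, 2, 4].any (Nat.beq p) ||
    sw.any fun w => Nat.blt (rk0 (ap fl w p)) (rk0 p)) = true := by decide +kernel

private theorem sw0 : ∀ w ∈ sw, ap fl w 0 = 0 := by decide +kernel

private theorem alb_of {n : ℕ} {P : ℕ → Bool} (h : ∀ k < n, P k = true) : alb n P = true := by
  induction n with
  | zero => rfl
  | succ m ih =>
    show (bif P m then alb m P else false) = true
    rw [h m m.lt_succ_self]
    exact ih fun k hk => h k (Nat.lt_succ_of_lt hk)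

/-- the stabilizer of `0` has four orbits -/
private theorem idem {c : ℕ → ℤ} {N : ℤ} (h : ([0, 1, 2, 4].all fun y =>
      decide (smi 364 (fun z => c (co 0 z) * c (co z y)) = N * c (co 0 y))) = true) :
    (alb 364 fun y => decide (smi 364 (fun z => c (co 0 z) * c (co z y)) = N * c (co 0 y))) = true := by
  have key : ∀ (k : ℕ) (y : Fin 364), rk0 y = k →
      smi 364 (fun z => c (co 0 z) * c (co z y)) = N * c (co 0 y) := by
    intro k
    induction k using Nat.strong_induction_on with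
    | _ k ih =>
      intro y hy
      have h1 := of_alb rk0_ok y y.2
      rw [Bool.or_eq_true, List.any_eq_true, List.any_eq_true] at h1
      rcases h1 with ⟨r, hr, h1⟩ | ⟨w, hw, h1⟩
      · rw [Nat.eq_of_beq_eq_true h1]
        exact of_decide_eq_true (List.all_eq_true.1 h r hr)
      · rw [Nat.blt_eq, hy] at h1
        have hg := Rp.ev rp_s w
        generalize ev s w = g at hg
        have h0 : ((g : Equiv.Perm (Fin 364)) 0 : ℕ) = 0 := (hg 0).trans (sw0 w hw)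
        have h2 := ih _ h1 ((g : Equiv.Perm (Fin 364)) y) (congrArg rk0 (hg y))
        have h3 : ∀ z : Fin 364, co 0 ((g : Equiv.Perm (Fin 364)) z) = co 0 z := fun z =>
          (congrArg (fun a => co a ((g : Equiv.Perm (Fin 364)) z)) h0.symm).trans (g.2 0 z)
        rw [smi_eq, ← Equiv.sum_comp (g : Equiv.Perm (Fin 364)), h3] at h2
        rw [smi_eq, ← h2]
        exact Finset.sum_congr rfl fun z _ => by rw [h3, g.2 z y]
  exact alb_of fun y hy => decide_eq_true (key _ ⟨y, hy⟩ rfl)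

/-- the permutation character -/
def vP : List ℤ := [364, 20, 4, 4, 13, 13, 40, 0, 4, 2, 2, 5, 8, 0, 0, 2, 1, 1, 1, 0, 1, 0, 0]

/-- the constituent of degree `104` -/
def vQ : List ℤ := [104, 8, -1, 2, 5, 14, 14, 0, 0, -1, 2, 2, 2, -1, 0, 0, -1, -1, 2, 0, 0, 0, 0]

theorem sdP : Sd T vP := sd_of (c := nth [1]) one_ne_zero (idem (by decide +kernel)) (by decide +kernel)

theorem sdQ : Sd T vQ := sd_of (c := nth [108, 45, 3, -4]) (N := 378) (by decide) (idem (by decide +kernel))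
  (by decide +kernel)

/-! ### the table -/

/-- the types -/
def D : Dat where
  n := 21
  N := 4245696
  ordL := [1, 2, 3, 3, 3, 3, 3, 4, 4, 6, 6, 6, 6, 7, 8, 8, 9, 9, 12, 12, 13]
  cntL := [1, 7371, 26208, 26208, 5824, 728, 728, 44226, 44226, 235872, 235872, 58968, 58968, 606528, 530712, 530712,
    314496, 157248, 353808, 353808, 653184]
  pwL := [[],
    [(1, 1)],
    [(1, 2)],
    [(1, 3)],
    [(1, 4)],
    [(1, 5)],
    [(1, 6)],
    [(1, 7), (2, 1)],
    [(1, 8), (2, 1)],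
    [(1, 9), (2, 2), (3, 1)],
    [(1, 10), (2, 3), (3, 1)],
    [(1, 11), (2, 5), (3, 1)],
    [(1, 12), (2, 6), (3, 1)],
    [(1, 13)],
    [(1, 14), (2, 7), (4, 1)],
    [(1, 15), (2, 8), (4, 1)],
    [(1, 16), (3, 4)],
    [(1, 17), (3, 4)],
    [(1, 18), (2, 12), (3, 7), (4, 6), (6, 1)],
    [(1, 19), (2, 11), (3, 8), (4, 5), (6, 1)],
    [(1, 20)]]

/-- the seeds -/
def seeds : List (List ℤ) := [
[104, 8, -1, 2, 5, 14, 14, 0, 0, -1, 2, 2, 2, -1, 0, 0, -1, 2, 0, 0, 0],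
[364, 20, 4, 4, 13, 13, 40, 0, 4, 2, 2, 5, 8, 0, 0, 2, 1, 1, 0, 1, 0],
[7372, 12, 10, 10, 1, 82, 82, 12, 12, 0, 0, 6, 6, 1, 0, 0, 1, 1, 0, 0, 1]]


/-- the rational irreducible characters -/
def RA : List (List ℤ) := [
[1, 1, 1, 1, 1, 1, 1, 1, 1, 1, 1, 1, 1, 1, 1, 1, 1, 1, 1, 1, 1],
[14, -2, -1, 2, -4, 5, 5, 2, 2, 1, -2, 1, 1, 0, 0, 0, -1, 2, -1, -1, 1],
[78, -2, 6, -3, -3, -3, -3, 2, 2, -2, 1, 1, 1, 1, 0, 0, 0, 0, -1, -1, 0],
[91, -5, 1, 1, 10, 10, 10, 3, 3, 1, 1, -2, -2, 0, -1, -1, 1, 1, 0, 0, 0],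
[91, 3, -2, 4, 1, -8, 19, -1, 3, 0, 0, 0, 3, 0, -1, 1, 1, -2, -1, 0, 0],
[91, 3, -2, 4, 1, 19, -8, 3, -1, 0, 0, 3, 0, 0, 1, -1, 1, -2, 0, -1, 0],
[104, 8, -1, 2, 5, 14, 14, 0, 0, -1, 2, 2, 2, -1, 0, 0, -1, 2, 0, 0, 0],
[168, 8, 6, -3, 6, 6, 6, 0, 0, 2, -1, 2, 2, 0, 0, 0, 0, 0, 0, 0, -1],
[182, 6, 2, 2, -7, -7, 20, 2, 2, 0, 0, -3, 0, 0, 0, 0, -1, -1, 2, -1, 0],
[182, 6, 2, 2, -7, 20, -7, 2, 2, 0, 0, 0, -3, 0, 0, 0, -1, -1, -1, 2, 0],
[273, -7, 3, 3, 3, 3, 30, -3, 1, -1, -1, -1, 2, 0, 1, -1, 0, 0, 0, 1, 0],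
[273, -7, 3, 3, 3, 30, 3, 1, -3, -1, -1, 2, -1, 0, -1, 1, 0, 0, 1, 0, 0],
[546, 2, -3, -3, 6, -21, 6, 6, -2, -1, -1, -1, 2, 0, 0, 0, 0, 0, 0, 1, 0],
[546, 2, -3, -3, 6, 6, -21, -2, 6, -1, -1, 2, -1, 0, 0, 0, 0, 0, 1, 0, 0],
[728, -8, -1, -1, -1, -28, 26, 0, 0, 1, 1, 4, -2, 0, 0, 0, -1, -1, 0, 0, 0],
[728, -8, -1, -1, -1, 26, -28, 0, 0, 1, 1, -2, 4, 0, 0, 0, -1, -1, 0, 0, 0],
[729, 9, 0, 0, 0, 0, 0, -3, -3, 0, 0, 0, 0, 1, -1, -1, 0, 0, 0, 0, 1],
[819, 3, 0, 0, 9, 9, 9, -1, -1, 0, 0, -3, -3, 0, 1, 1, 0, 0, -1, -1, 0],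
[832, 0, 4, 4, -5, -32, -32, 0, 0, 0, 0, 0, 0, -1, 0, 0, 1, 1, 0, 0, 0]]


/-- the sums of two conjugate characters -/
def RB : List (List ℤ) := [
[128, 0, -4, 8, 2, -16, -16, 0, 0, 0, 0, 0, 0, 2, 0, 0, -1, 2, 0, 0, -2],
[896, 0, -4, -4, -22, 32, 32, 0, 0, 0, 0, 0, 0, 0, 0, 0, 2, 2, 0, 0, -1]]


/-- the primes and the sections -/
def PL : List (ℕ × ℕ × List ℕ) := [(2, 6, [0, 2, 3, 5, 6]),
  (3, 6, [0, 1, 7, 8]),
  (7, 1, [0]),
  (13, 1, [0])]


/-- the certificates -/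
def CL : List (ℕ × ℕ × List Cert) := [
(2, 6, [
⟨0, [.one, .gen 0 1 0, .gen 1 1 0, .mul 0 0, .gen 2 1 0, .gen 1 1 1, .lin [(61, 4), (30, 3), (1, 2)], .lin [(1, 5),
    (32, 4), (52, 1)], .lin [(2, 7), (31, 5), (19, 2)], .lin [(60, 8), (35, 6)], .lin [(1, 9)]], [(0, 1), (5, 2), (4,
    2), (2, 8), (3, 8)]⟩,
⟨2, [.one, .gen 1 1 0, .lin [(4, 1), (31, 0)], .lin [(1, 2)]], [(0, 1), (1, 2)]⟩,
⟨3, [.one, .gen 1 1 0, .lin [(4, 1), (31, 0)], .lin [(1, 2)]], [(0, 1), (1, 2)]⟩,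
⟨5, [.one, .gen 0 1 0, .mul 0 0, .lin [(10, 1), (13, 0)], .lin [(2, 3), (41, 2)], .lin [(1, 4)]], [(0, 1), (2, 2), (1,
    8)]⟩,
⟨6, [.one, .gen 0 1 0, .mul 0 0, .lin [(10, 1), (13, 0)], .lin [(2, 3), (41, 2)], .lin [(1, 4)]], [(0, 1), (2, 2), (1,
    8)]⟩]),
(3, 6, [
⟨0, [.one, .gen 0 1 0, .mul 0 0, .mul 1 0, .gen 1 1 0, .mul 3 0, .mul 3 1, .mul 2 2, .gen 0 1 1, .lin [(719, 8), (297,
    7), (537, 6), (365, 5), (165, 4), (714, 0)], .lin [(34, 9), (532, 8), (129, 7), (19, 5), (175, 1)], .lin [(502,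
    10), (658, 9), (399, 8), (404, 6), (647, 5)], .lin [(65, 11), (34, 10), (698, 9)], .lin [(181, 12), (663, 11),
    (485, 8)], .lin [(364, 13), (361, 12)], .lin [(1, 14)]], [(0, 1), (1, 3), (6, 3), (2, 9), (7, 9), (4, 27), (3,
    81)]⟩,
⟨1, [.one, .gen 0 1 0, .mul 0 0, .gen 1 1 0, .mul 0 0, .gen 2 1 0, .lin [(314, 5), (322, 2), (125, 1), (495, 0)], .lin
    [(244, 6), (485, 5), (122, 3), (668, 1)], .lin [(490, 7), (483, 6), (1, 4)], .lin [(490, 8), (121, 7)], .lin [(1,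
    9)]], [(0, 1), (2, 3), (3, 3), (1, 3), (4, 9)]⟩,
⟨7, [.one, .gen 2 1 0, .lin [(3, 1), (668, 0)], .lin [(1, 2)]], [(0, 1), (1, 3)]⟩,
⟨8, [.one, .gen 1 1 0, .lin [(247, 1), (485, 0)], .lin [(1, 2)]], [(0, 1), (1, 3)]⟩]),
(7, 1, [
⟨0, [.one, .lin [(1, 0)]], [(0, 1)]⟩]),
(13, 1, [
⟨0, [.one, .lin [(1, 0)]], [(0, 1)]⟩])]

/-- the numerical data of the classes -/
def E : CD := ⟨ol, cl, rc, [vQ, vP]⟩

theorem ok : E.Ok T :=
  ⟨fun i => of_ordc (T_rp i) ((by decide +kernel : ∀ i : Fin 23, ordc (pr i).2.X (ol.getD i 0) = true) i), fun _ => rfl,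
    List.forall_mem_cons.2 ⟨sdQ, List.forall_mem_singleton.2 sdP⟩⟩

theorem ex : E.Ex D T [(10, 2), (14, 2), (15, 2), (16, 3), (17, 3), (18, 3)] := by
  have key : ∀ {i j : Fin 23} {p : ℕ}, IsConj (T.x i ^ p) (T.x j) → E.rc.getD j 0 = D.pwf (E.rc.getD i 0) p →
      E.rc.getD (T.cl (T.x i ^ p)) 0 = D.pwf (E.rc.getD i 0) p := fun h1 h2 => by rwa [T.cl_eq_iff.2 h1.symm]
  intro i p h
  simp only [List.mem_cons, Prod.mk.injEq, List.not_mem_nil, or_false] at h
  rcases h with ⟨h, rfl⟩ | ⟨h, rfl⟩ | ⟨h, rfl⟩ | ⟨h, rfl⟩ | ⟨h, rfl⟩ | ⟨h, rfl⟩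
  · obtain rfl : i = 10 := Fin.ext h
    exact key (conj_pw (j := 3) [1, 2, 5, 3, 2, 1, 5, 2] (by decide +kernel)) (by decide +kernel)
  · obtain rfl : i = 14 := Fin.ext h
    exact key (conj_pw (j := 7) [5, 1, 4, 5, 3, 4, 5, 1] (by decide +kernel)) (by decide +kernel)
  · obtain rfl : i = 15 := Fin.ext h
    exact key (conj_pw (j := 8) [5, 1, 3, 5, 2, 4, 3] (by decide +kernel)) (by decide +kernel)
  · obtain rfl : i = 16 := Fin.ext h
    exact key (conj_pw (j := 4) [2, 1, 4, 5, 1, 5, 2] (by decide +kernel)) (by decide +kernel)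
  · obtain rfl : i = 17 := Fin.ext h
    exact key (conj_pw (j := 4) [5, 1, 2, 0, 1] (by decide +kernel)) (by decide +kernel)
  · obtain rfl : i = 18 := Fin.ext h
    exact key (conj_pw (j := 4) [5, 4] (by decide +kernel)) (by decide +kernel)

/-- the representatives of the types -/
def rep (t : ℕ) : Fin 23 := [0, 1, 2, 3, 4, 5, 6, 7, 8, 9, 10, 11, 12, 13, 14, 15, 16, 18, 19, 20, 21].getD t 0

theorem rep_pow (i : Fin 23) : ∃ m, IsConj (T.x (rep (rc.getD i 0)) ^ m) (T.x i) := by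
  rcases (by decide +kernel : ∀ i : Fin 23, rep (rc.getD i 0) = i ∨ i = 17 ∨ i = 22) i with h | rfl | rfl
  · exact ⟨1, by rw [h, pow_one]⟩
  · exact ⟨2, conj_pw (i := 16) [1, 5, 3, 4, 0, 5, 3, 1, 2] (by decide +kernel)⟩
  · exact ⟨2, conj_pw (i := 21) [0, 1, 5, 3, 1, 2, 5, 4, 1, 2] (by decide +kernel)⟩

/-- **the table** -/
theorem tab : ∃ S : TD A D, (∀ g, S.ty g = rc.getD (T.cl g) 0) ∧ Tab S (mkRows RA RB) := by
  obtain ⟨S, hm, hT⟩ := ofTab (D := D) ok card_A (PL := [2, 3, 5, 7, 11, 13]) (by decide +kernel) ex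
  have hR : ON.Rat S := rat_of_tab hT rep fun i =>
    ⟨(by decide +kernel : ∀ i : Fin 23, rc.getD (rep (rc.getD i 0)) 0 = rc.getD i 0) i, rep_pow i⟩
  have h1 : Virt S (nth (List.replicate 21 1)) := (Virt.const 1).congr (by decide +kernel)
  have hs : ∀ v ∈ seeds, Virt S (nth v) :=
    List.forall_mem_cons.2 ⟨sdQ.virt hT (by decide +kernel), List.forall_mem_cons.2 ⟨sdP.virt hT (by decide +kernel),
      List.forall_mem_singleton.2 (ON.virt_coad (k := 2) hm hR h1 (by decide +kernel))⟩⟩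
  exact ⟨S, hT, (Co.tab_of_virt hm (by decide +kernel)
    (virt_okC (PL := PL) (CL := CL) hm.1 hs (by decide +kernel)) (by decide +kernel)).2⟩

end Cfsg.Agent.MO.Df.G23

private theorem dce_ebf17e27f687 : _root_.True := by
  try have : _root_.True := by simp only [_root_.Cfsg.Agent.MO.Df.G23.ordc.eq_1]
  exact _root_.True.intro
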