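import Cfsg.Agent.MQ.Lc.Tw
import Cfsg.Agent.MQ.S.E62S.Out
import Cfsg.Agent.H95.LSx.Sub
import Cfsg.Agent.H761.TI34.VanG
import Cfsg.Agent.OrdCrit.Main
import Cfsg.Agent.S0252
import Cfsg.Agent.S0254
import Cfsg.Agent.S0256
import Cfsg.Agent.S0817
import Cfsg.Agent.S0822
import Cfsg.Agent.S2091
import Cfsg.Agent.S2093
import Cfsg.Agent.S2098
import Cfsg.Agent.S2102
import Cfsg.Agent.S2104
import Cfsg.Agent.S2109
import Cfsg.Agent.S2121
import Cfsg.Agent.S2122
import Cfsg.Agent.S2126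
import Cfsg.Agent.S2130
import Cfsg.Agent.MQ.Loc.Om
import Cfsg.Agent.MQ.A.Glob.Main
import Cfsg.Agent.H346.CoxA
import Cfsg.Agent.MK.C.Main_m3
import Cfsg.Agent.H886.Spin.Class
import Cfsg.Agent.H87.Spin.Ones
import Cfsg.Agent.CharactersDeep.AbelianQuotient
import Cfsg.Agent.H793.PC.Pi_m3
import Cfsg.Agent.H419.Count_m3
import Cfsg.Agent.MK.E.Mult_m3
import Cfsg.Agent.MQ.Tri.Main
import Cfsg.Agent.S0892
import Cfsg.Agent.S2116
import Cfsg.Agent.S2119
import Cfsg.Agent.S2602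
import Cfsg.Agent.MQ.S.M35.Loc
import Cfsg.Agent.H348.PPD.Rows_m3
import Cfsg.Agent.MK.A.Six_m3
import Cfsg.Agent.H614.Chars
import Cfsg.Agent.Blocks.Knorr
import Cfsg.Agent.H886.Spin.WV
import Cfsg.Agent.MQ.Df.G23.Cls
import Cfsg.Agent.S0173
import Cfsg.Agent.H96.Rad2.GTwoThree
import Cfsg.Agent.Lib.FinFast
import Cfsg.Agent.FastGrp
import Cfsg.Agent.Prune
set_option linter.all false
prune_inst 0x7fb0fcf829a821dfdfff7e3fae91dff801808fffe6dff943ffe961bf0b9f032309c56b8109e010fe8e96c01410b87803f97eaefde863dc7ffffd5ff41ffbee0fe5f6b50111d488240f302ff603f177886f3fffffffffdffffffffff7ffffffffffbff3feffff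
open scoped Cfsg.Agent.FastGrp

-- part: MO/X/Row
section
/-!
# MO, the exceptional covers: the row (helper50)

* `split` : the primes which divide the order once; `cen_dvd` : the order of the centre; `ti_l34` : `L₃(4)`;
* `l32`, `l34`, `u42`, `u62`, `s62`, `o82`, `g24`, `f42`, `e62`, `sz8`, `u43`, `o73`, `g23` : the groups;
* `exc_of` : the row.
-/

set_option autoImplicit false

namespace Cfsg.Agent.MO.XR

open Cfsg Subgroup Cfsg.Agent.MO.S Cfsg.Agent.MO.TI Cfsg.Agent.MO.X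

variable {p : ℕ} [hp : Fact p.Prime] {X H : Type} [Group X] [Finite X] [Group H] {Γ : Subgroup (MulAut X)}

/-! ### tools -/

theorem eqp {r k : ℕ} (hr : r.Prime) (h : p ∣ r ^ k) : p = r :=
  (Nat.prime_dvd_prime_iff_eq hp.out hr).1 (hp.out.dvd_of_dvd_pow h)

theorem c3 (h2 : p ≠ 2) {i j : ℕ} (h : p ∣ 2 ^ i * 3 ^ j) : p = 3 :=
  eqp Nat.prime_three ((hp.out.dvd_mul.1 h).resolve_left fun e => h2 (eqp Nat.prime_two e))

theorem c5 (h2 : p ≠ 2) {i j k : ℕ} (h : p ∣ 2 ^ i * 3 ^ j * 5 ^ k) : p = 3 ∨ p = 5 :=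
  (hp.out.dvd_mul.1 h).imp (c3 h2) (eqp Nat.prime_five)

theorem c7 (h2 : p ≠ 2) {i j k l : ℕ} (h : p ∣ 2 ^ i * 3 ^ j * 5 ^ k * 7 ^ l) : p = 3 ∨ p = 5 ∨ p = 7 :=
  or_assoc.1 ((hp.out.dvd_mul.1 h).imp (c5 h2) (eqp (by norm_num)))

omit hp [Finite X] in
theorem cen_bot (s : Sit p X Γ) (e : X ⧸ center X ≃* H) : center H = ⊥ := XC.cen_bot (cv_of s e)

/-- the primes which divide the order once -/
theorem split (ae : AE p) (s : Sit p X Γ) (e : X ⧸ center X ≃* H) (a b : ℕ) {o : ℕ} (hN : Nat.card H = a * b)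
    (ho : Nat.card (Out H) = o) (h1 : (a * o).Coprime b) (h2 : Squarefree b) (h : p ∣ a → One p X Γ) : One p X Γ := by
  by_cases h3 : p ∣ a
  · exact h h3
  have h4 : p ∣ b := (hp.out.dvd_mul.1 (hN ▸ dvd_card s e)).resolve_left h3
  refine one_of_not_sq ae s e (fun h5 => hp.out.one_lt.ne' (Nat.eq_one_of_dvd_coprimes h1 ((ho ▸ h5).mul_left a) h4))
    fun h5 => hp.out.one_lt.ne' (Nat.isUnit_iff.1 (h2 p ?_))
  rw [hN] at h5
  exact pow_two p ▸ ((hp.out.coprime_iff_not_dvd.2 h3).pow_left 2).dvd_of_dvd_mul_left h5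

omit hp [Finite X] in
/-- the order of the centre divides the exponent of the multiplier -/
theorem cen_dvd (s : Sit p X Γ) (e : X ⧸ center X ≃* H) {A : Type} [CommGroup A] (hA : HasSchurMultiplier H A) (m : ℕ)
    (hm : ∀ a : A, a ^ m = 1) : Nat.card (center X) ∣ m := by
  have c := cv_of s e
  obtain ⟨f, hf⟩ := H95.StemCover.exists_surj_ker hA c.perf _ c.surj c.ker.le
  have hc : IsCyclic (pr e).ker := c.ker ▸ s.cyc
  rw [← c.ker, ← IsCyclic.exponent_eq_card]
  refine Monoid.exponent_dvd_of_forall_pow_eq_one fun g => ?_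
  obtain ⟨a, rfl⟩ := hf g
  rw [← map_pow, hm, map_one]

theorem dvd_of {n a : ℕ} (h : n ∣ 3 * a) (h3 : ¬ 3 ∣ n) : n ∣ a :=
  (Nat.prime_three.coprime_iff_not_dvd.2 h3).symm.dvd_of_dvd_mul_left h

open Cfsg.Agent.ONType.Psl Cfsg.Agent.H407.TI in
theorem ti_l34 [Fact (Nat.Prime 3)] (T : Sylow 3 PSL3) : S.TI (T : Subgroup PSL3) := by
  have := CpAut.SmallP.PslFour.finite_PSL3
  have h1 : Nat.card (T : Subgroup PSL3) = 3 ^ 2 := by
    rw [T.card_eq_multiplicity, ONType.PslCard.card_PSL3]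
    decide +kernel
  have h2 := IsPGroup.isMulCommutative_of_card_eq_prime_sq h1
  have h3 : ∀ x ∈ (T : Subgroup PSL3), x ≠ 1 → (T : Subgroup PSL3) = centralizer {x} := fun x hx h => by
    refine eq_of_le_of_card_ge (fun y hy => mem_centralizer_singleton_iff.2
      (congrArg Subtype.val (h2.is_comm.comm (⟨y, hy⟩ : (T : Subgroup PSL3)) ⟨x, hx⟩))) ?_
    rw [h1, card_cent_three (orderOf_eq_prime (cube_of_nine ?_) h)]
    · decide
    · exact congrArg Subtype.val (h1 ▸ pow_card_eq_one' (x := (⟨x, hx⟩ : (T : Subgroup PSL3))) :)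
  refine ti_iff.2 fun g x hx h4 h5 => mem_normalizer_fintype fun y hy => ?_
  refine (h3 _ h5 (by simpa only [_root_.ne_eq, _root_.conj_eq_one_iff] using h4)).ge (mem_centralizer_singleton_iff.2 ?_)
  rw [conj_mul, conj_mul, mem_centralizer_singleton_iff.1 ((h3 x hx h4).le hy)]

/-! ### the groups -/

variable {F : Type} [Field F] [Fintype F] (ae : AE p) (h2 : p ≠ 2) (s : Sit p X Γ)

theorem chp {r k : ℕ} [Fact r.Prime] (hF : Fintype.card F = r ^ k) : CharP F r := charP_of_card_eq_prime_pow hF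

include ae h2 s

theorem l32 (hF : Fintype.card F = 2) (e : X ⧸ center X ≃* Matrix.ProjectiveSpecialLinearGroup (Fin 3) F) : One p X Γ := by
  have h := S0243.result hF 3 (by norm_num)
  refine split ae s e (2 ^ 3) 21 (by norm_num only [Fin.prod_univ_succ, _root_.one_mul, _root_.Fin.coe_ofNat_eq_mod, _root_.pow_zero, _root_.Nat.add_one_sub_one, _root_.Fin.val_succ, _root_.zero_add, _root_.pow_one, _root_.Finset.univ_unique, _root_.Fin.default_eq_zero, _root_.Fin.val_eq_zero, _root_.Finset.prod_const, _root_.Finset.card_singleton] at h; omega)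
    (H163.PG.card_out_psl (f := 1) Nat.prime_two le_rfl hF le_rfl (cen_bot s e)) (by rw [hF]; decide +kernel)
    (by decide +kernel) fun h => absurd (eqp Nat.prime_two h) h2

theorem l34 (hF : Fintype.card F = 4) (e : X ⧸ center X ≃* Matrix.ProjectiveSpecialLinearGroup (Fin 3) F)
    (hz : 2 ∣ Nat.card (center X)) : One p X Γ := by
  have h := S0243.result hF 3 (by norm_num)
  refine split ae s e (2 ^ 6 * 3 ^ 2) 35 (by norm_num only [Fin.prod_univ_succ, _root_.Fin.coe_ofNat_eq_mod, _root_.pow_zero, _root_.Nat.add_one_sub_one, _root_.Fin.val_succ, _root_.zero_add, _root_.pow_one, _root_.Finset.univ_unique, _root_.Fin.default_eq_zero, _root_.Fin.val_eq_zero, _root_.Finset.prod_const, _root_.Finset.card_singleton] at h; omega)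
    (H163.PG.card_out_psl (f := 2) Nat.prime_two (by decide) hF le_rfl (cen_bot s e)) (by rw [hF]; decide +kernel)
    (by decide +kernel) fun h => ?_
  obtain rfl := c3 h2 h
  obtain ⟨e'⟩ := SporadicA.FieldFour.nonempty_psl_equiv (n := Fin 3) F hF
  exact one_of_ti' ae s (e.trans e'.symm) (fun h => XC.n3_l34 hF X _ _ (cv_of s e) hz
    (h.trans (relIndex_dvd_index_of_normal _ _))) default (ti_l34 _)

theorem u42 (dfn : Row1 p fun S _ => IsLieTypeChar p S) (b : Bi p Γ) (hF : Fintype.card F = 2 ^ 2)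
    (e : X ⧸ center X ≃* PSU 4 F 2) : One p X Γ := by
  have h := S0280.result hF 4 (by norm_num)
  refine split ae s e (2 ^ 6 * 3 ^ 4) 5 (by norm_num only [Finset.prod_range_succ, Nat.even_iff, _root_.one_mul, _root_.Finset.range_one, _root_.Finset.prod_singleton, _root_.ite_true, _root_.ite_false] at h; omega)
    (H163.PG.card_out_psu (f := 1) Nat.prime_two le_rfl rfl hF (by decide) (by decide) (cen_bot s e)) (by decide +kernel)
    (by decide +kernel) fun h => ?_
  obtain rfl := c3 h2 h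
  obtain ⟨e'⟩ := S0822.result hF (ZMod.card 3)
  exact dfn X (.inr (.inl ⟨ZMod 3, inferInstance, inferInstance, inferInstance, 2, le_rfl, fun _ => (ZMod.card 3).ge,
    ⟨e.trans e'⟩⟩)) Γ s b

theorem sz8 (hF : Fintype.card F = 8) (e : X ⧸ center X ≃* Lie.Sz F 4) : One p X Γ :=
  split ae s e (2 ^ 6) 455 (by exact (S1163.result (m := 1) le_rfl hF).1) (S2126.result (m := 1) le_rfl hF) (by decide +kernel)
    (by decide +kernel) fun h => absurd (eqp Nat.prime_two h) h2

theorem u43 (h3 : 3 ≠ p) (hF : Fintype.card F = 3 ^ 2) (e : X ⧸ center X ≃* PSU 4 F 3) : One p X Γ := by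
  have h := S0280.result hF 4 (by norm_num)
  exact split ae s e (2 ^ 7 * 3 ^ 6) 35 (by norm_num only [Finset.prod_range_succ, Nat.even_iff, _root_.Finset.range_one, _root_.Finset.prod_singleton, _root_.ite_true, _root_.ite_false] at h; omega)
    (H163.PG.card_out_psu (f := 1) Nat.prime_three le_rfl rfl hF (by decide) (by decide) (cen_bot s e))
    (by decide +kernel) (by decide +kernel) fun h => absurd (c3 h2 h).symm h3

theorem o73 (h3 : 3 ≠ p) (hF : Fintype.card F = 3) (e : X ⧸ center X ≃* POmega F (quadFormOdd 3 F)) : One p X Γ := by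
  have h := S0292.result hF (by decide) 3 le_rfl
  exact split ae s e (2 ^ 9 * 3 ^ 9) 455 (by norm_num only [Finset.prod_range_succ] at h; omega)
    (H163.PG.card_out_oodd (f := 1) Nat.prime_three le_rfl hF (by rw [hF]; decide) le_rfl (cen_bot s e))
    (by decide +kernel) (by decide +kernel) fun h => absurd (c3 h2 h).symm h3

theorem g23 (h3 : 3 ≠ p) (hF : Fintype.card F = 3) (e : X ⧸ center X ≃* Lie.chevG2.group F) : One p X Γ :=
  have := Fact.mk Nat.prime_three
  have := chp (r := 3) (k := 1) hF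
  split ae s e (2 ^ 6 * 3 ^ 6) 91 ((by exact S1059.result hF)) (S2121.result 3 1 hF le_rfl) (by decide +kernel) (by decide +kernel)
    fun h => absurd (c3 h2 h).symm h3

variable (i : ExcIn) (hz : 2 ∣ Nat.card (center X))
include i hz

theorem u62 (hF : Fintype.card F = 2 ^ 2) (e : X ⧸ center X ≃* PSU 6 F 2) : One p X Γ := by
  refine split ae s e (2 ^ 15 * 3 ^ 6) 385 (OrdCrit.card_u6 hF)
    (H163.PG.card_out_psu (f := 1) Nat.prime_two le_rfl rfl hF (by decide) (by decide) (cen_bot s e)) (by decide +kernel)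
    (by decide +kernel) fun h => ?_
  obtain rfl := c3 h2 h
  exact one_of_smC s e (Nat.dvd_antisymm (dvd_of (cen_dvd s e (S2091.result hF) (3 * 2) (by decide +kernel)) s.cop) hz)
    (i.u62_2_3 F hF)

theorem s62 (hF : Fintype.card F = 2) (e : X ⧸ center X ≃* PSp 3 F) : One p X Γ := by
  refine split ae s e (2 ^ 9 * 3 ^ 4) 35 (OrdCrit.card_sp6 hF)
    (H163.PG.card_out_psp (f := 1) Nat.prime_two le_rfl hF (by decide) (by omega) (cen_bot s e)) (by decide +kernel)
    (by decide +kernel) fun h => ?_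
  obtain rfl := c3 h2 h
  exact one_of_smC s e (Nat.dvd_antisymm (cen_dvd s e (S2093.result hF) 2 (by decide)) hz) (i.s62_2_3 F hF)

theorem o82 (hF : Fintype.card F = 2) (e : X ⧸ center X ≃* POmega F (quadFormPlus 4 F)) : One p X Γ := by
  have := Fact.mk Nat.prime_two
  have : Finite (POmega F (quadFormPlus 4 F)) := Finite.of_surjective _ (cv_of s e).surj
  have h1 := Nat.dvd_antisymm (cen_dvd s e (S2098.result hF) 2 (by decide)) hz
  refine split ae s e (2 ^ 12 * 3 ^ 5 * 5 ^ 2) 7 (OrdCrit.card_o8 hF)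
    (H163.PG.card_out_of_aut (cen_bot s e) (S0817.result 2 1 le_rfl hF 4 le_rfl)) (by decide +kernel)
    (by decide +kernel) fun h => ?_
  obtain rfl | rfl := c5 h2 h
  exacts [one_of_smC s e h1 (i.o82_2_3 F hF), one_of_smC s e h1 (i.o82_2_5 F hF)]

theorem g24 (hF : Fintype.card F = 4) (e : X ⧸ center X ≃* Lie.chevG2.group F) : One p X Γ := by
  have := Fact.mk Nat.prime_two
  have := chp (r := 2) (k := 2) hF
  have h1 := Nat.dvd_antisymm (cen_dvd s e (S2102.result hF) 2 (by decide)) hz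
  refine split ae s e (2 ^ 12 * 3 ^ 3 * 5 ^ 2) 91 (S1059.result hF) (S2121.result 2 2 hF (by decide)) (by decide +kernel)
    (by decide +kernel) fun h => ?_
  obtain rfl | rfl := c5 h2 h
  exacts [one_of_smC s e h1 (i.g24_2_3 F hF), one_of_smC s e h1 (i.g24_2_5 F hF)]

theorem f42 (hF : Fintype.card F = 2) (e : X ⧸ center X ≃* Lie.chevF4.group F) : One p X Γ := by
  have := Fact.mk Nat.prime_two
  have := chp (r := 2) (k := 1) hF
  have h1 := Nat.dvd_antisymm (cen_dvd s e (S2104.result hF) 2 (by decide)) hz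
  refine split ae s e (2 ^ 24 * 3 ^ 6 * 5 ^ 2 * 7 ^ 2) 221 (OrdCrit.card_f4 hF) (S2122.result 2 1 hF) (by decide +kernel)
    (by decide +kernel) fun h => ?_
  obtain rfl | rfl | rfl := c7 h2 h
  exacts [one_of_smC s e h1 (i.f42_2_3 F hF), one_of_smC s e h1 (i.f42_2_5 F hF), one_of_smC s e h1 (i.f42_2_7 F hF)]

theorem e62 (hF : Fintype.card F = 2 ^ 2) (e : X ⧸ center X ≃* Lie.twistedE6 F 2) : One p X Γ := by
  have := Fact.mk Nat.prime_two
  have := chp hF
  have h := S1066.result Nat.prime_two.isPrimePow hF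
  have h1 := cen_dvd s e (S2109.result hF) (3 * 2) (by decide +kernel)
  have h3 : Nat.card (center X) = 2 ∨ Nat.card (center X) = 6 := by
    have h4 := Nat.le_of_dvd (by decide) h1
    generalize Nat.card (center X) = n at *
    interval_cases n <;> simp_all only [_root_.ne_eq, _root_.Nat.reducePow, _root_.Nat.reduceAdd, _root_.Nat.gcd_self, _root_.Nat.add_one_sub_one, _root_.Nat.reduceMul, _root_.dvd_zero, _root_.zero_dvd_iff, _root_.OfNat.ofNat_ne_zero, _root_.Nat.dvd_one, _root_.OfNat.ofNat_ne_one, _root_.dvd_refl, _root_.Nat.reduceDvd, _root_.Nat.reduceLeDiff, _root_.Nat.reduceEqDiff, _root_.or_false, _root_.Std.le_refl, _root_.or_true]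
  refine split ae s e (2 ^ 36 * 3 ^ 9 * 5 ^ 2 * 7 ^ 2) 46189 (by norm_num only [] at h; omega) (S2130.result 2 1 hF le_rfl)
    (by decide +kernel) (by decide +kernel) fun h => ?_
  obtain rfl | rfl | rfl := c7 h2 h
  · exact one_of_smC s e (Nat.dvd_antisymm (dvd_of h1 s.cop) hz) (i.e62_2_3 F hF)
  · exact h3.elim (one_of_smC s e · (i.e62_2_5 F hF)) (one_of_smC s e · (i.e62_6_5 F hF))
  · exact h3.elim (one_of_smC s e · (i.e62_2_7 F hF)) (one_of_smC s e · (i.e62_6_7 F hF))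

end Cfsg.Agent.MO.XR

namespace Cfsg.Agent.MO.X

open Cfsg Subgroup Cfsg.Agent.H912.Bd Cfsg.Agent.MO.XR

/-- **the exceptional covers** -/
theorem exc_of {p : ℕ} [Fact p.Prime] (ae : S.AE p) (hp : p ≠ 2) (i : ExcIn) (alt : Row1 p fun S _ => IsAlternating S)
    (dfn : Row1 p fun S _ => IsLieTypeChar p S) : Exc p := by
  intro X _ _ r hr hrp h hz Γ s b
  rcases noR_of_lieTypeChar.{0} hr h with h | h
  swap
  · have h1 := h X s.qs.1.commutator_eq_top (QuotientGroup.mk' _) (QuotientGroup.mk'_surjective _)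
      (QuotientGroup.ker_mk' _).le
    rw [QuotientGroup.ker_mk'] at h1
    exact absurd hz (hr.coprime_iff_not_dvd.1 h1.symm)
  rcases h with ⟨rfl, h | h | h | h | h | h | h | h | h | h | h | h⟩ | ⟨rfl, h | h | h | h⟩ <;>
    obtain ⟨F, _, _, hF, ⟨e⟩⟩ := h
  · exact (S0252.result hF).elim fun e' => alt X ⟨5, le_rfl, ⟨e.trans e'⟩⟩ Γ s b
  · exact l32 ae hp s hF e
  · exact l34 ae hp s hF e hz
  · exact (S0256.result hF).elim fun e' => alt X ⟨8, by decide, ⟨e.trans e'⟩⟩ Γ s b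
  · exact u42 ae hp s dfn b hF e
  · exact u62 ae hp s i hz hF e
  · exact s62 ae hp s i hz hF e
  · exact o82 ae hp s i hz hF e
  · exact g24 ae hp s i hz hF e
  · exact f42 ae hp s i hz hF e
  · exact e62 ae hp s i hz hF e
  · exact sz8 ae hp s hF e
  · exact (S0254.result hF).elim fun e' => alt X ⟨6, by decide, ⟨e.trans e'⟩⟩ Γ s b
  · exact u43 ae hp s hrp hF e
  · exact o73 ae hp s hrp hF e
  · exact g23 ae hp s hrp hF e

end Cfsg.Agent.MO.X
end

-- part: MO/A/W/Pair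
section
/-!
# MO, twisted wreath products: the pair lemma with signs, and the lemma of Schur (helper37)

* `Van s χ` : `χ` vanishes on the elements of sign `-1`; `nb p z s` : the number of the `p'`-characters with `χ z = - χ 1`
  and `Van s χ`;
* `pairS`, `pairZ`, `pairO` : the pair lemma of `MO/C/Pair` with signs;
* `exists_lin` : an invariant linear character of the kernel of `F → Perm α` which is trivial on the commutators of lifts
  of disjoint transpositions extends to `F`.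
-/

set_option autoImplicit false

namespace Cfsg.Agent.MO.A.W

open Cfsg Subgroup Equiv
open Cfsg.Agent.Characters.Core Cfsg.Agent.Characters.Clifford Cfsg.Agent.H672
open Cfsg.Agent.MK.C (Nr sum_reg)
open scoped ComplexConjugate

section sign

variable {G : Type} [Group G]

/-- `χ` vanishes on the elements of sign `-1` -/
def Van (s : G →* ℤˣ) (χ : G → ℂ) : Prop := ∀ g, s g = -1 → χ g = 0

/-- the number of the `p'`-characters with `χ z = - χ 1` which vanish on the elements of sign `-1` -/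
noncomputable def nb (p : ℕ) (z : G) (s : G →* ℤˣ) : ℕ := Nat.card {χ : G → ℂ // PI p G χ ∧ χ z = -χ 1 ∧ Van s χ}

/-- the sign as a linear character -/
noncomputable def sg (s : G →* ℤˣ) : G →* ℂˣ := (Units.map (Int.castRingHom ℂ).toMonoidHom).comp s

theorem sg_one {s : G →* ℤˣ} {g : G} (h : s g = 1) : (sg s g : ℂ) = 1 := by simp only [sg, h, _root_.RingHom.toMonoidHom_eq_coe, _root_.MonoidHom.coe_comp, _root_.Function.comp_apply, _root_.map_one, _root_.Units.val_one]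

theorem sg_neg {s : G →* ℤˣ} {g : G} (h : s g = -1) : (sg s g : ℂ) = -1 := by simp only [sg, h, _root_.RingHom.toMonoidHom_eq_coe, _root_.MonoidHom.coe_comp, _root_.Function.comp_apply, _root_.Units.map_neg, _root_.map_one, _root_.Units.val_neg, _root_.Units.val_one]

theorem van_one (χ : G → ℂ) : Van 1 χ := fun _ h => absurd h (by decide : ¬ (1 : ℤˣ) = -1)

theorem van_iff {s : G →* ℤˣ} {χ : G → ℂ} : Van s χ ↔ (fun g => (sg s g : ℂ) * χ g) = χ := by
  refine ⟨fun h => funext fun g => ?_, fun h g hg => ?_⟩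
  · rcases Int.units_eq_one_or (s g) with e | e
    · rw [sg_one e, one_mul]
    · rw [h g e, mul_zero]
  · have h1 := congrFun h g
    rw [sg_neg hg] at h1
    linear_combination (-1 / 2 : ℂ) * h1

theorem pi_sg {p : ℕ} (s : G →* ℤˣ) {χ : G → ℂ} (h : PI p G χ) : PI p G fun g => (sg s g : ℂ) * χ g :=
  ⟨ODD.Red.isIrr_lin_mul _ h.1, by
    rw [ODD.Red.charDegree_congr (ψ := χ) (by rw [map_one, Units.val_one, one_mul])]
    exact h.2⟩

end sign

section comb

variable {I J : Type} [Fintype I] [Fintype J] (M : I → J → ℕ) (u a : I → ℕ) (v b : J → ℕ) {c c' : ℕ}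

theorem comb_eq (hc : 0 < c) (hc' : 0 < c') (hu : ∀ i, 0 < u i) (hv : ∀ j, 0 < v j)
    (h1 : ∀ j, ∑ i, u i * M i j = c * b j) (h2 : ∀ i, ∑ j, v j * M i j = c' * a i)
    (h3 : ∀ i, a i ≠ 0 → u i = a i * c) (h4 : ∀ j, b j ≠ 0 → v j = b j * c') {i : I} {j : J} (h : M i j ≠ 0) :
    a i ≠ 0 ∧ a i = b j := by
  have e1 : u i ≤ c * b j := (Nat.le_mul_of_pos_right _ (Nat.pos_of_ne_zero h)).trans
    ((Finset.single_le_sum (f := fun i => u i * M i j) (fun _ _ => Nat.zero_le _) (Finset.mem_univ i)).trans (h1 j).le)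
  have e2 : v j ≤ c' * a i := (Nat.le_mul_of_pos_right _ (Nat.pos_of_ne_zero h)).trans
    ((Finset.single_le_sum (f := fun j => v j * M i j) (fun _ _ => Nat.zero_le _) (Finset.mem_univ j)).trans (h2 i).le)
  have ha : a i ≠ 0 := fun h0 => by
    rw [h0, mul_zero] at e2
    exact absurd (hv j) (by omega)
  have hb : b j ≠ 0 := fun h0 => by
    rw [h0, mul_zero] at e1
    exact absurd (hu i) (by omega)
  rw [h3 i ha, mul_comm] at e1
  rw [h4 j hb, mul_comm] at e2
  exact ⟨ha, le_antisymm (Nat.le_of_mul_le_mul_left e1 hc) (Nat.le_of_mul_le_mul_left e2 hc')⟩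

theorem comb_uniq (hc : 0 < c) (hc' : 0 < c') (hu : ∀ i, 0 < u i) (hv : ∀ j, 0 < v j)
    (h1 : ∀ j, ∑ i, u i * M i j = c * b j) (h2 : ∀ i, ∑ j, v j * M i j = c' * a i)
    (h3 : ∀ i, a i ≠ 0 → u i = a i * c) (h4 : ∀ j, b j ≠ 0 → v j = b j * c') {i i' : I} {j : J} (m1 : M i j ≠ 0)
    (m2 : M i' j ≠ 0) : i = i' := by
  classical
  by_contra hne
  obtain ⟨k1, k2⟩ := comb_eq M u a v b hc hc' hu hv h1 h2 h3 h4 m1
  have e1 : u i * M i j + u i' * M i' j ≤ c * b j := by
    rw [← h1, ← Finset.sum_pair (f := fun i => u i * M i j) hne]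
    exact Finset.sum_le_sum_of_subset (Finset.subset_univ _)
  rw [← k2, mul_comm c, ← h3 _ k1] at e1
  have e2 : u i ≤ u i * M i j := Nat.le_mul_of_pos_right _ (Nat.pos_of_ne_zero m1)
  have e3 : 0 < u i' * M i' j := Nat.mul_pos (hu _) (Nat.pos_of_ne_zero m2)
  omega

theorem comb_le (hc : 0 < c) (hc' : 0 < c') (hu : ∀ i, 0 < u i) (hv : ∀ j, 0 < v j)
    (h1 : ∀ j, ∑ i, u i * M i j = c * b j) (h2 : ∀ i, ∑ j, v j * M i j = c' * a i)
    (h3 : ∀ i, a i ≠ 0 → u i = a i * c) (h4 : ∀ j, b j ≠ 0 → v j = b j * c') (P : ℕ → Prop) (σ : I → I) (τ : J → J)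
    (h5 : ∀ i j, M (σ i) (τ j) = M i j) :
    Nat.card {i // P (a i) ∧ a i ≠ 0 ∧ σ i = i} ≤ Nat.card {j // P (b j) ∧ b j ≠ 0 ∧ τ j = j} := by
  have k4 : ∀ i, a i ≠ 0 → ∃ j, M i j ≠ 0 := fun i h => by
    by_contra hcon
    push Not at hcon
    have e := h2 i
    simp only [hcon, mul_zero, Finset.sum_const_zero] at e
    exact Nat.mul_ne_zero hc'.ne' h e.symm
  choose g hg using k4
  refine Nat.card_le_card_of_injective (fun i => ⟨g i.1 i.2.2.1, ?_⟩) fun i i' h => ?_
  · have m := hg i.1 i.2.2.1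
    rw [← (comb_eq M u a v b hc hc' hu hv h1 h2 h3 h4 m).2]
    refine ⟨i.2.1, i.2.2.1, comb_uniq (fun j i => M i j) v b u a hc' hc hv hu h2 h1 h4 h3 (j := i.1) ?_ m⟩
    exact fun h => m ((h5 _ _).symm.trans ((congrArg (M · _) i.2.2.2).trans h))
  · have e : g i.1 i.2.2.1 = g i'.1 i'.2.2.1 := congrArg Subtype.val h
    exact Subtype.ext (comb_uniq M u a v b hc hc' hu hv h1 h2 h3 h4 (hg i.1 i.2.2.1) (e ▸ hg i'.1 i'.2.2.1))

end comb

section pair

variable {r : ℕ} [Fact r.Prime] {A B F D E : Type} [Group A] [Group B] [Group F] [Group D] [Group E] [Finite A] [Finite B]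
  [Finite F] [Finite D] [Finite E]

/-- **the pair lemma with signs** -/
theorem pairS (p : F →* A) (q : F →* B) (s : D →* F) (t : E →* F) (hs : s.range = q.ker)
    (ht : t.range = p.ker) {φ : A → D → D} {φ' : B → E → E} (hφ : Nr (p.comp s) φ) (hφ' : Nr (q.comp t) φ')
    {Θ : D → ℂ} {Θ' : E → ℂ} (hΘ : IsIrrCharacter D Θ) (hΘ' : IsIrrCharacter E Θ')
    (hp : ∀ a, a ∈ p.range ↔ ∀ d, Θ (φ a d) = Θ d) (hq : ∀ b, b ∈ q.range ↔ ∀ e, Θ' (φ' b e) = Θ' e)
    {Ψ : F → ℂ} (hΨ : IsCharacter F Ψ) (h1 : ∀ d, Ψ (s d) = Θ d * conj (Θ' 1)) (h2 : ∀ e, Ψ (t e) = Θ 1 * conj (Θ' e))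
    (ho : ¬ r ∣ p.range.index * charDegree Θ ↔ ¬ r ∣ q.range.index * charDegree Θ') (sA : A →* ℤˣ) (sB : B →* ℤˣ)
    (h3 : ∀ x, sA (p x) ≠ sB (q x) → Ψ x = 0) :
    Nat.card {χ : A → ℂ // PI r A χ ∧ Over (p.comp s) χ Θ ∧ Van sA χ} =
      Nat.card {η : B → ℂ // PI r B η ∧ Over (q.comp t) η Θ' ∧ Van sB η} := by
  classical
  have := Fintype.ofFinite F
  have := Fintype.ofFinite D
  have := Fintype.ofFinite E
  have := finite_irr (G := A)
  have := finite_irr (G := B)
  have := Fintype.ofFinite (IrrCharacter A)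
  have := Fintype.ofFinite (IrrCharacter B)
  choose M hM using fun (χ : IrrCharacter A) (η : IrrCharacter B) => classInner_isNat
    (isCharacter_mul hΨ (isCharacter_comp q (isIrr_isCharacter η.2))) (isCharacter_comp p (isIrr_isCharacter χ.2))
  have hM' : ∀ (χ : IrrCharacter A) (η : IrrCharacter B),
      classInner ((fun x => conj (Ψ x)) * ((χ : A → ℂ) ∘ p)) ((η : B → ℂ) ∘ q) = M χ η := fun χ η => by
    rw [← Complex.conj_natCast, ← hM, classInner_def, classInner_def, map_mul, map_inv₀, map_natCast, map_sum]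
    congr 1
    refine Finset.sum_congr rfl fun x _ => ?_
    simp only [Pi.mul_apply, map_mul, Complex.conj_conj]
    ring
  choose a ha using fun χ : IrrCharacter A =>
    classInner_isNat (isCharacter_comp (p.comp s) (isIrr_isCharacter χ.2)) (isIrr_isCharacter hΘ)
  choose b hb using fun η : IrrCharacter B =>
    classInner_isNat (isCharacter_comp (q.comp t) (isIrr_isCharacter η.2)) (isIrr_isCharacter hΘ')
  have hc : 0 < p.range.index * charDegree Θ :=
    Nat.mul_pos (Nat.pos_of_ne_zero index_ne_zero_of_finite) (charDegree_pos hΘ)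
  have hc' : 0 < q.range.index * charDegree Θ' :=
    Nat.mul_pos (Nat.pos_of_ne_zero index_ne_zero_of_finite) (charDegree_pos hΘ')
  have s1 : ∀ η, ∑ χ : IrrCharacter A, charDegree (χ : A → ℂ) * M χ η = p.range.index * charDegree Θ * b η := fun η => by
    have h := sum_reg p t ht (Ψ * ((η : B → ℂ) ∘ q))
    simp only [hM] at h
    have h' : (Nat.card E : ℂ)⁻¹ * ∑ d, (Ψ * ((η : B → ℂ) ∘ q)) (t d) = charDegree Θ * b η := by
      rw [← hb, classInner_def, coe_charDegree hΘ, mul_left_comm, Finset.mul_sum _ _ (Θ 1)]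
      congr 1
      refine Finset.sum_congr rfl fun e _ => ?_
      simp only [Pi.mul_apply, h2, Function.comp, MonoidHom.comp_apply]
      ring
    rw [h', ← mul_assoc] at h
    exact_mod_cast h
  have s2 : ∀ χ, ∑ η : IrrCharacter B, charDegree (η : B → ℂ) * M χ η = q.range.index * charDegree Θ' * a χ := fun χ => by
    have h := sum_reg q s hs ((fun x => conj (Ψ x)) * ((χ : A → ℂ) ∘ p))
    simp only [hM'] at h
    have h' : (Nat.card D : ℂ)⁻¹ * ∑ d, ((fun x => conj (Ψ x)) * ((χ : A → ℂ) ∘ p)) (s d) = charDegree Θ' * a χ := by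
      rw [← ha, classInner_def, coe_charDegree hΘ', mul_left_comm, Finset.mul_sum _ _ (Θ' 1)]
      congr 1
      refine Finset.sum_congr rfl fun e _ => ?_
      simp only [Pi.mul_apply, h1, Function.comp, MonoidHom.comp_apply, map_mul, Complex.conj_conj]
      ring
    rw [h', ← mul_assoc] at h
    exact_mod_cast h
  have d1 : ∀ χ, a χ ≠ 0 → charDegree (χ : A → ℂ) = a χ * (p.range.index * charDegree Θ) := fun χ h =>
    hφ.deg_eq χ.2 hΘ hp (ha χ) h
  have d2 : ∀ η, b η ≠ 0 → charDegree (η : B → ℂ) = b η * (q.range.index * charDegree Θ') := fun η h =>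
    hφ'.deg_eq η.2 hΘ' hq (hb η) h
  let σ : IrrCharacter A → IrrCharacter A := fun χ => ⟨_, ODD.Red.isIrr_lin_mul (sg sA) χ.2⟩
  let τ : IrrCharacter B → IrrCharacter B := fun η => ⟨_, ODD.Red.isIrr_lin_mul (sg sB) η.2⟩
  have d3 : ∀ χ η, M (σ χ) (τ η) = M χ η := fun χ η => by
    have h : (M (σ χ) (τ η) : ℂ) = M χ η := by
      rw [← hM, ← hM, classInner_def, classInner_def]
      congr 1
      refine Finset.sum_congr rfl fun x _ => ?_
      change Ψ x * (sg sB (q x) * η.1 (q x)) * conj (sg sA (p x) * χ.1 (p x)) = Ψ x * η.1 (q x) * conj (χ.1 (p x))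
      by_cases e : sA (p x) = sB (q x)
      · rcases Int.units_eq_one_or (sB (q x)) with e' | e'
        · rw [sg_one e', sg_one (e.trans e'), one_mul, one_mul]
        · rw [sg_neg e', sg_neg (e.trans e'), map_mul, map_neg, map_one]
          ring
      · rw [h3 x e, zero_mul, zero_mul, zero_mul, zero_mul]
    exact_mod_cast h
  let P : ℕ → Prop := fun n => ¬ r ∣ n ∧ ¬ r ∣ p.range.index * charDegree Θ
  have e1 : Nat.card {χ : A → ℂ // PI r A χ ∧ Over (p.comp s) χ Θ ∧ Van sA χ} =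
      Nat.card {χ // P (a χ) ∧ a χ ≠ 0 ∧ σ χ = χ} := by
    have k : ∀ χ : IrrCharacter A, Over (p.comp s) χ Θ ↔ a χ ≠ 0 := fun χ => by rw [over_iff, ha, Nat.cast_ne_zero]
    exact Nat.card_congr
      { toFun := fun χ => ⟨⟨χ.1, χ.2.1.1⟩, nd_mul.1 (d1 _ ((k ⟨χ.1, χ.2.1.1⟩).1 χ.2.2.1) ▸ χ.2.1.2),
          (k ⟨χ.1, χ.2.1.1⟩).1 χ.2.2.1, Subtype.ext (van_iff.1 χ.2.2.2)⟩
        invFun := fun χ => ⟨χ.1.1, ⟨χ.1.2, (d1 _ χ.2.2.1).symm ▸ nd_mul.2 χ.2.1⟩, (k χ.1).2 χ.2.2.1,
          van_iff.2 (congrArg Subtype.val χ.2.2.2)⟩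
        left_inv := fun _ => rfl
        right_inv := fun _ => rfl }
  have e2 : Nat.card {η : B → ℂ // PI r B η ∧ Over (q.comp t) η Θ' ∧ Van sB η} =
      Nat.card {η // P (b η) ∧ b η ≠ 0 ∧ τ η = η} := by
    have k : ∀ η : IrrCharacter B, Over (q.comp t) η Θ' ↔ b η ≠ 0 := fun η => by rw [over_iff, hb, Nat.cast_ne_zero]
    have k' : ∀ n, P n ↔ ¬ r ∣ n * (q.range.index * charDegree Θ') := fun n => by rw [nd_mul, ← ho]
    exact Nat.card_congr
      { toFun := fun η => ⟨⟨η.1, η.2.1.1⟩, (k' _).2 (d2 _ ((k ⟨η.1, η.2.1.1⟩).1 η.2.2.1) ▸ η.2.1.2),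
          (k ⟨η.1, η.2.1.1⟩).1 η.2.2.1, Subtype.ext (van_iff.1 η.2.2.2)⟩
        invFun := fun η => ⟨η.1.1, ⟨η.1.2, (d2 _ η.2.2.1).symm ▸ (k' _).1 η.2.1⟩, (k η.1).2 η.2.2.1,
          van_iff.2 (congrArg Subtype.val η.2.2.2)⟩
        left_inv := fun _ => rfl
        right_inv := fun _ => rfl }
  rw [e1, e2]
  exact le_antisymm
    (comb_le M _ a _ b hc hc' (fun χ => charDegree_pos χ.2) (fun η => charDegree_pos η.2) s1 s2 d1 d2 P σ τ d3)
    (comb_le (fun η χ => M χ η) _ b _ a hc' hc (fun η => charDegree_pos η.2) (fun χ => charDegree_pos χ.2) s2 s1 d2 d1 P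
      τ σ fun η χ => d3 χ η)

/-- the second triple is central -/
theorem pairC (p : F →* A) (q : F →* B) (s : D →* F) (hs : s.range = q.ker) (hq : Function.Surjective q)
    {φ : A → D → D} (hφ : Nr (p.comp s) φ) {Θ : D → ℂ} (hΘ : IsIrrCharacter D Θ)
    (hp : ∀ a, a ∈ p.range ↔ ∀ d, Θ (φ a d) = Θ d) {Ψ : F → ℂ} (hΨ : IsCharacter F Ψ) (h1 : ∀ d, Ψ (s d) = Θ d)
    (c : p.ker →* ℂˣ) (hc : ∀ k : p.ker, q k ∈ center B) (h2 : ∀ k : p.ker, Ψ k = Θ 1 * conj (c k : ℂ))
    (ho : ¬ r ∣ p.range.index * charDegree Θ) (sA : A →* ℤˣ) (sB : B →* ℤˣ) (h3 : ∀ x, sA (p x) ≠ sB (q x) → Ψ x = 0) :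
    Nat.card {χ : A → ℂ // PI r A χ ∧ Over (p.comp s) χ Θ ∧ Van sA χ} =
      Nat.card {η : B → ℂ // PI r B η ∧ (∀ k : p.ker, η (q k) = η 1 * c k) ∧ Van sB η} := by
  have e : q.range = ⊤ := MonoidHom.range_eq_top.2 hq
  rw [pairS p q s p.ker.subtype hs (range_subtype _) hφ (φ' := fun _ k => k)
    (fun b k => eq_mul_inv_of_mul_eq (mem_center_iff.1 (hc k) b).symm) hΘ (isIrr_lf c) hp
    (fun b => ⟨fun _ _ => rfl, fun _ => hq b⟩) hΨ (fun d => by rw [h1, lf_apply, map_one, Units.val_one, map_one, mul_one])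
    h2 (iff_of_true ho (by
      rw [e, index_top, charDegree_of_eq (n := 1) (by rw [lf_apply, map_one, Units.val_one, Nat.cast_one])]
      exact nd_one)) sA sB h3]
  exact T.card_iff fun η hη => and_congr_left fun _ => RM.over_lin_iff (q.comp p.ker.subtype) hc hη.1 c

/-- the second triple is `(B, ⟨z⟩, -1)` -/
theorem pairZ (p : F →* A) (q : F →* B) (s : D →* F) (hs : s.range = q.ker) (hq : Function.Surjective q)
    {φ : A → D → D} (hφ : Nr (p.comp s) φ) {Θ : D → ℂ} (hΘ : IsIrrCharacter D Θ)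
    (hp : ∀ a, a ∈ p.range ↔ ∀ d, Θ (φ a d) = Θ d) {Ψ : F → ℂ} (hΨ : IsCharacter F Ψ) (h1 : ∀ d, Ψ (s d) = Θ d)
    {z : B} (hz : z ≠ 1) (hz' : z ∈ center B) (h0 : ∃ k, p k = 1 ∧ q k = z)
    (h2 : ∀ k, p k = 1 → q k = 1 ∧ Ψ k = Θ 1 ∨ q k = z ∧ Ψ k = -Θ 1)
    (ho : ¬ r ∣ p.range.index * charDegree Θ) (sA : A →* ℤˣ) (sB : B →* ℤˣ) (h3 : ∀ x, sA (p x) ≠ sB (q x) → Ψ x = 0) :
    Nat.card {χ : A → ℂ // PI r A χ ∧ Over (p.comp s) χ Θ ∧ Van sA χ} = nb r z sB := by
  classical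
  obtain ⟨k₀, k1, k2⟩ := h0
  have hzz : z * z = 1 := by
    rcases h2 (k₀ * k₀) (by rw [map_mul, k1, one_mul]) with h | h
    · rw [← k2, ← map_mul, h.1]
    · have h' := h.1
      rw [map_mul, k2] at h'
      exact absurd (mul_eq_left.1 h') hz
  let c : p.ker →* ℂˣ := MonoidHom.mk' (fun k => if q k = 1 then 1 else -1) fun a b => by
    rw [coe_mul, map_mul]
    rcases h2 a a.2 with h | h <;> rcases h2 b b.2 with h' | h' <;> simp [h.1, h'.1, hz, hzz]
  have hc : ∀ k : p.ker, c k = if q k = 1 then 1 else -1 := fun _ => rfl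
  rw [pairC p q s hs hq hφ hΘ hp hΨ h1 c (fun k => ?_) (fun k => ?_) ho sA sB h3]
  · refine T.card_iff fun η _ => and_congr_left fun _ => ⟨fun h => ?_, fun h k => ?_⟩
    · have h4 := h ⟨k₀, k1⟩
      rw [hc] at h4
      simpa [k2, hz] using h4
    · rw [hc]
      rcases h2 k k.2 with h' | h' <;> simp [h'.1, hz, h]
  · rcases h2 k k.2 with h | h
    · rw [h.1]; exact one_mem _
    · rw [h.1]; exact hz'
  · rw [hc]
    rcases h2 k k.2 with h | h <;> simp only [h.1, h.2, hz, ↓ _root_.reduceIte, _root_.Units.val_one, _root_.map_one, _root_.mul_one, _root_.Units.val_neg, _root_.map_neg, _root_.mul_neg]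

/-- the theorem of Gallagher -/
theorem pairO (q : A →* B) (s : D →* A) (hs : s.range = q.ker) (hq : Function.Surjective q)
    {φ : A → D → D} (hφ : Nr s φ) {Θ : D → ℂ} (hΘ : IsIrrCharacter D Θ) (hp : ∀ a d, Θ (φ a d) = Θ d) {Ψ : A → ℂ}
    (hΨ : IsCharacter A Ψ) (h1 : ∀ d, Ψ (s d) = Θ d) (ho : ¬ r ∣ charDegree Θ) (sA : A →* ℤˣ) (h3 : Van sA Ψ) :
    Nat.card {χ : A → ℂ // PI r A χ ∧ Over s χ Θ ∧ Van sA χ} = T.k0 r B := by
  have h := pairC (r := r) (MonoidHom.id A) q s hs hq hφ hΘ (fun a => iff_of_true ⟨a, rfl⟩ (hp a)) hΨ h1 1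
    (fun k => by rw [show (k : A) = 1 from k.2, map_one]; exact one_mem _)
    (fun k => by rw [show (k : A) = 1 from k.2, ← h1, map_one, MonoidHom.one_apply, Units.val_one, map_one, mul_one])
    (by rwa [MonoidHom.range_eq_top.2 Function.surjective_id, index_top, one_mul]) sA 1
    fun x hx => h3 x ((Int.units_eq_one_or _).resolve_left hx)
  refine h.trans (T.k0_eq_of fun η _ => ⟨fun k => ?_, van_one η⟩)
  rw [show (k : A) = 1 from k.2, map_one, MonoidHom.one_apply, Units.val_one, mul_one]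

end pair

section schur

variable {α : Type} [Fintype α] [DecidableEq α]

theorem exists_sec_fin {D : Type} [Group D] {n : ℕ} (π : D →* Perm (Fin (n + 1))) (hπ : Function.Surjective π)
    (hc : π.ker ≤ center D) (hs : ∀ k ∈ π.ker, ∃ k' ∈ π.ker, k' * k' = k)
    (hd : ∀ s t, (π s).IsSwap → (π t).IsSwap → (π s).Disjoint (π t) → s * t = t * s) :
    ∃ h : Perm (Fin (n + 1)) →* D, ∀ σ, π (h σ) = σ := by
  let σ : ℕ → Perm (Fin (n + 1)) := fun i => if hi : i < n then swap ⟨i, by omega⟩ ⟨i + 1, by omega⟩ else 1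
  have σe : ∀ i (hi : i < n), σ i = swap ⟨i, by omega⟩ ⟨i + 1, by omega⟩ := fun i hi => dif_pos hi
  have σs : ∀ i, σ i * σ i = 1 := fun i => by
    by_cases hi : i < n
    · rw [σe i hi, swap_mul_self]
    · simp only [σ, dif_neg hi, mul_one]
  have σb : ∀ i, i + 1 < n → σ i * σ (i + 1) * σ i = σ (i + 1) * σ i * σ (i + 1) := fun i hi => by
    rw [σe i (by omega), σe (i + 1) hi]
    have e1 := swap_mul_swap_mul_swap (x := (⟨i + 1 + 1, by omega⟩ : Fin (n + 1))) (y := ⟨i + 1, by omega⟩)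
      (z := ⟨i, by omega⟩) (by simp [Fin.ext_iff]) (by simp [Fin.ext_iff]; omega)
    have e2 := swap_mul_swap_mul_swap (x := (⟨i, by omega⟩ : Fin (n + 1))) (y := ⟨i + 1, by omega⟩)
      (z := ⟨i + 1 + 1, by omega⟩) (by simp [Fin.ext_iff]) (by simp [Fin.ext_iff]; omega)
    rw [swap_comm (⟨i + 1, by omega⟩ : Fin (n + 1)) ⟨i, by omega⟩,
      swap_comm (⟨i + 1 + 1, by omega⟩ : Fin (n + 1)) ⟨i + 1, by omega⟩] at e1
    rw [e1, e2, swap_comm]
  choose x hx using fun i => hπ (σ i)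
  obtain ⟨k, k1, k2⟩ := hs (x 0 * x 0)⁻¹ (inv_mem (by rw [MonoidHom.mem_ker, map_mul, hx, σs]))
  let s : ℕ → D := fun i => Nat.rec (k * x 0) (fun i y => y * x (i + 1) * y * (y * x (i + 1))⁻¹) i
  have s0 : s 0 = k * x 0 := rfl
  have s1 : ∀ i, s (i + 1) = s i * x (i + 1) * s i * (s i * x (i + 1))⁻¹ := fun _ => rfl
  have sq : ∀ i, s i * s i = 1 := fun i => by
    induction i with
    | zero =>
      rw [s0, mul_assoc, ← mul_assoc (x 0), mem_center_iff.1 (hc k1) (x 0), mul_assoc, ← mul_assoc, k2, inv_mul_cancel]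
    | succ i ih =>
      rw [s1]
      calc _ = s i * x (i + 1) * (s i * s i) * (s i * x (i + 1))⁻¹ := by group
        _ = 1 := by rw [ih]; group
  have sp : ∀ i < n, π (s i) = σ i := fun i hi => by
    induction i with
    | zero => rw [s0, map_mul, hx, show π k = 1 from k1, one_mul]
    | succ i ih =>
      rw [s1, map_mul, map_inv, map_mul, map_mul, ih (by omega), hx, σb i hi]
      group
  refine (H346.CoxA.exists_hom n s ⟨fun i _ => sq i, fun i hi => ?_, fun i j hij hj => ?_⟩).elim fun h hh => ?_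
  · have h1 : x (i + 1) * (s (i + 1))⁻¹ ∈ center D := hc (by
      rw [MonoidHom.mem_ker, map_mul, map_inv, hx, sp _ hi, mul_inv_cancel])
    obtain ⟨c, c1, c2⟩ : ∃ c ∈ center D, x (i + 1) = s (i + 1) * c :=
      ⟨_, h1, by rw [mem_center_iff.1 h1, inv_mul_cancel_right]⟩
    have h2 := s1 i
    rw [c2] at h2
    generalize s (i + 1) = b at h2 ⊢
    generalize s i = a at h2 ⊢
    have h3 : b * (a * (b * c)) = a * (b * c) * a := eq_mul_inv_iff_mul_eq.1 h2
    rw [← mul_assoc a b c, mul_assoc (a * b), ← mem_center_iff.1 c1 a, ← mul_assoc, ← mul_assoc, ← mul_assoc] at h3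
    exact (mul_right_cancel h3).symm
  · refine hd _ _ (by rw [sp i (by omega), σe i (by omega)]; exact ⟨_, _, by simp [Fin.ext_iff], rfl⟩)
      (by rw [sp j hj, σe j hj]; exact ⟨_, _, by simp [Fin.ext_iff], rfl⟩) ?_
    rw [sp i (by omega), sp j hj, σe i (by omega), σe j hj, Perm.disjoint_iff_disjoint_support,
      Perm.support_swap (by simp [Fin.ext_iff]), Perm.support_swap (by simp [Fin.ext_iff]), Finset.disjoint_left]
    intro x hx
    simp only [Finset.mem_insert, Finset.mem_singleton] at hx ⊢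
    rcases hx with rfl | rfl <;> simp [Fin.ext_iff] <;> omega
  · refine ⟨h, fun τ => ?_⟩
    have hg : τ ∈ Submonoid.closure (Set.range fun i : Fin n => swap i.castSucc i.succ) := by
      rw [Perm.mclosure_swap_castSucc_succ]; trivial
    induction hg using Submonoid.closure_induction with
    | mem _ hy =>
      obtain ⟨i, rfl⟩ := hy
      rw [hh, sp i i.2, σe i i.2]
      rfl
    | one => rw [map_one, map_one]
    | mul _ _ _ _ a b => rw [map_mul, map_mul, a, b]

omit [Fintype α] in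
theorem isSwap_congr {β : Type} [DecidableEq β] (e : α ≃ β) {σ : Perm α} (h : (e.permCongr σ).IsSwap) : σ.IsSwap := by
  obtain ⟨i, j, h1, h2⟩ := h
  refine ⟨e.symm i, e.symm j, fun h => h1 (e.symm.injective h), ?_⟩
  rw [← symm_trans_swap_trans i j e.symm, ← h2]
  ext x
  simp

theorem exists_sec {D : Type} [Group D] (π : D →* Perm α) (hπ : Function.Surjective π)
    (hc : π.ker ≤ center D) (hs : ∀ k ∈ π.ker, ∃ k' ∈ π.ker, k' * k' = k)
    (hd : ∀ s t, (π s).IsSwap → (π t).IsSwap → (π s).Disjoint (π t) → s * t = t * s) :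
    ∃ h : Perm α →* D, ∀ σ, π (h σ) = σ := by
  rcases isEmpty_or_nonempty α with h | h
  · exact ⟨1, fun _ => Subsingleton.elim _ _⟩
  obtain ⟨n, hn⟩ := Nat.exists_eq_succ_of_ne_zero (Fintype.card_ne_zero (α := α))
  let e := Fintype.equivFinOfCardEq hn
  have k : (e.permCongrHom.toMonoidHom.comp π).ker = π.ker := by
    ext x
    simp [MonoidHom.mem_ker]
  obtain ⟨h, hh⟩ := exists_sec_fin (e.permCongrHom.toMonoidHom.comp π) (e.permCongrHom.surjective.comp hπ) (k ▸ hc) (k ▸ hs)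
    fun s t a b c => hd s t (isSwap_congr e a) (isSwap_congr e b) fun x => by
      simpa using c (e x)
  exact ⟨h.comp e.permCongrHom.toMonoidHom, fun σ => e.permCongrHom.injective (hh _)⟩

/-- **the lemma of Schur** -/
theorem exists_lin {F : Type} [Group F] (π : F →* Perm α) (hπ : Function.Surjective π) (l : π.ker →* ℂˣ)
    (hl : ∀ (g : F) (k k' : π.ker), (k' : F) = g * k * g⁻¹ → l k' = l k)
    (hd : ∀ σ τ : Perm α, σ.IsSwap → τ.IsSwap → σ.Disjoint τ → ∃ s t, π s = σ ∧ π t = τ ∧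
      ∃ k : π.ker, s * t = k * (t * s) ∧ l k = 1) :
    ∃ Ψ : F →* ℂˣ, ∀ k : π.ker, Ψ k = l k := by
  let N : Subgroup (F × ℂˣ) := (π.ker.subtype.prod l⁻¹).range
  have hN : ∀ x : F × ℂˣ, x ∈ N ↔ ∃ h : x.1 ∈ π.ker, x.2 = (l ⟨_, h⟩)⁻¹ := fun x =>
    ⟨by rintro ⟨k, rfl⟩; exact ⟨k.2, rfl⟩, fun ⟨h, e⟩ => ⟨⟨_, h⟩, Prod.ext rfl e.symm⟩⟩
  have : N.Normal := ⟨fun x hx g => by
    obtain ⟨h, e⟩ := (hN x).1 hx
    refine (hN _).2 ⟨(MonoidHom.normal_ker π).conj_mem _ h g.1, ?_⟩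
    rw [hl g.1 ⟨_, h⟩ _ rfl, ← e]
    exact mul_inv_cancel_comm g.2 x.2⟩
  let m := QuotientGroup.mk' N
  let P : (F × ℂˣ) ⧸ N →* Perm α := QuotientGroup.lift N (π.comp (MonoidHom.fst _ _)) fun x hx => ((hN x).1 hx).1
  have hP : ∀ x, P (m x) = π x.1 := fun _ => rfl
  have hm : Function.Surjective m := QuotientGroup.mk'_surjective N
  have k1 : ∀ (k : π.ker) (c : ℂˣ), m (k, c) = m (1, l k * c) := fun k c => by
    have h1 : m (k, (l k)⁻¹) = 1 := (QuotientGroup.eq_one_iff _).2 ((hN _).2 ⟨k.2, rfl⟩)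
    rw [← one_mul (m (1, _)), ← h1, ← map_mul]
    simp
  have k2 : ∀ c, m (1, c) ∈ center _ := fun c => mem_center_iff.2 fun y => by
    obtain ⟨y, rfl⟩ := hm y
    rw [← map_mul, ← map_mul]
    exact congrArg m (Prod.ext (by simp) (mul_comm _ _))
  have k3 : ∀ y ∈ P.ker, ∃ c, y = m (1, c) := fun y hy => by
    obtain ⟨y, rfl⟩ := hm y
    exact ⟨_, k1 ⟨y.1, hy⟩ y.2⟩
  have k4 : ∀ c c', m (1, c) = m (1, c') → c = c' := fun c c' h => by
    obtain ⟨h1, h2⟩ := (hN _).1 (QuotientGroup.eq.1 h)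
    have h3 : (⟨_, h1⟩ : π.ker) = 1 := Subtype.ext (by simp only [_root_.Prod.inv_mk, _root_.inv_one, _root_.Prod.mk_mul_mk, _root_.mul_one, _root_.OneMemClass.coe_one])
    rw [h3, map_one, inv_one] at h2
    exact inv_mul_eq_one.1 h2
  have k5 : P.ker ≤ center _ := fun y hy => by
    obtain ⟨c, rfl⟩ := k3 y hy
    exact k2 c
  obtain ⟨h, hh⟩ := exists_sec P (fun σ => (hπ σ).elim fun g e => ⟨m (g, 1), e⟩) k5 (fun y hy => by
    obtain ⟨c, rfl⟩ := k3 y hy
    obtain ⟨d, hd⟩ := IsAlgClosed.exists_eq_mul_self (c : ℂ)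
    have h0 : d ≠ 0 := fun e => c.ne_zero (by rw [hd, e, zero_mul])
    refine ⟨m (1, Units.mk0 d h0), map_one π, ?_⟩
    rw [← map_mul]
    exact congrArg m (Prod.ext (by simp) (Units.ext hd.symm))) fun s t a b c => by
      obtain ⟨s', t', e1, e2, k, e3, e4⟩ := hd _ _ a b c
      have h1 : s * (m (s', 1))⁻¹ ∈ center _ := k5 (by rw [MonoidHom.mem_ker, map_mul, map_inv, hP, e1, mul_inv_cancel])
      have h2 : t * (m (t', 1))⁻¹ ∈ center _ := k5 (by rw [MonoidHom.mem_ker, map_mul, map_inv, hP, e2, mul_inv_cancel])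
      have h3 : Commute (m (s', 1)) (m (t', 1)) := by
        have h4 := k1 k 1
        rw [e4, one_mul, Prod.mk_one_one, map_one] at h4
        rw [Commute, SemiconjBy, ← one_mul (m (t', 1) * _), ← h4, ← map_mul, ← map_mul, ← map_mul]
        exact congrArg m (Prod.ext e3 (by simp))
      rw [← inv_mul_cancel_right s (m (s', 1)), ← inv_mul_cancel_right t (m (t', 1))]
      exact Commute.mul_left (mem_center_iff.1 h1 _).symm (Commute.mul_right (mem_center_iff.1 h2 _) h3)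
  choose Ψ hΨ using fun g : F => k3 (m (g, 1) * (h (π g))⁻¹) (by
    rw [MonoidHom.mem_ker, map_mul, map_inv, hh, hP, mul_inv_cancel])
  refine ⟨MonoidHom.mk' Ψ fun a b => k4 _ _ ?_, fun k => k4 _ _ ?_⟩
  · rw [← hΨ, ← one_mul (1 : F), ← Prod.mk_mul_mk, map_mul m, ← hΨ a, mul_assoc, mem_center_iff.1 (k2 _), ← hΨ b,
      ← one_mul (1 : ℂˣ), ← Prod.mk_mul_mk, map_mul, map_mul, map_mul, one_mul]
    group
  · change m (1, Ψ k) = _
    rw [← hΨ, show π k = 1 from k.2, map_one, inv_one, mul_one, k1, mul_one]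

end schur

end Cfsg.Agent.MO.A.W
end

-- part: MO/A/W/Cl
section
/-!
# MO, twisted wreath products: covers of symmetric groups, extensions of Clifford groups (helper37)

* `An P z` : a double cover of a symmetric group in which the lifts of disjoint transpositions do not commute;
  `An.nb_eq` : all of them have the same numbers;
* `exists_ext` : extension of an irreducible representation of the kernel of `E → Perm κ`;
* `Cl` : an extension `E` of a Clifford group by a symmetric group; `Cl.even`, `Cl.odd` : the numbers of the preimages of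
  the subgroups of the symmetric group.
-/

set_option autoImplicit false

namespace Cfsg.Agent.MO.A.W

open Cfsg Subgroup Equiv
open Cfsg.Agent.Characters.Core Cfsg.Agent.H672
open Cfsg.Agent.MK.C (Nr cen_of_over eq_of_prop)

theorem exists_zs {K T : Type} [Group K] [Group T] (f : K →* T) {z : T} (hz : z ≠ 1) (hzz : z * z = 1)
    (h : ∀ k, f k = 1 ∨ f k = z) : ∃ c : K →* ℂˣ, ∀ k, (f k = 1 → c k = 1) ∧ (f k = z → c k = -1) := by
  classical
  refine ⟨MonoidHom.mk' (fun k => if f k = 1 then 1 else -1) fun a b => ?_, fun k => ⟨fun e => if_pos e, fun e =>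
    if_neg (e ▸ hz)⟩⟩
  rw [map_mul]
  rcases h a with h1 | h1 <;> rcases h b with h2 | h2 <;> simp only [h1, h2, mul_one, ↓reduceIte, one_mul, hz, mul_neg, hzz, neg_neg]

theorem eq_top_of_swaps {E κ : Type} [Group E] [Finite κ] [DecidableEq κ] {π : E →* Perm κ} {S : Subgroup E}
    (h1 : π.ker ≤ S) (h2 : ∀ i j, i ≠ j → ∃ t ∈ S, π t = swap i j) : S = ⊤ := by
  have h3 : S.map π = ⊤ := by
    rw [eq_top_iff, ← Perm.closure_isSwap, closure_le]
    rintro _ ⟨i, j, h, rfl⟩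
    exact h2 i j h
  rw [← comap_map_eq_self h1, h3, comap_top]

theorem surj_of_swaps {E κ : Type} [Group E] [Finite κ] [DecidableEq κ] {π : E →* Perm κ}
    (h : ∀ i j, i ≠ j → ∃ t, π t = swap i j) : Function.Surjective π := by
  rw [← MonoidHom.range_eq_top, eq_top_iff, ← Perm.closure_isSwap, closure_le]
  rintro _ ⟨i, j, h1, rfl⟩
  exact h i j h1

/-- a spin character changes its sign -/
theorem spin_mul {G : Type} [Group G] [Finite G] {χ : G → ℂ} (h : IsIrrCharacter G χ) {z : G} (hz : z ∈ center G)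
    (h1 : χ z = -χ 1) (g : G) : χ (z * g) = -χ g := by
  obtain ⟨c, h2, -⟩ := ODD.Red.exists_central h hz
  have h3 := h2 1
  rw [mul_one, h1, ← neg_one_mul] at h3
  rw [h2, ← mul_right_cancel₀ (isIrr_apply_one_ne_zero h) h3, neg_one_mul]

theorem spin_iff {A D : Type} [Group A] [Group D] [Finite A] [Finite D] {f : D →* A} {χ : A → ℂ}
    (hχ : IsIrrCharacter A χ) {Θ : D → ℂ} (hΘ : IsIrrCharacter D Θ) (h : Over f χ Θ) {z : D} (hz : z ∈ center D)
    (hz' : f z ∈ center A) : χ (f z) = -χ 1 ↔ Θ z = -Θ 1 := by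
  have h1 := cen_of_over hχ hΘ h hz hz'
  refine ⟨fun e => mul_right_cancel₀ (isIrr_apply_one_ne_zero hχ) ?_,
    fun e => mul_right_cancel₀ (isIrr_apply_one_ne_zero hΘ) ?_⟩
  · rw [h1, e]; ring
  · rw [← h1, e]; ring

theorem card_eq_sum {B X : Type} [Finite B] (S : Finset X) (R : B → X → Prop) (h : ∀ b, ∃! x, x ∈ S ∧ R b x) :
    Nat.card B = ∑ x ∈ S, Nat.card {b // R b x} := by
  choose f h1 h2 using h
  rw [← Nat.card_congr (Equiv.sigmaFiberEquiv fun b => (⟨f b, (h1 b).1⟩ : S)), Nat.card_sigma, ← Finset.sum_coe_sort S]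
  exact Finset.sum_congr rfl fun x _ => Nat.card_congr (Equiv.subtypeEquivRight fun b =>
    ⟨fun e => e ▸ (h1 b).2, fun e => Subtype.ext (h2 b x ⟨x.2, e⟩).symm⟩)

/-! ### covers of symmetric groups -/

/-- a double cover of a symmetric group in which the lifts of disjoint transpositions do not commute -/
structure An {α T : Type} [DecidableEq α] [Group T] (P : T →* Perm α) (z : T) : Prop where
  surj : Function.Surjective P
  z_ne : z ≠ 1
  z_comm : ∀ x, x * z = z * x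
  ker : ∀ x, P x = 1 ↔ x = 1 ∨ x = z
  anti : ∀ s t, (P s).IsSwap → (P t).IsSwap → (P s).Disjoint (P t) → s * t = z * (t * s)

section an

variable {α T T' : Type} [Fintype α] [DecidableEq α] [Group T] [Group T'] {P : T →* Perm α} {P' : T' →* Perm α} {z : T}
  {z' : T'}

theorem an_of_sc (h : Sc P z) : An P z := ⟨h.surj, h.z_ne, h.z_comm, h.ker, h.anti⟩

omit [Fintype α] in
theorem An.z_mul (h : An P z) : z * z = 1 :=
  ((h.ker _).1 (by rw [map_mul, (h.ker z).2 (Or.inr rfl), mul_one])).resolve_right fun e => h.z_ne (mul_eq_left.1 e)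

/-- **the numbers do not depend on the cover** -/
theorem An.nb_eq {p : ℕ} [Fact p.Prime] [Finite T] [Finite T'] (h : An P z) (h' : An P' z') (s : Perm α →* ℤˣ) :
    nb p z (s.comp P) = nb p z' (s.comp P') := by
  let F : Subgroup (T × T') := (P.comp (MonoidHom.fst _ _)).eqLocus (P'.comp (MonoidHom.snd _ _))
  let f : F →* T := (MonoidHom.fst _ _).comp F.subtype
  let g : F →* T' := (MonoidHom.snd _ _).comp F.subtype
  have hfg : ∀ x : F, P (f x) = P' (g x) := fun x => x.2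
  have hf : Function.Surjective f := fun x => (h'.surj (P x)).elim fun y e => ⟨⟨(x, y), e.symm⟩, rfl⟩
  have hg : Function.Surjective g := fun y => (h.surj (P' y)).elim fun x e => ⟨⟨(x, y), e⟩, rfl⟩
  have pz := (h.ker z).2 (Or.inr rfl)
  have pz' := (h'.ker z').2 (Or.inr rfl)
  obtain ⟨c, hc⟩ := exists_zs (f.comp (P.comp f).ker.subtype) h.z_ne h.z_mul fun k => (h.ker _).1 k.2
  obtain ⟨c', hc'⟩ := exists_zs (g.comp (P.comp f).ker.subtype) h'.z_ne h'.z_mul fun k =>
    (h'.ker _).1 ((hfg k).symm.trans k.2)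
  have k1 : ∀ k : (P.comp f).ker, (k : F) ∈ center F := fun k => mem_center_iff.2 fun x => Subtype.ext (Prod.ext
    (by
      change f x * f k = f k * f x
      rcases (h.ker _).1 k.2 with e | e <;> rw [e]
      exacts [(mul_one _).trans (one_mul _).symm, h.z_comm _])
    (by
      change g x * g k = g k * g x
      rcases (h'.ker _).1 ((hfg k).symm.trans k.2) with e | e <;> rw [e]
      exacts [(mul_one _).trans (one_mul _).symm, h'.z_comm _]))
  obtain ⟨Ψ, hΨ⟩ := exists_lin (P.comp f) (h.surj.comp hf) (c * c')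
    (fun x k k' e => congrArg _ (Subtype.ext (by rw [e, mem_center_iff.1 (k1 k), mul_inv_cancel_right])))
    fun σ τ a b d => by
      obtain ⟨s, rfl⟩ := (h.surj.comp hf) σ
      obtain ⟨t, rfl⟩ := (h.surj.comp hf) τ
      refine ⟨s, t, rfl, rfl, ⟨⟨(z, z'), pz.trans pz'.symm⟩, pz⟩, Subtype.ext (Prod.ext (h.anti _ _ a b d)
        (h'.anti (g s) (g t) (hfg s ▸ a) (hfg t ▸ b) (hfg s ▸ hfg t ▸ d))), ?_⟩
      rw [MonoidHom.mul_apply, (hc _).2 rfl, (hc' _).2 rfl, neg_mul_neg, one_mul]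
  have k2 : ∀ d : g.ker, P (f d) = 1 := fun d => by rw [hfg, show g d = 1 from d.2, map_one]
  have k3 : ∀ d : g.ker, (f.comp g.ker.subtype) d ∈ center T := fun d => by
    change f d ∈ _
    rcases (h.ker _).1 (k2 d) with e | e <;> rw [e]
    exacts [one_mem _, mem_center_iff.2 h.z_comm]
  have k4 : ∀ d : g.ker, Ψ d = c ⟨d, k2 d⟩ := fun d => by
    rw [hΨ ⟨d, k2 d⟩, MonoidHom.mul_apply, (hc' ⟨d, k2 d⟩).1 d.2, mul_one]
  rw [← pairZ (r := p) f g g.ker.subtype (range_subtype _) hg (φ := fun _ d => d)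
    (fun a d => eq_mul_inv_of_mul_eq (mem_center_iff.1 (k3 d) a).symm) (isIrr_lf (Ψ.comp g.ker.subtype))
    (fun a => iff_of_true (hf a) fun _ => rfl) (isCharacter_lf Ψ) (fun _ => rfl) h'.z_ne (mem_center_iff.2 h'.z_comm)
    ⟨⟨(1, z'), (map_one P).trans pz'.symm⟩, rfl, rfl⟩ (fun k hk => ?_) ?_ (s.comp P) (s.comp P')
    fun x hx => absurd (congrArg s (hfg x)) hx]
  · refine MO.T.card_iff fun χ hχ => and_congr_left fun _ => ?_
    rw [RM.over_lin_iff _ k3 hχ.1]
    refine ⟨fun e d => ?_, fun e => ?_⟩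
    · change χ (f d) = χ 1 * Ψ d
      rw [k4]
      rcases (h.ker _).1 (k2 d) with e' | e'
      · rw [(hc _).1 e', e', Units.val_one, mul_one]
      · rw [(hc _).2 e', e', e, Units.val_neg, Units.val_one, mul_neg, mul_one]
    · let d : g.ker := ⟨⟨(z, 1), pz.trans (map_one P').symm⟩, rfl⟩
      have e' : χ z = χ 1 * Ψ d := e d
      rw [e', k4, (hc ⟨d, k2 d⟩).2 rfl, Units.val_neg, Units.val_one, mul_neg, mul_one]
  · rw [MonoidHom.range_eq_top.2 hf, index_top, charDegree_of_eq (n := 1) (by rw [lf_apply, map_one, Units.val_one,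
      Nat.cast_one])]
    exact nd_one
  · have h1 : P (f k) = 1 := by rw [hk, map_one]
    have h2 : lf Ψ k = c' ⟨k, h1⟩ := by rw [lf_apply, hΨ ⟨k, h1⟩, MonoidHom.mul_apply, (hc ⟨k, h1⟩).1 hk, one_mul]
    rw [h2, lf_apply, map_one]
    exact ((h'.ker _).1 ((hfg k).symm.trans h1)).imp (fun e => ⟨e, by rw [(hc' ⟨k, h1⟩).1 e]⟩)
      fun e => ⟨e, by rw [(hc' ⟨k, h1⟩).2 e, Units.val_neg]⟩

end an

/-! ### extension of representations -/

/-- `X` intertwines `ρ` and its conjugate by `g` -/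
def It {E V : Type} [Group E] [AddCommGroup V] [Module ℂ V] {C : Subgroup E} (ρ : Representation ℂ C V) (g : E)
    (X : Module.End ℂ V) : Prop :=
  ∀ c c' : C, (c' : E) = g * c * g⁻¹ → X * ρ c = ρ c' * X

private theorem as4 {M : Type} [Semigroup M] (a b c d : M) : a * b * c * d = a * (b * c * d) := by
  rw [mul_assoc, mul_assoc, mul_assoc]

theorem exists_ext {E κ V : Type} [Group E] [Fintype κ] [DecidableEq κ] [AddCommGroup V] [Module ℂ V]
    [FiniteDimensional ℂ V] (π : E →* Perm κ) (ρ : Representation ℂ π.ker V) (hρ : ρ.IsIrreducible) (t : κ → κ → E)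
    (X : κ → κ → (Module.End ℂ V)ˣ) (h1 : ∀ i j, i ≠ j → π (t i j) = swap i j ∧ It ρ (t i j) (X i j))
    (h2 : ∀ i j k l, i ≠ j → k ≠ l → (swap i j).Disjoint (swap k l) → ∃ c : π.ker, t i j * t k l = c * (t k l * t i j) ∧
      (X i j : Module.End ℂ V) * X k l = ρ c * (X k l * X i j)) :
    ∃ R : Representation ℂ E V, (∀ c : π.ker, R c = ρ c) ∧ ∀ i j, i ≠ j → ∃ a : ℂ, R (t i j) = a • X i j := by
  have hV : Nontrivial V := ((CharDeep.LinearChar.isIrreducible_iff ρ).1 hρ).1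
  have hn := MonoidHom.normal_ker π
  let F : Subgroup (E × (Module.End ℂ V)ˣ) :=
    { carrier := {x | It ρ x.1 x.2}
      one_mem' := fun c c' e => by
        rw [show c' = c from Subtype.ext (by simpa using e)]
        simp
      mul_mem' := fun {x y} hx hy c c' e => by
        rw [Prod.snd_mul, Units.val_mul, mul_assoc, hy c ⟨_, hn.conj_mem _ c.2 y.1⟩ rfl, ← mul_assoc,
          hx _ c' (by rw [e, Prod.fst_mul]; group), mul_assoc]
      inv_mem' := fun {x} hx c c' e => by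
        have h3 := hx c' c (by rw [e, Prod.fst_inv]; group)
        rw [Prod.snd_inv, Units.inv_mul_eq_iff_eq_mul, ← mul_assoc, h3, mul_assoc, Units.mul_inv, mul_one] }
  let f : F →* E := (MonoidHom.fst _ _).comp F.subtype
  let g : F →* (Module.End ℂ V)ˣ := (MonoidHom.snd _ _).comp F.subtype
  let ρ' : π.ker →* (Module.End ℂ V)ˣ := ρ.toHomUnits
  have k0 : ∀ c : π.ker, ((c : E), ρ' c) ∈ F := fun c d d' e => by
    change ρ c * ρ d = ρ d' * ρ c
    rw [← map_mul, ← map_mul]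
    exact congrArg ρ (Subtype.ext (by rw [coe_mul, coe_mul, e, inv_mul_cancel_right]))
  have hf : Function.Surjective f := by
    rw [← MonoidHom.range_eq_top]
    exact eq_top_of_swaps (π := π) (fun c hc => ⟨⟨_, k0 ⟨c, hc⟩⟩, rfl⟩) fun i j h =>
      ⟨t i j, ⟨⟨(t i j, X i j), (h1 i j h).2⟩, rfl⟩, (h1 i j h).1⟩
  let sc : ℂˣ →* (Module.End ℂ V)ˣ := Units.map (algebraMap ℂ (Module.End ℂ V)).toMonoidHom
  have s1 : ∀ a Y, Y * sc a = sc a * Y := fun a Y => Units.ext (Algebra.commutes (a : ℂ) (Y : Module.End ℂ V)).symm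
  have s2 : Function.Injective sc := Units.map_injective (algebraMap ℂ (Module.End ℂ V)).injective
  let r : (π.comp f).ker →* (Module.End ℂ V)ˣ := ρ'.comp ((f.comp (π.comp f).ker.subtype).codRestrict π.ker fun k => k.2)
  have k1 : ∀ k : (π.comp f).ker, ∃ a : ℂˣ, r k = sc a * g k := fun k => by
    let y : F := (k : F) * (⟨_, k0 ⟨f k, k.2⟩⟩ : F)⁻¹
    have h3 : y.1.1 = 1 := mul_inv_cancel _
    obtain ⟨a, ha⟩ := CharDeep.IrrEquiv.exists_smul_of_commute ρ hρ (g y) fun c =>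
      y.2 c c (by rw [h3, one_mul, inv_one, mul_one])
    have h0 : a ≠ 0 := fun e => Units.ne_zero _ (ha.trans (by rw [e, zero_smul]))
    have h4 : g k * (r k)⁻¹ = sc (Units.mk0 a h0) := Units.ext (ha.trans (Algebra.algebraMap_eq_smul_one a).symm)
    exact ⟨(Units.mk0 a h0)⁻¹, by rw [map_inv, ← h4]; group⟩
  choose l hl using k1
  have k2 : ∀ (k : (π.comp f).ker) (a : ℂˣ), r k = sc a * g k → l k = a := fun k a h =>
    s2 (mul_right_cancel ((hl k).symm.trans h))
  obtain ⟨Ψ, hΨ⟩ := exists_lin (π.comp f) ((surj_of_swaps fun i j h => ⟨_, (h1 i j h).1⟩).comp hf)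
    (MonoidHom.mk' l fun a b => k2 _ _ (by
      rw [map_mul, map_mul, coe_mul, map_mul g, mul_assoc, ← mul_assoc (sc (l b)), ← s1 (l b), mul_assoc, ← hl b,
        ← mul_assoc, ← hl a]))
    (fun x k k' e => k2 _ _ (by
      have h3 := x.2 ⟨f k, k.2⟩ ⟨f k', k'.2⟩ (congrArg f e)
      have h4 : g x * r k = r k' * g x := Units.ext h3
      rw [← mul_inv_eq_iff_eq_mul, hl, ← mul_assoc, s1] at h4
      have h5 : g k' = g x * g k * (g x)⁻¹ :=
        (congrArg g e).trans ((map_mul g _ _).trans (congrArg₂ (· * ·) (map_mul g _ _) (map_inv g x)))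
      exact h4.symm.trans ((as4 _ _ _ _).trans (congrArg (sc (l k) * ·) h5.symm))))
    (by
      rintro _ _ ⟨i, j, hij, rfl⟩ ⟨k, m, hkm, rfl⟩ d
      obtain ⟨c, c1, c2⟩ := h2 i j k m hij hkm d
      exact ⟨⟨(t i j, X i j), (h1 i j hij).2⟩, ⟨(t k m, X k m), (h1 k m hkm).2⟩, (h1 i j hij).1, (h1 k m hkm).1,
        ⟨⟨_, k0 c⟩, c.2⟩, Subtype.ext (Prod.ext c1 (Units.ext c2)), k2 _ _ (by rw [map_one, one_mul]; rfl)⟩)
  let R₀ : F →* (Module.End ℂ V)ˣ := MonoidHom.mk' (fun x => sc (Ψ x) * g x) fun x y => by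
    rw [map_mul, map_mul, map_mul, mul_assoc, mul_assoc, ← mul_assoc (sc (Ψ y)), ← s1 (Ψ y), mul_assoc]
  have k3 : ∀ k : (π.comp f).ker, R₀ k = r k := fun k => by
    rw [hl]
    exact congrArg (fun a => sc a * g k) (hΨ k)
  let R := f.liftOfSurjective hf ⟨R₀, fun x hx => by
    have h3 : x ∈ (π.comp f).ker := by rw [MonoidHom.mem_ker, MonoidHom.comp_apply, show f x = 1 from hx, map_one]
    exact (k3 ⟨x, h3⟩).trans ((congrArg ρ' (Subtype.ext (show f x = 1 from hx) : (⟨f x, h3⟩ : π.ker) = 1)).trans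
      (map_one ρ'))⟩
  have k4 : ∀ x, R (f x) = R₀ x := fun x => MonoidHom.liftOfRightInverse_comp_apply _ _ _ _ x
  refine ⟨(Units.coeHom _).comp R, fun c => ?_, fun i j h => ⟨Ψ ⟨(t i j, X i j), (h1 i j h).2⟩, ?_⟩⟩
  · exact congrArg Units.val ((k4 ⟨_, k0 c⟩).trans (k3 ⟨⟨_, k0 c⟩, c.2⟩))
  · exact (congrArg Units.val (k4 ⟨(t i j, X i j), (h1 i j h).2⟩)).trans (Algebra.smul_def _ _).symm

/-! ### Clifford groups -/

/-- an extension of a Clifford group by a symmetric group -/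
structure Cl {E κ : Type} [Group E] [Fintype κ] [DecidableEq κ] (s : E →* ℤˣ) (π : E →* Perm κ) (z : π.ker)
    (ε : π.ker →* κ → ℤˣ) (u : κ → π.ker) (t : κ → κ → E) : Prop where
  z_ne : z ≠ 1
  z_cen : (z : E) ∈ center E
  zz : z * z = 1
  sgn : ∀ c : π.ker, s c = ∏ i, ε c i
  inj : ∀ c, ε c = 1 ↔ c = 1 ∨ c = z
  eu : ∀ i, ε (u i) = Pi.mulSingle i (-1)
  uu : ∀ i, u i * u i = z
  comm : ∀ i (c : π.ker), u i * c = (if s c = ε c i then 1 else z) * (c * u i)
  pt : ∀ i j, i ≠ j → π (t i j) = swap i j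
  st : ∀ i j, i ≠ j → s (t i j) = -1
  act : ∀ i j, i ≠ j → ∀ l, t i j * u l = z * (u (swap i j l) * t i j)
  anti : ∀ i j k l, i ≠ j → k ≠ l → (swap i j).Disjoint (swap k l) → t i j * t k l = z * (t k l * t i j)

namespace Cl

variable {E κ : Type} [Group E] [Fintype κ] [DecidableEq κ] {s : E →* ℤˣ} {π : E →* Perm κ} {z : π.ker}
  {ε : π.ker →* κ → ℤˣ} {u : κ → π.ker} {t : κ → κ → E} (h : Cl s π z ε u t)

include h

theorem z_cen' : z ∈ center π.ker := mem_center_iff.2 fun c => Subtype.ext (mem_center_iff.1 h.z_cen c)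

theorem su (i : κ) : s (u i) = -1 := by rw [h.sgn, h.eu, Finset.prod_pi_mulSingle' , if_pos (Finset.mem_univ i)]

theorem sz : s z = 1 := by rw [h.sgn, (h.inj z).2 (Or.inr rfl)]; simp only [Pi.one_apply, Finset.prod_const_one]

theorem map_top {S : Subgroup π.ker} (hu : ∀ i, u i ∈ S) : S.map ε = ⊤ := by
  refine eq_top_iff.2 fun f _ => ?_
  rw [← Finset.univ_prod_mulSingle f]
  refine prod_mem fun i _ => ?_
  rcases Int.units_eq_one_or (f i) with e | e <;> rw [e]
  · rw [Pi.mulSingle_one]; exact one_mem _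
  · exact ⟨u i, hu i, h.eu i⟩

theorem gen {S : Subgroup π.ker} (hu : ∀ i, u i ∈ S) (hz : z ∈ S) : S = ⊤ := by
  rw [← comap_map_eq_self (f := ε) (H := S) fun c hc => by
    rcases (h.inj c).1 hc with rfl | rfl
    exacts [one_mem _, hz], h.map_top hu, comap_top]

theorem uu' {i j : κ} (hij : i ≠ j) : u i * u j = z * (u j * u i) := by
  rw [h.comm, h.su, h.eu, Pi.mulSingle_eq_of_ne hij, if_neg (by decide)]

theorem exists_om : ∃ w : π.ker, ε w = fun _ => -1 :=
  have : (fun _ => -1) ∈ (⊤ : Subgroup π.ker).map ε := h.map_top (fun _ => mem_top _) ▸ mem_top _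
  this.imp fun _ e => e.2

theorem s_om {w : π.ker} (hw : ε w = fun _ => -1) : s w = (-1) ^ Fintype.card κ := by
  rw [h.sgn, hw, Finset.prod_const, Finset.card_univ]

theorem two : IsPGroup 2 π.ker := fun c => ⟨2, by
  have h1 : ε (c * c) = 1 := funext fun i => by rw [map_mul]; exact Int.units_mul_self _
  rw [show 2 ^ 2 = 2 * 2 from rfl, pow_mul, pow_two, pow_two]
  rcases (h.inj _).1 h1 with e | e <;> rw [e]
  exacts [one_mul _, h.zz]⟩

variable [Finite E]

theorem nd {p : ℕ} [hp : Fact p.Prime] (h2 : p ≠ 2) {θ : π.ker → ℂ} (hθ : IsIrrCharacter _ θ) : ¬ p ∣ charDegree θ := by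
  obtain ⟨n, ρ, hρ, rfl⟩ := hθ
  have := Fact.mk Nat.prime_two
  obtain ⟨k, hk⟩ := IsPGroup.iff_card.1 h.two
  rw [ODD.Red.charDegree_rep]
  exact nd_of_dvd (nd_pow (nd_two h2) k) (hk ▸ Characters.DegreeBounds.finrank_dvd_card ρ)

/-- **the spin characters of the Clifford group extend** -/
theorem ext {θ : π.ker → ℂ} (hθ : IsIrrCharacter _ θ) (hz : θ z = -θ 1) :
    ∃ Ψ, IsCharacter E Ψ ∧ (∀ c : π.ker, Ψ c = θ c) ∧ (Even (Fintype.card κ) → Van s Ψ) := by
  have h0 := isIrr_apply_one_ne_zero hθ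
  obtain ⟨n, ρ, hρ, rfl⟩ := hθ
  have hn := MonoidHom.normal_ker π
  have nm : ∀ x : Module.End ℂ (Fin n → ℂ), -1 * x = -x := fun x => neg_one_mul x
  have mn : ∀ x : Module.End ℂ (Fin n → ℂ), x * -1 = -x := fun x => mul_neg_one x
  have ns : ∀ x : Module.End ℂ (Fin n → ℂ), (-1 : ℂ) • x = -x := fun x => neg_one_smul ℂ x
  have rz : ρ z = -1 := by
    obtain ⟨c, hc⟩ := CharDeep.IrrEquiv.exists_smul_of_commute ρ hρ (ρ z) fun g => by
      rw [← map_mul, ← map_mul, mem_center_iff.1 h.z_cen' g]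
    have h1 : ρ.character z = c * ρ.character 1 := by
      change LinearMap.trace ℂ _ (ρ z) = c * LinearMap.trace ℂ _ (ρ 1)
      rw [hc, map_one, map_smul, smul_eq_mul]
    rw [hz, ← neg_one_mul] at h1
    rw [hc, ← mul_right_cancel₀ h0 h1, ns]
  let γ : κ → Module.End ℂ (Fin n → ℂ) := fun i => ρ (u i)
  have g1 : ∀ i, γ i * γ i = -1 := fun i => by rw [← map_mul, h.uu, rz]
  have g2 : ∀ i j, i ≠ j → γ i * γ j = -(γ j * γ i) := fun i j e => by
    rw [← map_mul, h.uu' e, map_mul, map_mul, rz, nm]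
  have g3 : ∀ i j, i ≠ j → (γ i - γ j) * ((-1 / 2 : ℂ) • (γ i - γ j)) = 1 := fun i j e => by
    rw [mul_smul_comm, H686.Spin.tr_sq g1 g2 e, show (-2 : Module.End ℂ (Fin n → ℂ)) = (-2 : ℂ) • 1 from
      ((neg_smul _ _).trans (congrArg _ ((two_smul _ _).trans one_add_one_eq_two))).symm, smul_smul]
    norm_num
  let X : κ → κ → (Module.End ℂ (Fin n → ℂ))ˣ := fun i j =>
    if e : i ≠ j then ⟨γ i - γ j, _, g3 i j e, by rw [smul_mul_assoc, ← mul_smul_comm, g3 i j e]⟩ else 1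
  have hX : ∀ i j, i ≠ j → (X i j : Module.End ℂ (Fin n → ℂ)) = γ i - γ j := fun i j e => by simp only [X, dif_pos e]
  obtain ⟨R, r1, r2⟩ := exists_ext π ρ hρ t X (fun i j e => ⟨h.pt i j e, fun c c' e' => by
      let a : MulAut π.ker := MulAut.conjNormal (t i j)
      let S : Subgroup π.ker :=
        { carrier := {c | X i j * ρ c = ρ (a c) * X i j}
          one_mem' := by simp only [Set.mem_ofPred_eq, map_one, mul_one, one_mul]
          mul_mem' := fun {x y} hx hy => by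
            rw [Set.mem_ofPred_eq] at hx hy ⊢
            rw [map_mul, map_mul, map_mul, ← mul_assoc, hx, mul_assoc, hy, mul_assoc]
          inv_mem' := fun {x} hx => by
            rw [Set.mem_ofPred_eq] at hx ⊢
            calc _ = ρ (a x⁻¹) * (ρ (a x) * X i j) * ρ x⁻¹ := by rw [← mul_assoc, ← map_mul, ← map_mul]; simp only [inv_mul_cancel, map_one, one_mul]
              _ = _ := by rw [← hx, mul_assoc, mul_assoc, ← map_mul]; simp only [map_inv, mul_inv_cancel, map_one, mul_one] }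
      have k : S = ⊤ := h.gen (fun l => by
        have k1 : a (u l) = z * u (swap i j l) := Subtype.ext (by
          change t i j * u l * (t i j)⁻¹ = z * u _
          rw [h.act i j e, ← mul_assoc, mul_inv_cancel_right])
        change X i j * ρ (u l) = ρ (a (u l)) * X i j
        rw [k1, map_mul, rz, hX i j e, nm]
        exact (H686.Spin.tr_conj g1 g2 e l).trans (neg_mul (γ (swap i j l)) (γ i - γ j)).symm) (by
        have k1 : a z = z := Subtype.ext (by
          change t i j * z * (t i j)⁻¹ = z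
          rw [mem_center_iff.1 h.z_cen, mul_inv_cancel_right])
        change X i j * ρ z = ρ (a z) * X i j
        rw [k1, rz, nm, mn])
      rw [show c' = a c from Subtype.ext e']
      exact (k ▸ mem_top c : c ∈ S)⟩)
    fun i j k l e e' d => ⟨z, h.anti i j k l e e' d, by
      obtain ⟨d1, d2, d3, d4⟩ := ne_of_disjoint_swap e e' d
      rw [hX i j e, hX k l e', rz, nm]
      exact H686.Spin.tr_anti g2 d1 d2 d3 d4⟩
  refine ⟨R.character, isCharacter_of_rep R, fun c => congrArg (LinearMap.trace ℂ _) (r1 c), fun he g hg => ?_⟩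
  obtain ⟨w, hw⟩ := h.exists_om
  have w1 : ∀ i, R w * γ i = -(γ i * R w) := fun i => by
    have w2 := h.comm i w
    rw [h.s_om hw, he.neg_one_pow, hw, if_neg (by decide : ¬ (1 : ℤˣ) = -1)] at w2
    rw [r1, ← map_mul, ← map_mul, w2, map_mul ρ z, rz, nm]
    exact (neg_neg _).symm
  let S : Subgroup E :=
    { carrier := {x | R w * R x = (sg s x : ℂ) • (R x * R w)}
      one_mem' := by simp only [Set.mem_ofPred_eq, map_one, mul_one, Units.val_one, one_mul, one_smul]
      mul_mem' := fun {x y} hx hy => by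
        rw [Set.mem_ofPred_eq] at hx hy ⊢
        rw [map_mul, map_mul, ← mul_assoc, hx, smul_mul_assoc, mul_assoc, hy, mul_smul_comm, smul_smul, Units.val_mul,
          mul_assoc]
      inv_mem' := fun {x} hx => by
        rw [Set.mem_ofPred_eq] at hx ⊢
        have k1 : R x⁻¹ * R w = (sg s x : ℂ) • (R w * R x⁻¹) :=
          calc _ = R x⁻¹ * (R w * R x) * R x⁻¹ := by rw [mul_assoc, mul_assoc, ← map_mul R x]; simp only [mul_inv_cancel, map_one, mul_one]
            _ = _ := by rw [hx, mul_smul_comm, smul_mul_assoc, ← mul_assoc, ← map_mul]; simp only [inv_mul_cancel, map_one, one_mul]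
        rw [k1, smul_smul, ← Units.val_mul, ← map_mul]
        simp only [_root_.map_mul, _root_.map_inv, _root_.inv_mul_cancel, _root_.Units.val_one, _root_.one_smul] }
  have k : S = ⊤ := eq_top_of_swaps (π := π) (fun c hc => by
    have k1 : S.subgroupOf π.ker = ⊤ := h.gen (fun i => by
      change R w * R (u i) = (sg s (u i) : ℂ) • (R (u i) * R w)
      rw [sg_neg (h.su i), r1 (u i), w1, ns]) (by
      change R w * R z = (sg s z : ℂ) • (R z * R w)
      rw [sg_one h.sz, r1 z, rz, one_smul, nm, mn])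
    exact (k1 ▸ mem_top (⟨c, hc⟩ : π.ker) : (⟨c, hc⟩ : π.ker) ∈ S.subgroupOf π.ker)) fun i j e => ⟨t i j, by
      obtain ⟨a, ha⟩ := r2 i j e
      change R w * R (t i j) = (sg s (t i j) : ℂ) • (R (t i j) * R w)
      have k1 : R w * (γ i - γ j) = -((γ i - γ j) * R w) := by
        rw [mul_sub, sub_mul, w1, w1]
        abel
      rw [sg_neg (h.st i j e), ha, hX i j e, mul_smul_comm, smul_mul_assoc, k1, ns]
      exact smul_neg _ _, h.pt i j e⟩
  have k1 : R w * R g = (sg s g : ℂ) • (R g * R w) := (k ▸ mem_top g : g ∈ S)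
  have k2 : R.character (w * g * (w : E)⁻¹) = -R.character g := by
    change LinearMap.trace ℂ _ (R _) = -LinearMap.trace ℂ _ (R _)
    rw [map_mul R, map_mul R, k1, sg_neg hg, smul_mul_assoc, mul_assoc, ← map_mul R (w : E), mul_inv_cancel, map_one, mul_one,
      map_smul, smul_eq_mul, neg_one_mul]
  rw [isCharacter_isClassFunction (isCharacter_of_rep R)] at k2
  exact self_eq_neg.1 k2

theorem supp {θ : π.ker → ℂ} (hθ : IsIrrCharacter _ θ) (hz : θ z = -θ 1) {c : π.ker} (hc : θ c ≠ 0) :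
    ε c = fun _ => s c := funext fun i => by
  by_contra e
  have h1 := h.comm i c
  rw [if_neg (Ne.symm e), ← mul_assoc, ← mul_inv_eq_iff_eq_mul] at h1
  have h2 := isIrr_isClassFunction hθ c (u i)
  rw [h1, spin_mul hθ h.z_cen' hz] at h2
  exact hc (neg_eq_self.1 h2)

theorem exists_spin : ∃ θ : π.ker → ℂ, IsIrrCharacter _ θ ∧ θ z = -θ 1 := by
  classical
  have := finite_irr (G := π.ker)
  have := Fintype.ofFinite (IrrCharacter π.ker)
  by_contra hcon
  push Not at hcon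
  have h1 := Characters.Counting.sum_irr_one_mul z
  have h2 := Characters.Counting.sum_irr_one_mul (1 : π.ker)
  rw [if_neg h.z_ne] at h1
  rw [if_pos rfl, Finset.sum_congr rfl (g := fun χ : IrrCharacter π.ker => χ.1 1 * χ.1 z) fun χ _ => ?_, h1] at h2
  · exact card_ne_zero_complex h2.symm
  · obtain ⟨c, c1, c2, -⟩ := ODD.Red.exists_central χ.2 h.z_cen'
    have c3 := c1 1
    rw [mul_one] at c3
    rcases sq_eq_one_iff.1 (c2 2 (by rw [pow_two, h.zz])) with e | e
    · rw [c3, e, one_mul]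
    · exact absurd (by rw [c3, e, neg_one_mul]) (hcon _ χ.2)

theorem eq_of {θ θ' : π.ker → ℂ} (hθ : IsIrrCharacter _ θ) (hz : θ z = -θ 1) (hθ' : IsIrrCharacter _ θ')
    (hz' : θ' z = -θ' 1) (hw : ∀ w : π.ker, s w = -1 → (ε w = fun _ => -1) → θ w * θ' 1 = θ' w * θ 1) : θ = θ' := by
  refine eq_of_prop hθ hθ' (isIrr_apply_one_ne_zero hθ') (b := θ 1) fun c => ?_
  by_cases e : θ c = 0 ∧ θ' c = 0
  · rw [e.1, e.2, zero_mul, zero_mul]
  have h1 : ε c = fun _ => s c := (not_and_or.1 e).elim (h.supp hθ hz) (h.supp hθ' hz')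
  rcases Int.units_eq_one_or (s c) with e' | e' <;> rw [e'] at h1
  · rcases (h.inj c).1 h1 with rfl | rfl
    · exact mul_comm _ _
    · rw [hz, hz']; ring
  · exact hw c e' h1

variable {p : ℕ} [Fact p.Prime] (h2 : p ≠ 2) (S : Subgroup (Perm κ))

omit [Fintype κ] [DecidableEq κ] [Finite E] h in
theorem ker_le : π.ker ≤ S.comap π := fun c hc => by rw [mem_comap, show π c = 1 from hc]; exact one_mem S

include h2

theorem cnt (D : Finset (π.ker → ℂ)) (hD : ∀ θ, θ ∈ D ↔ IsIrrCharacter _ θ ∧ θ z = -θ 1) (s' : S.comap π →* ℤˣ)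
    (hs : s' = 1 ∨ Even (Fintype.card κ) ∧ s' = s.comp (S.comap π).subtype) :
    nb p (inclusion (ker_le S) z) s' = D.card * T.k0 p S := by
  have hn := MonoidHom.normal_ker π
  have nr : Nr (inclusion (ker_le (π := π) S)) fun a c => MulAut.conjNormal (a : E) c := fun _ _ => rfl
  have zc : inclusion (ker_le S) z ∈ center (S.comap π) :=
    mem_center_iff.2 fun g => Subtype.ext (mem_center_iff.1 h.z_cen g)
  have inv : ∀ θ ∈ D, ∀ (a : S.comap π) c, θ (MulAut.conjNormal (a : E) c) = θ c := fun θ hθ a c => by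
    obtain ⟨Ψ, a1, a2, -⟩ := h.ext ((hD θ).1 hθ).1 ((hD θ).1 hθ).2
    rw [← a2, ← a2]
    exact isCharacter_isClassFunction a1 _ _
  have := T.finite_pi (p := p) fun χ : S.comap π → ℂ => χ (inclusion (ker_le S) z) = -χ 1 ∧ Van s' χ
  rw [nb, card_eq_sum D (fun χ θ => Over (inclusion (ker_le S)) χ.1 θ) fun χ => ?_, Finset.sum_congr rfl
    (g := fun _ => T.k0 p S) fun θ hθ => ?_, Finset.sum_const, smul_eq_mul]
  · obtain ⟨a1, a2⟩ := (hD θ).1 hθ
    obtain ⟨Ψ, b1, b2, b3⟩ := h.ext a1 a2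
    rw [← pairO (r := p) (π.subgroupComap S) (inclusion (ker_le S)) (Subgroup.ext fun x =>
      ⟨by rintro ⟨c, rfl⟩; exact Subtype.ext c.2, fun e => ⟨⟨x, congrArg Subtype.val e⟩, rfl⟩⟩)
      (π.subgroupComap_surjective_of_surjective S (surj_of_swaps fun i j e => ⟨_, h.pt i j e⟩)) nr a1 (inv θ hθ)
      (isCharacter_comp (S.comap π).subtype b1) b2 (h.nd h2 a1) s' (by
        rcases hs with rfl | ⟨e, rfl⟩
        exacts [van_one _, fun g hg => b3 e g hg])]
    exact Nat.card_congr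
      { toFun := fun χ => ⟨χ.1.1, χ.1.2.1, χ.2, χ.1.2.2.2⟩
        invFun := fun χ => ⟨⟨χ.1, χ.2.1, (spin_iff χ.2.1.1 a1 χ.2.2.1 h.z_cen' zc).2 a2, χ.2.2.2⟩, χ.2.2.1⟩
        left_inv := fun _ => rfl
        right_inv := fun _ => rfl }
  · obtain ⟨θ, a1, a2⟩ := exists_under (f := inclusion (ker_le S)) χ.2.1.1
    have a3 := (hD θ).2 ⟨a1, (spin_iff χ.2.1.1 a1 a2 h.z_cen' zc).1 χ.2.2.1⟩
    refine ⟨θ, ⟨a3, a2⟩, fun θ' b => ?_⟩
    obtain ⟨a, ha⟩ := nr.exists_conj χ.2.1.1 a1 ((hD θ').1 b.1).1 a2 b.2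
    exact funext fun c => (ha c).trans (inv θ a3 a c)

/-- an even number of generators -/
theorem even (he : Even (Fintype.card κ)) : nb p (inclusion (ker_le S) z) 1 = T.k0 p S ∧
    nb p (inclusion (ker_le S) z) (s.comp (S.comap π).subtype) = T.k0 p S := by
  obtain ⟨θ, a1, a2⟩ := h.exists_spin
  have hD : ∀ θ', θ' ∈ ({θ} : Finset (π.ker → ℂ)) ↔ IsIrrCharacter _ θ' ∧ θ' z = -θ' 1 := fun θ' => by
    rw [Finset.mem_singleton]
    refine ⟨fun e => e ▸ ⟨a1, a2⟩, fun b => h.eq_of b.1 b.2 a1 a2 fun w w1 w2 => ?_⟩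
    rw [h.s_om w2, he.neg_one_pow] at w1
    exact absurd w1 (by decide)
  exact ⟨(h.cnt h2 S _ hD 1 (Or.inl rfl)).trans (one_mul _), (h.cnt h2 S _ hD _ (Or.inr ⟨he, rfl⟩)).trans (one_mul _)⟩

/-- an odd number of generators -/
theorem odd (ho : Odd (Fintype.card κ)) : nb p (inclusion (ker_le S) z) 1 = 2 * T.k0 p S ∧
    nb p (inclusion (ker_le S) z) (s.comp (S.comap π).subtype) = 0 := by
  classical
  have hn := MonoidHom.normal_ker π
  obtain ⟨θ, a1, a2⟩ := h.exists_spin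
  obtain ⟨w, hw⟩ := h.exists_om
  have w1 : s w = -1 := by rw [h.s_om hw, ho.neg_one_pow]
  have w2 : w ∈ center π.ker := by
    have k : centralizer {w} = ⊤ := h.gen
      (fun i => mem_centralizer_singleton_iff.2 (by rw [h.comm, w1, hw, if_pos rfl, one_mul]))
      (mem_centralizer_singleton_iff.2 (mem_center_iff.1 h.z_cen' w).symm)
    exact mem_center_iff.2 fun c => mem_centralizer_singleton_iff.1 (k ▸ mem_top c)
  have w3 : ∀ c, (ε c = fun _ => -1) → c = w ∨ c = z * w := fun c hc =>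
    ((h.inj (c * w⁻¹)).1 (by rw [map_mul, map_inv, hc, hw, mul_inv_cancel])).imp mul_inv_eq_one.1
      mul_inv_eq_iff_eq_mul.1
  have w4 : ∀ {G : Type} [Group G] [Finite G] {χ : G → ℂ} {x : G}, IsIrrCharacter G χ → x ∈ center G →
      χ x ≠ 0 ∧ χ x * χ x = χ (x * x) * χ 1 := fun {G} _ _ χ x hχ hx => by
    obtain ⟨c, c1, c2, -⟩ := ODD.Red.exists_central hχ hx
    have c3 := c1 1
    rw [mul_one] at c3
    refine ⟨c3 ▸ mul_ne_zero (fun e => ?_) (isIrr_apply_one_ne_zero hχ), by rw [c1, c3]; ring⟩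
    have c4 := c2 _ (pow_orderOf_eq_one x)
    rw [e, zero_pow (orderOf_pos x).ne'] at c4
    exact zero_ne_one c4
  let θ' : π.ker → ℂ := fun c => sg (s.comp π.ker.subtype) c * θ c
  have b1 : IsIrrCharacter _ θ' := ODD.Red.isIrr_lin_mul _ a1
  have b0 : θ' 1 = θ 1 := by simp only [θ', _root_.map_one, _root_.Units.val_one, _root_.one_mul]
  have b2 : θ' z = -θ' 1 := by rw [b0, ← a2, ← one_mul (θ z), ← sg_one (s := s.comp π.ker.subtype) h.sz]
  have b3 : θ' w = -θ w := by rw [← neg_one_mul, ← sg_neg (s := s.comp π.ker.subtype) w1]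
  have k : ∀ η η' : π.ker → ℂ, IsIrrCharacter _ η → η z = -η 1 → IsIrrCharacter _ η' → η' z = -η' 1 →
      η w * η' 1 = η' w * η 1 → η = η' := fun η η' c1 c2 c3 c4 c5 => h.eq_of c1 c2 c3 c4 fun c _ hc => by
    rcases w3 c hc with rfl | rfl
    · exact c5
    · rw [spin_mul c1 h.z_cen' c2, spin_mul c3 h.z_cen' c4, neg_mul, neg_mul, c5]
  have hD : ∀ η, η ∈ ({θ, θ'} : Finset (π.ker → ℂ)) ↔ IsIrrCharacter _ η ∧ η z = -η 1 := fun η => by
    rw [Finset.mem_insert, Finset.mem_singleton]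
    refine ⟨by rintro (rfl | rfl); exacts [⟨a1, a2⟩, ⟨b1, b2⟩], fun c => ?_⟩
    have c1 : (η w * θ 1) ^ 2 = (θ w * η 1) ^ 2 := by
      rw [mul_pow, mul_pow, pow_two (η w), pow_two (θ w), (w4 c.1 w2).2, (w4 a1 w2).2]
      rcases (h.inj (w * w)).1 (funext fun i => by rw [map_mul]; exact Int.units_mul_self _) with e | e <;> rw [e]
      · ring
      · rw [a2, c.2]; ring
    exact (sq_eq_sq_iff_eq_or_eq_neg.1 c1).imp (k _ _ c.1 c.2 a1 a2) fun e =>
      k _ _ c.1 c.2 b1 b2 (by rw [b0, b3, e, neg_mul])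
  refine ⟨(h.cnt h2 S _ hD 1 (Or.inl rfl)).trans ?_, Nat.card_eq_zero.2 (Or.inl ⟨fun χ => ?_⟩)⟩
  · rw [Finset.card_pair fun e => (w4 a1 w2).1 (self_eq_neg.1 ((congrFun e w).trans b3))]
  · obtain ⟨Ψ, c1, c2, -⟩ := h.ext a1 a2
    refine (w4 χ.2.1.1 (x := inclusion (ker_le S) w) (mem_center_iff.2 fun g => Subtype.ext ?_)).1 (χ.2.2.2 _ w1)
    let c : π.ker := MulAut.conjNormal (g : E) w
    have c3 : θ c = θ w := by
      rw [← c2, ← c2]
      exact isCharacter_isClassFunction c1 _ _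
    have c4 : s c = -1 := by
      change s (g * w * (g : E)⁻¹) = -1
      rw [map_mul, map_mul, map_inv, mul_inv_cancel_comm, w1]
    rcases w3 c (c4 ▸ h.supp a1 a2 (c3 ▸ (w4 a1 w2).1)) with e | e
    · exact mul_inv_eq_iff_eq_mul.1 (congrArg Subtype.val e)
    · rw [e, spin_mul a1 h.z_cen' a2] at c3
      exact absurd (neg_eq_self.1 c3) (w4 a1 w2).1

end Cl

end Cfsg.Agent.MO.A.W
end

-- part: MO/A/SpinT
section
/-!
# MO, the faithful characters of a double cover of `S_n` (helper42)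

* `F P b L` : the class function `b * X_L`; `F_inner` : orthogonality; `key` : an irreducible character `χ` which is not
  orthogonal to `F P b L` satisfies `2 * F P b L = 2 ^ j * (χ + sign * χ)`, and it vanishes on the odd elements if and only
  if the sign of `L` is `+`;
* `card_pos`, `card_neg` : the counts; `spinT : SpinT`.
-/

set_option autoImplicit false
set_option linter.unusedSectionVars false

namespace Cfsg.Agent.MO.A.Spin

open Finset Cfsg Equiv Cfsg.Agent.H614 Cfsg.Agent.H614.Spin Cfsg.Agent.Characters Cfsg.Agent.Characters.Core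
  Cfsg.Agent.H686.Spin Cfsg.Agent.CharactersDeep.AbelianQuotient Cfsg.Agent.ODD.Red
open Cfsg.Agent.MK (Ov)
open scoped ComplexConjugate

theorem card_of_rel {A B : Type*} [Finite A] (R : A → B → Prop) {k : ℕ} (hk : k ≠ 0) (h1 : ∀ a, ∃! b, R a b)
    (h2 : ∀ b, Nat.card {a // R a b} = k) : Nat.card A = k * Nat.card B := by
  choose f hf hu using h1
  have hs : Function.Surjective f := fun b => by
    obtain ⟨a, ha⟩ := (Nat.card_ne_zero.1 ((h2 b).symm ▸ hk)).1
    exact ⟨a, (hu a b ha).symm⟩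
  have : Finite B := Finite.of_surjective f hs
  have := Fintype.ofFinite B
  have h3 : ∀ b, Nat.card {a // f a = b} = k := fun b =>
    (Nat.card_congr (Equiv.subtypeEquivRight fun a => ⟨fun e => e ▸ hf a, fun e => (hu a b e).symm⟩)).trans (h2 b)
  rw [← Nat.card_congr (Equiv.sigmaFiberEquiv f), Nat.card_sigma, Finset.sum_congr rfl fun b _ => h3 b,
    Finset.sum_const, Finset.card_univ, smul_eq_mul, Nat.card_eq_fintype_card, mul_comm]

theorem card_split {A : Type*} [Finite A] (q : A → Prop) : Nat.card A = Nat.card {a // q a} + Nat.card {a // ¬ q a} := by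
  classical
  rw [← Nat.card_congr (Equiv.sumCompl q), Nat.card_sum]

variable {n : ℕ} {T : Type} [Group T]

/-- the sign character -/
noncomputable def eps (P : T →* Perm (Fin n)) : T →* ℂˣ :=
  (Units.map (Int.castRingHom ℂ).toMonoidHom).comp (Perm.sign.comp P)

/-- the associate character -/
noncomputable def asc (P : T →* Perm (Fin n)) (χ : T → ℂ) : T → ℂ := (fun g => (eps P g : ℂ)) * χ

/-- the class function of a strict partition -/
noncomputable def F (P : T →* Perm (Fin n)) (b : T → ℂ) (L : List ℤ) : T → ℂ := fun x => b x * (X (ty (P x)) L : ℂ)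

variable {P : T →* Perm (Fin n)} {z : T} {b : T → ℂ}

theorem asc_pos (χ : T → ℂ) {x : T} (h : Perm.sign (P x) = 1) : asc P χ x = χ x := by
  change (((Perm.sign (P x) : ℤˣ) : ℤ) : ℂ) * χ x = χ x
  rw [h, Units.val_one, Int.cast_one, one_mul]

theorem asc_neg (χ : T → ℂ) {x : T} (h : Perm.sign (P x) = -1) : asc P χ x = -χ x := by
  change (((Perm.sign (P x) : ℤˣ) : ℤ) : ℂ) * χ x = -χ x
  rw [h, Units.val_neg, Units.val_one, Int.cast_neg, Int.cast_one, neg_one_mul]

theorem asc_one (χ : T → ℂ) : asc P χ 1 = χ 1 := asc_pos χ (by rw [map_one, map_one])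

theorem asc_eq_iff {χ : T → ℂ} : asc P χ = χ ↔ ∀ x, Perm.sign (P x) = -1 → χ x = 0 := by
  refine ⟨fun h x hx => ?_, fun h => funext fun x => ?_⟩
  · have h1 := congrFun h x
    rw [asc_neg χ hx] at h1
    linear_combination -(1 / 2 : ℂ) * h1
  · rcases Int.units_eq_one_or (Perm.sign (P x)) with e | e
    · exact asc_pos χ e
    · rw [asc_neg χ e, h x e, neg_zero]

theorem asc_asc (χ : T → ℂ) : asc P (asc P χ) = χ := funext fun x => by
  rcases Int.units_eq_one_or (Perm.sign (P x)) with e | e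
  · rw [asc_pos _ e, asc_pos _ e]
  · rw [asc_neg _ e, asc_neg _ e, neg_neg]

variable [Fintype T]

theorem asc_irr {χ : T → ℂ} (h : IsIrrCharacter T χ) : IsIrrCharacter T (asc P χ) := isIrr_linear_mul _ h

theorem asc_inner (f g : T → ℂ) : classInner (asc P f) (asc P g) = classInner f g := classInner_linear_mul _ f g

theorem F_class (h : SpinData n P z b) (L : List ℤ) : IsClassFunction T (F P b L) := fun x t => by
  unfold F
  rw [h.isClass x t, map_mul, map_mul, map_inv, H886.Spin.ty_conj]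

theorem F_van (h : SpinData n P z b) (L : List ℤ) (x : T) (hx : Perm.sign (P x) = -1) : F P b L x = 0 := by
  unfold F
  rw [h.van x fun ho => by rw [sign_of_odd ho] at hx; exact absurd hx (by decide), zero_mul]

theorem F_z (h : SpinData n P z b) (L : List ℤ) : F P b L z = -F P b L 1 := by
  have h1 := h.neg 1
  rw [mul_one] at h1
  unfold F
  rw [h1, (h.ker z).2 (Or.inr rfl), map_one, neg_mul]

theorem F_one (h : SpinData n P z b) (L : List ℤ) : ∃ k : ℕ, F P b L 1 = 2 ^ k * (X (Multiset.replicate n 1) L : ℂ) := by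
  obtain ⟨k, hk⟩ := h.one_pos
  refine ⟨k, ?_⟩
  unfold F
  rw [hk, map_one, ty_one, Fintype.card_fin]

theorem F_inner (h : SpinData n P z b) {L M : List ℤ} (hL : Strict L) (hM : Strict M) (hs : M.sum = n) :
    classInner (F P b L) (F P b M) = if L = M then 2 ^ (L.length + if Even n then 2 else 1) else 0 := by
  obtain ⟨c₀, hc₀⟩ : ∃ c₀, c₀ = if Even n then 2 else 1 := ⟨_, rfl⟩
  have sq := h.sq
  rw [← hc₀] at sq ⊢
  have h1 : ∀ x : T, F P b L x * conj (F P b M x) =
      (fun g : Perm (Fin n) => (((2 : ℚ) ^ c₀ * (H886.Spin.wt (ty g) * H886.Spin.QQ (ty g) L *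
        H886.Spin.QQ (ty g) M) : ℚ) : ℂ)) (P x) := by
    intro x
    simp only [F]
    rw [map_mul, show conj ((X (ty (P x)) M : ℤ) : ℂ) = ((X (ty (P x)) M : ℤ) : ℂ) from
      map_intCast (starRingEnd ℂ) _]
    push_cast
    rw [H886.Spin.wtC]
    unfold H886.Spin.QQ
    rw [← H886.Spin.X_eq, ← H886.Spin.X_eq]
    by_cases ho : ∀ i ∈ ty (P x), Odd i
    · rw [if_pos ho]
      have := sq x ho
      rw [pow_add] at this
      push_cast
      linear_combination (X (ty (P x)) L : ℂ) * (X (ty (P x)) M : ℂ) * this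
    · rw [if_neg ho, h.van x ho]; simp
  rw [classInner_def, Finset.sum_congr rfl fun x _ => h1 x, H886.Spin.sum_fibre h.surj h.z_ne h.ker (fun g : Perm (Fin n) =>
    (((2 : ℚ) ^ c₀ * (H886.Spin.wt (ty g) * H886.Spin.QQ (ty g) L * H886.Spin.QQ (ty g) M) : ℚ) : ℂ)),
    H886.Spin.card_T h.surj h.z_ne h.ker]
  have h2 := sum_perm (α := Fin n) (fun s => (2 : ℚ) ^ c₀ * (H886.Spin.wt s * H886.Spin.QQ s L * H886.Spin.QQ s M))
  rw [Z_smul, Fintype.card_fin] at h2
  have h4 := H886.Spin.W_strict hL hM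
  unfold H886.Spin.W at h4
  rw [hs, if_pos (by omega), Int.toNat_natCast] at h4
  rw [h4] at h2
  have h5 := congrArg (Rat.cast : ℚ → ℂ) h2
  rw [Rat.cast_sum] at h5
  have hnf : ((n.factorial : ℕ) : ℂ) ≠ 0 := by exact_mod_cast n.factorial_ne_zero
  rw [h5]
  split_ifs
  · push_cast
    field_simp
    ring
  · simp

theorem complete (h : SpinData n P z b) {χ : T → ℂ} (h1 : χ 1 ≠ 0) (hz : χ z = -χ 1) :
    ∃ L : List ℤ, Strict L ∧ L.sum = n ∧ classInner χ (F P b L) ≠ 0 := by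
  classical
  obtain ⟨k, hk⟩ := h.one_pos
  obtain ⟨L, hL, hs, h2⟩ := H886.Spin.exists_strict h.ker h.neg (by rw [hk]; exact pow_ne_zero _ two_ne_zero) h.van ⊤
    trivial h.z_ne (χ := fun x => χ x) h1 hz
  refine ⟨L, hL, hs, mul_ne_zero (inv_ne_zero card_ne_zero_complex) ?_⟩
  rw [← Fintype.sum_equiv Subgroup.topEquiv.toEquiv
    (fun x : (⊤ : Subgroup T) => χ x * conj (b x * (X (ty (P x)) L : ℂ))) (fun x => χ x * conj (F P b L x)) fun _ => rfl]
  exact h2

theorem exists_irr (h : SpinData n P z b) {L : List ℤ} (hL : Strict L) (hs : L.sum = n) :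
    ∃ χ, IsIrrCharacter T χ ∧ classInner χ (F P b L) ≠ 0 := by
  by_contra h1
  have h2 := classFunction_eq_zero (F_class h L) fun χ hχ => by
    rw [← classInner_conj_symm, not_not.1 fun e => h1 ⟨χ, hχ, e⟩, map_zero]
  have h3 := F_inner h hL hL hs
  rw [if_pos rfl, h2, classInner_zero_left] at h3
  exact pow_ne_zero _ two_ne_zero h3.symm

theorem not_neg (h : SpinData n P z b) {L : List ℤ} (hL : Strict L) (hs : L.sum = n) (k m : ℕ) :
    F P b L 1 ≠ 2 ^ k * (-(m : ℂ)) := by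
  intro h1
  obtain ⟨k', hk'⟩ := F_one h L
  rw [hk'] at h1
  have h3 := X_ones_pos n hL hs
  have h4 : ((2 : ℤ) ^ k' * X (Multiset.replicate n 1) L + 2 ^ k * m : ℤ) = 0 := by
    have : (((2 : ℤ) ^ k' * X (Multiset.replicate n 1) L + 2 ^ k * m : ℤ) : ℂ) = 0 := by
      push_cast
      linear_combination h1
    exact_mod_cast this
  have h5 : (0 : ℤ) ≤ 2 ^ k * m := by positivity
  have h6 : (0 : ℤ) < 2 ^ k' * X (Multiset.replicate n 1) L := by positivity
  omega

theorem norm_of {G : Type} [Group G] [Fintype G] {f θ : G → ℂ} {k : ℕ} (h : ∀ x, f x = 2 ^ k * θ x)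
    (h1 : classInner f f = 2 ^ (k + k)) : classInner θ θ = 1 := by
  have h2 : f = (2 ^ k : ℂ) • θ := funext h
  rw [h2, classInner_smul_left, classInner_smul_right, map_pow, Complex.conj_ofNat, ← mul_assoc, ← pow_add] at h1
  exact mul_left_cancel₀ (pow_ne_zero (k + k) two_ne_zero) (h1.trans (mul_one _).symm)

theorem inner_restrict (H : Subgroup T) [Fintype H] (hH : H.index = 2) (f : T → ℂ) {g : T → ℂ} (hg : ∀ x, x ∉ H → g x = 0) :
    classInner (fun x : H => f x) (fun x : H => g x) = 2 * classInner f g := by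
  classical
  have h1 : ∑ x : T, f x * conj (g x) = ∑ x : H, f x * conj (g x) := by
    rw [← Finset.sum_filter_of_ne (p := fun x => x ∈ H)]
    · rw [← Finset.sum_subtype (univ.filter fun x => x ∈ H) (p := fun x => x ∈ H) (by simp) fun x => f x * conj (g x)]
    · intro x _ hx
      by_contra hxH
      exact hx (by rw [hg x hxH, map_zero, mul_zero])
  have h2 : (Nat.card T : ℂ) = Nat.card H * 2 := by
    rw [← H.card_mul_index, hH]; push_cast; rfl
  have h3 : (Nat.card H : ℂ) ≠ 0 := card_ne_zero_complex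
  rw [classInner_def, classInner_def, h1, h2]
  field_simp

/-- **the constituents of `F P b L`** -/
theorem key (hn : 2 ≤ n) (h : SpinData n P z b) {L : List ℤ} (hL : Strict L) (hs : L.sum = n) {χ : T → ℂ}
    (hχ : IsIrrCharacter T χ) (hne : classInner χ (F P b L) ≠ 0) :
    (∃ j : ℕ, (2 : ℂ) • F P b L = (2 ^ j : ℂ) • (χ + asc P χ)) ∧ (Even (n + L.length) ↔ asc P χ = χ) := by
  classical
  have hnorm := F_inner h hL hL hs
  rw [if_pos rfl] at hnorm
  obtain ⟨c₀, hc₀⟩ : ∃ c₀, c₀ = if Even n then 2 else 1 := ⟨_, rfl⟩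
  have hpar : Even (n + L.length) ↔ Even (L.length + c₀) := by
    rw [hc₀]
    split_ifs with h1 <;> simp only [Nat.even_iff] at h1 ⊢ <;> (clear * - h1; solve | lia | omega)
  have divT := h.divT
  rw [← hc₀] at divT hnorm
  rw [hpar]
  rcases Nat.even_or_odd (L.length + c₀) with hp | hp
  · obtain ⟨θ, hθ1, hθ2⟩ := H886.Spin.exists_theta P b c₀ divT hL.2
    obtain ⟨k, hk⟩ := hp
    rw [show (L.length + c₀) / 2 = k by omega] at hθ2
    have hF : F P b L = (2 ^ k : ℂ) • θ := funext hθ2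
    rcases isIrr_of_generalized hθ1 (norm_of (f := F P b L) hθ2 (hk ▸ hnorm)) with hirr | hirr
    · have h1 : χ = θ := by
        by_contra e
        exact hne (by rw [hF, classInner_smul_right, classInner_irr_ne hχ hirr e, mul_zero])
      have h2 : asc P χ = χ := asc_eq_iff.2 fun x hx => by
        have h3 := hθ2 x
        rw [← h1] at h3
        exact (mul_eq_zero.1 (h3.symm.trans (F_van h L x hx))).resolve_left (pow_ne_zero _ two_ne_zero)
      refine ⟨⟨k, ?_⟩, iff_of_true ⟨k, hk⟩ h2⟩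
      rw [h2, hF, h1, two_smul, smul_add]
    · obtain ⟨m, -, hm⟩ := isIrr_apply_one hirr
      exact absurd (by rw [← hm, Pi.neg_apply, neg_neg]; exact hθ2 1) (not_neg h hL hs k m)
  · let H : Subgroup T := (alternatingGroup (Fin n)).comap P
    have hH : ∀ x, x ∈ H ↔ Perm.sign (P x) = 1 := fun x => Perm.mem_alternatingGroup
    have hH' : ∀ x, x ∉ H → Perm.sign (P x) = -1 := fun x hx =>
      (Int.units_eq_one_or _).resolve_left fun e => hx ((hH x).2 e)
    have hn0 : Nontrivial (Fin n) := Fin.nontrivial_iff_two_le.mpr hn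
    have hindex : H.index = 2 := by
      rw [Subgroup.index_comap_of_surjective _ h.surj, alternatingGroup.index_eq_two]
    have hnm : H.Normal := Subgroup.normal_of_index_eq_two hindex
    have hvan : ∀ x, x ∉ H → F P b L x = 0 := fun x hx => F_van h L x (hH' x hx)
    obtain ⟨θ, hθ1, hθ2⟩ := H886.Spin.exists_theta (fun x : H => P (x : T)) (fun x : H => b (x : T)) (1 + c₀)
      (fun m a ha => by
        obtain ⟨θ, h1, h2⟩ := h.divH m a ha
        exact ⟨θ, h1, fun x => by rw [h2 x, add_assoc, hc₀]⟩) hL.2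
    obtain ⟨k, hk⟩ := hp
    rw [show (L.length + (1 + c₀)) / 2 = k + 1 by omega] at hθ2
    have hF : (fun x : H => F P b L x) = (2 ^ (k + 1) : ℂ) • θ := funext hθ2
    have hθn : classInner θ θ = 1 := norm_of (f := fun x : H => F P b L x) hθ2 (by
      rw [inner_restrict H hindex _ hvan, hnorm, hk]; ring)
    rcases isIrr_of_generalized hθ1 hθn with hirr | hirr
    · have h1 : classInner (fun x : H => χ x) θ ≠ 0 := fun e => hne (by
        have h2 := inner_restrict H hindex χ hvan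
        rw [hF, classInner_smul_right, e, mul_zero] at h2
        exact (mul_eq_zero.1 h2.symm).resolve_left two_ne_zero)
      have h2 : ¬ ∀ x, x ∉ H → χ x = 0 := fun hv => by
        obtain ⟨t, ht⟩ : ∃ t, t ∉ H := by
          by_contra e
          rw [Subgroup.index_eq_one.2 (eq_top_iff.2 fun t _ => by_contra fun e' => e ⟨t, e'⟩)] at hindex
          omega
        have h3 : (fun x : H => χ x) = (2 : ℂ) • θ := funext fun x => by
          have h4 : θ (MulAut.conjNormal t x) = θ x := by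
            refine mul_left_cancel₀ (pow_ne_zero (k + 1) two_ne_zero) ?_
            rw [← hθ2, ← hθ2, MulAut.conjNormal_apply]
            exact F_class h L x t
          rw [H886.Spin.restrict_sum H hindex hχ hv hirr h1 ht x, h4, two_smul, Pi.add_apply]
        have h5 := inner_restrict H hindex χ hv
        rw [h3, classInner_smul_left, classInner_smul_right, hθn, classInner_irr_self hχ, Complex.conj_ofNat] at h5
        norm_num at h5
      have h3 := (restrict_two H hindex hχ hirr h1).resolve_right fun e => h2 e.2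
      refine ⟨⟨k + 1, funext fun x => ?_⟩, iff_of_false (by rw [hk, Nat.even_iff]; omega)
        fun e => h2 fun x hx => asc_eq_iff.1 e x (hH' x hx)⟩
      simp only [Pi.smul_apply, Pi.add_apply, smul_eq_mul]
      by_cases hx : x ∈ H
      · rw [asc_pos χ ((hH x).1 hx), h3 ⟨x, hx⟩, show F P b L x = _ from hθ2 ⟨x, hx⟩]
        ring
      · rw [asc_neg χ (hH' x hx), hvan x hx]
        ring
    · obtain ⟨m, -, hm⟩ := isIrr_apply_one hirr
      exact absurd (by rw [← hm, Pi.neg_apply, neg_neg]; exact hθ2 1) (not_neg h hL hs (k + 1) m)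

section cons

variable (hn : 2 ≤ n) (h : SpinData n P z b) {L M : List ℤ} (hL : Strict L) (hs : L.sum = n) {χ χ' : T → ℂ}
  (hχ : IsIrrCharacter T χ) (hne : classInner χ (F P b L) ≠ 0)
include hn h hL hs hχ hne

theorem lab_asc : classInner (asc P χ) (F P b L) ≠ 0 := by
  rwa [← asc_eq_iff.2 (F_van h L), asc_inner]

theorem lab_fib (hχ' : IsIrrCharacter T χ') (hne' : classInner χ' (F P b L) ≠ 0) : χ' = χ ∨ χ' = asc P χ := by
  obtain ⟨⟨j, hj⟩, -⟩ := key hn h hL hs hχ hne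
  by_contra e
  rw [not_or] at e
  have h1 := congrArg (classInner χ') hj
  rw [classInner_smul_right, classInner_smul_right, classInner_add_right, classInner_irr_ne hχ' hχ e.1,
    classInner_irr_ne hχ' (asc_irr hχ) e.2, add_zero, mul_zero, Complex.conj_ofNat] at h1
  exact hne' ((mul_eq_zero.1 h1).resolve_left two_ne_zero)

theorem lab_uniq (hM : Strict M) (hs' : M.sum = n) (hne' : classInner χ (F P b M) ≠ 0) : M = L := by
  obtain ⟨⟨j, hj⟩, -⟩ := key hn h hL hs hχ hne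
  by_contra e
  have h1 := congrArg (fun f => classInner f (F P b M)) hj
  rw [classInner_smul_left, classInner_smul_left, classInner_add_left, F_inner h hL hM hs', if_neg (Ne.symm e),
    ← asc_eq_iff.2 (F_van h M), asc_inner, asc_eq_iff.2 (F_van h M), mul_zero, ← two_mul] at h1
  exact mul_ne_zero (pow_ne_zero _ two_ne_zero) (mul_ne_zero two_ne_zero hne') h1.symm

theorem lab_z : χ z = -χ 1 := by
  obtain ⟨⟨j, hj⟩, -⟩ := key hn h hL hs hχ hne
  have h1 := congrFun hj z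
  have h2 := congrFun hj 1
  simp only [Pi.smul_apply, Pi.add_apply, smul_eq_mul] at h1 h2
  rw [asc_pos χ (by rw [(h.ker z).2 (Or.inr rfl), map_one]), F_z h] at h1
  rw [asc_one] at h2
  refine mul_left_cancel₀ (mul_ne_zero (pow_ne_zero j two_ne_zero) two_ne_zero) ?_
  linear_combination -h1 - h2

theorem lab_deg {p : ℕ} (hp : p.Prime) (hp2 : p ≠ 2) : p ∣ charDegree χ ↔ (p : ℤ) ∣ X (Multiset.replicate n 1) L := by
  obtain ⟨⟨j, hj⟩, -⟩ := key hn h hL hs hχ hne
  obtain ⟨k, hk⟩ := F_one h L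
  have h2 := congrFun hj 1
  simp only [Pi.smul_apply, Pi.add_apply, smul_eq_mul] at h2
  rw [asc_one, hk, apply_one (isIrr_isCharacter hχ)] at h2
  have h3 : (2 : ℤ) ^ k * X (Multiset.replicate n 1) L = 2 ^ j * (charDegree χ : ℤ) := by
    have : (((2 : ℤ) ^ k * X (Multiset.replicate n 1) L : ℤ) : ℂ) = ((2 ^ j * (charDegree χ : ℤ) : ℤ) : ℂ) := by
      push_cast
      linear_combination (1 / 2 : ℂ) * h2
    exact_mod_cast this
  have hq : Prime (p : ℤ) := Nat.prime_iff_prime_int.1 hp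
  have h4 : ∀ i : ℕ, ¬ (p : ℤ) ∣ 2 ^ i := fun i e => by
    have h5 : p ∣ 2 := by exact_mod_cast hq.dvd_of_dvd_pow e
    exact hp2 ((Nat.prime_dvd_prime_iff_eq hp Nat.prime_two).1 h5)
  rw [← Int.natCast_dvd_natCast]
  exact ⟨fun e => (hq.dvd_or_dvd (h3 ▸ e.mul_left _)).resolve_left (h4 k),
    fun e => (hq.dvd_or_dvd (h3 ▸ e.mul_left _)).resolve_left (h4 j)⟩

end cons

section count

variable {p : ℕ} (hp : p.Prime) (hp2 : p ≠ 2) (hn : 2 ≤ n) (h : SpinData n P z b)
include hp hp2 hn h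

theorem card_pos : Nat.card {χ : T → ℂ // PI p T χ ∧ χ z = -χ 1 ∧ asc P χ = χ} = sp p n := by
  have := MO.T.finite_pi (p := p) fun χ : T → ℂ => χ z = -χ 1 ∧ asc P χ = χ
  refine (card_of_rel (fun χ L => classInner χ.1 (F P b L.1) ≠ 0) one_ne_zero (fun χ => ?_) fun L => ?_).trans (one_mul _)
  · obtain ⟨L, hL, hs, h1⟩ := complete h χ.2.1.one_ne χ.2.2.1
    exact ⟨⟨L, hL, hs, fun e => χ.2.1.2 ((lab_deg hn h hL hs χ.2.1.1 h1 hp hp2).2 e),
      (key hn h hL hs χ.2.1.1 h1).2.2 χ.2.2.2⟩, h1,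
      fun M hM => Subtype.ext (lab_uniq hn h hL hs χ.2.1.1 h1 M.2.1 M.2.2.1 hM)⟩
  · obtain ⟨L, hL, hs, hd, he⟩ := L
    obtain ⟨χ, hχ, h1⟩ := exists_irr h hL hs
    have h2 := (key hn h hL hs hχ h1).2.1 he
    refine Nat.card_eq_one_iff_exists.2 ⟨⟨⟨χ, ⟨hχ, fun e => hd ((lab_deg hn h hL hs hχ h1 hp hp2).1 e)⟩,
      lab_z hn h hL hs hχ h1, h2⟩, h1⟩, fun ψ => Subtype.ext (Subtype.ext ?_)⟩
    exact (lab_fib hn h hL hs hχ h1 ψ.1.2.1.1 ψ.2).elim id fun e => e.trans h2

theorem card_neg : Nat.card {χ : T → ℂ // PI p T χ ∧ χ z = -χ 1 ∧ ¬ asc P χ = χ} = 2 * sn p n := by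
  have := MO.T.finite_pi (p := p) fun χ : T → ℂ => χ z = -χ 1 ∧ ¬ asc P χ = χ
  refine card_of_rel (fun χ L => classInner χ.1 (F P b L.1) ≠ 0) two_ne_zero (fun χ => ?_) fun L => ?_
  · obtain ⟨L, hL, hs, h1⟩ := complete h χ.2.1.one_ne χ.2.2.1
    exact ⟨⟨L, hL, hs, fun e => χ.2.1.2 ((lab_deg hn h hL hs χ.2.1.1 h1 hp hp2).2 e),
      Nat.not_even_iff_odd.1 fun e => χ.2.2.2 ((key hn h hL hs χ.2.1.1 h1).2.1 e)⟩, h1,
      fun M hM => Subtype.ext (lab_uniq hn h hL hs χ.2.1.1 h1 M.2.1 M.2.2.1 hM)⟩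
  · obtain ⟨L, hL, hs, hd, he⟩ := L
    have mk : ∀ χ, IsIrrCharacter T χ → classInner χ (F P b L) ≠ 0 → PI p T χ ∧ χ z = -χ 1 ∧ ¬ asc P χ = χ :=
      fun χ hχ h1 => ⟨⟨hχ, fun e => hd ((lab_deg hn h hL hs hχ h1 hp hp2).1 e)⟩, lab_z hn h hL hs hχ h1,
        fun e => Nat.not_even_iff_odd.2 he ((key hn h hL hs hχ h1).2.2 e)⟩
    obtain ⟨χ, hχ, h1⟩ := exists_irr h hL hs
    have h2 := lab_asc hn h hL hs hχ h1
    refine Nat.card_eq_two_iff.2 ⟨⟨⟨χ, mk χ hχ h1⟩, h1⟩, ⟨⟨asc P χ, mk _ (asc_irr hχ) h2⟩, h2⟩,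
      fun e => (mk χ hχ h1).2.2 (congrArg (fun ψ => ψ.1.1) e).symm, Set.eq_univ_iff_forall.2 fun ψ => ?_⟩
    exact (lab_fib hn h hL hs hχ h1 ψ.1.2.1.1 ψ.2).imp (fun e => Subtype.ext (Subtype.ext e))
      fun e => Subtype.ext (Subtype.ext e)

end count

/-- every cover has spin data -/
theorem exists_data (hn : 3 ≤ n) (h : Sc P z) : ∃ (T' : Type) (_ : Group T') (_ : Fintype T') (P' : T' →* Perm (Fin n))
    (z' : T') (b : T' → ℂ) (e : T ≃* T'), SpinData n P' z' b ∧ (∀ x, P' (e x) = P x) ∧ e z = z' := by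
  have hG := SporadicRecognition.AltCover.isCover_model (n := n + 2) (by omega)
  have := finite_model (n + 2)
  obtain ⟨ι, _, _, γ, f, hf⟩ := exists_spinRep (by omega) hG
  obtain ⟨e, h1, h2⟩ := h.unique (sc_TT hG)
  exact ⟨_, inferInstance, Fintype.ofFinite _, _, _, _, e, spinData_TT hG hf, h1, h2⟩

/-! ### the small degrees -/

theorem strict_small {L : List ℤ} (hL : Strict L) (h : L.sum ≤ 2) : L = [] ∨ L = [L.sum] := by
  match L, hL, h with
  | [], _, _ => exact Or.inl rfl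
  | [a], _, _ => exact Or.inr (by simp)
  | a :: c :: L, hL, h =>
    have h1 := hL.2 c (by simp)
    have h2 := (List.pairwise_cons.1 hL.1).1 c (by simp)
    have h3 : 0 ≤ L.sum := List.sum_nonneg fun x hx => (hL.2 x (by simp [hx])).le
    simp only [List.sum_cons] at h
    omega

theorem strict_single {a : ℤ} (h : 0 < a) : Strict [a] := ⟨List.pairwise_singleton _ _, by simpa using h⟩

theorem nd_one {p : ℕ} (hp : p.Prime) : ¬ (p : ℤ) ∣ 1 := fun e => hp.not_dvd_one (by exact_mod_cast e)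

theorem sp_zero {p : ℕ} (hp : p.Prime) : sp p 0 = 1 :=
  Nat.card_eq_one_iff_exists.2 ⟨⟨[], ⟨List.Pairwise.nil, by simp⟩, rfl, nd_one hp, by simp only [_root_.List.length_nil, _root_.add_zero, _root_.Even.zero]⟩, fun L => Subtype.ext <|
    (strict_small L.2.1 (by rw [L.2.2.1]; norm_num)).resolve_right fun e => by
      have h1 := L.2.1.2 L.1.sum (by rw [e]; simp)
      rw [L.2.2.1] at h1
      simp at h1⟩

theorem sp_one {p : ℕ} (hp : p.Prime) : sp p 1 = 1 :=
  Nat.card_eq_one_iff_exists.2 ⟨⟨[1], strict_single one_pos, rfl, nd_one hp, by simp only [_root_.List.length_cons, _root_.List.length_nil, _root_.zero_add, _root_.Nat.reduceAdd, _root_.even_two]⟩, fun L => Subtype.ext <| by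
    have h1 := L.2.2.1
    rcases strict_small L.2.1 (by rw [h1]; norm_num) with e | e
    · rw [e] at h1
      simp at h1
    · rw [e, h1]
      rfl⟩

theorem eq_two {L : List ℤ} (hL : Strict L) (h1 : L.sum = (2 : ℕ)) : L = [2] := by
  rcases strict_small hL (by rw [h1]; norm_num) with e | e
  · rw [e] at h1
    simp at h1
  · rw [e, h1]
    rfl

theorem sp_two (p : ℕ) : sp p 2 = 0 := by
  refine Nat.card_eq_zero.2 (Or.inl ⟨fun L => ?_⟩)
  have h1 := L.2.2.2.2
  rw [eq_two L.2.1 L.2.2.1] at h1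
  exact absurd h1 (by decide)

theorem sn_two {p : ℕ} (hp : p.Prime) : sn p 2 = 1 :=
  Nat.card_eq_one_iff_exists.2 ⟨⟨[2], strict_single two_pos, rfl, nd_one hp, by decide⟩,
    fun L => Subtype.ext (eq_two L.2.1 L.2.2.1)⟩

theorem exists_lin {p : ℕ} (hp : p.Prime) (hc : ∀ x y : T, x * y = y * x) {χ : T → ℂ} :
    PI p T χ ↔ ∃ f : T →* ℂˣ, χ = fun x => (f x : ℂ) := by
  refine ⟨fun h => Linear.exists_hom_of_isIrrCharacter h.1 ?_, ?_⟩
  · have h1 := H142.McKayCount.charDegree_dvd_index ⊤ (fun a _ c _ => hc a c) ⟨χ, h.1⟩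
    rw [Subgroup.index_top, Nat.dvd_one] at h1
    rw [apply_one (isIrr_isCharacter h.1), show charDegree χ = 1 from h1, Nat.cast_one]
  · rintro ⟨f, rfl⟩
    refine ⟨Linear.isIrrCharacter_hom f, ?_⟩
    rw [charDegree_of (n := 1) (by simp)]
    exact hp.not_dvd_one

theorem pos_small {p : ℕ} (hp : p.Prime) (hn : n ≤ 1) (h : Sc P z) :
    Nat.card {χ : T → ℂ // PI p T χ ∧ χ z = -χ 1 ∧ asc P χ = χ} = 1 := by
  have : Subsingleton (Fin n) := Fin.subsingleton_iff_le_one.2 hn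
  have : Subsingleton (Fin (0 + 1)) := inferInstanceAs (Subsingleton (Fin 1))
  have h1 : ∀ x : T, x = 1 ∨ x = z := fun x => (h.ker x).1 (Subsingleton.elim _ _)
  have hc : ∀ x y : T, x * y = y * x := fun x y => by
    rcases h1 y with rfl | rfl
    · rw [mul_one, one_mul]
    · exact h.z_comm x
  have h' := h.of_subsingleton (β := Fin (0 + 1))
  obtain ⟨t, ht, hr⟩ := h'.exists_gen
  obtain ⟨f, -, hf⟩ := h'.exists_hom ht hr (H := ℂˣ) (Y := fun _ => 1) (ζ := -1) (by simp) (fun x => mul_comm _ _)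
    ⟨fun i hi => absurd hi (by omega), fun i hi => absurd hi (by omega), fun i j _ hi => absurd hi (by omega)⟩
  refine Nat.card_eq_one_iff_exists.2 ⟨⟨fun x => f x, (exists_lin hp hc).2 ⟨f, rfl⟩, by simp [hf],
    funext fun x => asc_pos _ (by rw [Subsingleton.elim (P x) 1, map_one])⟩, fun ψ => Subtype.ext (funext fun x => ?_)⟩
  obtain ⟨g, hg⟩ := (exists_lin hp hc).1 ψ.2.1
  have h2 : ψ.1 1 = 1 := by rw [hg]; simp
  rcases h1 x with rfl | rfl
  · rw [h2]; simp
  · rw [ψ.2.2.1, h2]; simp [hf]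

theorem two_small {p : ℕ} (hp : p.Prime) {P : T →* Perm (Fin (1 + 1))} (h : Sc P z) :
    Nat.card {χ : T → ℂ // PI p T χ ∧ χ z = -χ 1 ∧ asc P χ = χ} = 0 ∧
    Nat.card {χ : T → ℂ // PI p T χ ∧ χ z = -χ 1 ∧ ¬ asc P χ = χ} = 2 := by
  obtain ⟨t, ht, hr⟩ := h.exists_gen
  have hs : Perm.sign (P (t 0)) = -1 := by
    rw [show P (t 0) = _ from ht 0]
    exact Perm.sign_swap (by decide)
  have htt : t 0 * t 0 = z := hr.sq 0 (by omega)
  have hc : ∀ x y : T, x * y = y * x := by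
    have h1 := h.eq_top ht (Subgroup.centralizer {t 0}) (Subgroup.mem_centralizer_singleton_iff.2 (h.z_comm _).symm)
      fun i => by rw [Subsingleton.elim i 0]; exact Subgroup.mem_centralizer_singleton_iff.2 rfl
    have h2 := h.eq_top ht (Subgroup.center T) h.z_mem_center fun i => by
      rw [Subsingleton.elim i 0]
      exact Subgroup.mem_center_iff.2 fun x => Subgroup.mem_centralizer_singleton_iff.1 (h1 ▸ Subgroup.mem_top x)
    exact fun x y => Subgroup.mem_center_iff.1 (h2 ▸ Subgroup.mem_top y) x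
  have hne : ∀ χ, PI p T χ → ¬ asc P χ = χ := fun χ hχ e => by
    obtain ⟨g, rfl⟩ := (exists_lin hp hc).1 hχ
    exact (g (t 0)).ne_zero (asc_eq_iff.1 e _ hs)
  refine ⟨Nat.card_eq_zero.2 (Or.inl ⟨fun χ => hne _ χ.2.1 χ.2.2.2⟩), ?_⟩
  obtain ⟨f, hf1, hf⟩ := h.exists_hom ht hr (H := ℂˣ) (Y := fun _ => Units.mk0 Complex.I Complex.I_ne_zero) (ζ := -1)
    (by simp) (fun x => mul_comm _ _)
    ⟨fun i hi => Units.ext (by simp), fun i hi => absurd hi (by omega), fun i j _ hi => absurd hi (by omega)⟩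
  have hez : eps P z = 1 := by
    change Units.map _ (Perm.sign (P z)) = 1
    rw [h.map_z, map_one, map_one]
  have het : eps P (t 0) = -1 := by
    change Units.map _ (Perm.sign (P (t 0))) = -1
    rw [hs]
    exact Units.ext (by simp only [_root_.RingHom.toMonoidHom_eq_coe, _root_.Units.map_neg, _root_.map_one, _root_.Units.val_neg, _root_.Units.val_one])
  have mk : ∀ g : T →* ℂˣ, g z = -1 → PI p T (fun x => g x) ∧ (g z : ℂ) = -(g 1 : ℂ) ∧
      ¬ asc P (fun x => g x) = fun x => (g x : ℂ) := fun g hg =>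
    ⟨(exists_lin hp hc).2 ⟨g, rfl⟩, by simp [hg], hne _ ((exists_lin hp hc).2 ⟨g, rfl⟩)⟩
  have hf' : (eps P * f) z = -1 := by rw [MonoidHom.mul_apply, hez, hf, one_mul]
  refine Nat.card_eq_two_iff.2 ⟨⟨_, mk f hf⟩, ⟨_, mk (eps P * f) hf'⟩,
    fun e => (mk f hf).2.2 (congrArg Subtype.val e).symm, Set.eq_univ_iff_forall.2 fun ψ => ?_⟩
  obtain ⟨g, hg⟩ := (exists_lin hp hc).1 ψ.2.1
  have h2 : g z = -1 := Units.ext (by
    have h3 := ψ.2.2.1
    rw [hg] at h3
    simpa using h3)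
  have h3 : g (t 0) * g (t 0) = f (t 0) * f (t 0) := by rw [← map_mul, ← map_mul, htt, h2, hf]
  have h4 : (g (t 0) : ℂ) = f (t 0) ∨ (g (t 0) : ℂ) = -(f (t 0) : ℂ) :=
    mul_self_eq_mul_self_iff.1 (by exact_mod_cast congrArg Units.val h3)
  refine h4.imp (fun e => Subtype.ext ?_) fun e => Subtype.ext ?_
  · rw [hg, h.hom_ext ht (f := g) (g := f) (h2.trans hf.symm) fun i => by
      rw [Subsingleton.elim i 0]; exact Units.ext e]
  · rw [hg, h.hom_ext ht (f := g) (g := eps P * f) (h2.trans hf'.symm) fun i => by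
      rw [Subsingleton.elim i 0]
      refine Units.ext (e.trans ?_)
      change _ = ((eps P (t 0) * f (t 0) : ℂˣ) : ℂ)
      rw [het]
      simp]

/-! ### the table -/

theorem asc_congr {T' : Type} [Group T'] {P' : T' →* Perm (Fin n)} (e : T ≃* T') (h : ∀ x, P' (e x) = P x)
    (χ : T' → ℂ) : (asc P (fun x => χ (e x)) = fun x => χ (e x)) ↔ asc P' χ = χ := by
  rw [asc_eq_iff, asc_eq_iff]
  refine ⟨fun h1 y hy => ?_, fun h1 x hx => h1 _ (by rw [h, hx])⟩
  obtain ⟨x, rfl⟩ := e.surjective y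
  exact h1 x (by rw [← h, hy])

theorem card_sc {p : ℕ} (hp : p.Prime) (hp2 : p ≠ 2) (h : Sc P z) :
    Nat.card {χ : T → ℂ // PI p T χ ∧ χ z = -χ 1 ∧ asc P χ = χ} = sp p n ∧
    (2 ≤ n → Nat.card {χ : T → ℂ // PI p T χ ∧ χ z = -χ 1 ∧ ¬ asc P χ = χ} = 2 * sn p n) := by
  obtain rfl | rfl | rfl | hn : n = 0 ∨ n = 1 ∨ n = 2 ∨ 3 ≤ n := by omega
  · exact ⟨by rw [pos_small hp (by omega) h, sp_zero hp], fun e => absurd e (by omega)⟩
  · exact ⟨by rw [pos_small hp (by omega) h, sp_one hp], fun e => absurd e (by omega)⟩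
  · rw [sp_two, sn_two hp]
    exact ⟨(two_small hp h).1, fun _ => (two_small hp h).2⟩
  · obtain ⟨T', _, _, P', z', b, e, hb, h1, h2⟩ := exists_data hn h
    rw [← card_pos hp hp2 (by omega) hb, ← card_neg hp hp2 (by omega) hb]
    exact ⟨MO.T.card_congr e fun χ _ => and_congr (by simp only [h2, map_one]) (asc_congr e h1 χ),
      fun _ => MO.T.card_congr e fun χ _ => and_congr (by simp only [h2, map_one]) (asc_congr e h1 χ).not⟩

/-- **box A4a** -/
theorem spinT : SpinT := by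
  intro p n hp hp2 T _ _ P z h l h1 hz
  have := Fintype.ofFinite T
  have ho : ∀ χ : T → ℂ, Ov ⊤ P.ker l (fun x => χ (Subgroup.topEquiv x)) ↔ χ z = -χ 1 := fun χ =>
    ⟨fun e => (e ⟨z, trivial⟩ h.map_z).trans (by rw [hz, neg_one_mul]; rfl), fun e ⟨x, _⟩ hx => by
      rcases h.mem_ker.1 hx with rfl | rfl
      · exact (show χ 1 = l 1 * χ 1 by rw [h1, one_mul])
      · exact (show χ x = l x * χ 1 by rw [hz, e, neg_one_mul])⟩
  obtain ⟨h2, h3⟩ := card_sc hp hp2 h
  refine ⟨fun hn => ?_, ?_⟩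
  · have := MO.T.finite_pi (p := p) fun χ : T → ℂ => χ z = -χ 1
    rw [kk, MO.T.card_congr Subgroup.topEquiv fun χ _ => ho χ, card_split fun χ => asc P χ.1 = χ.1, ← h2, ← h3 hn]
    congr 1
    · exact Nat.card_congr ((Equiv.subtypeSubtypeEquivSubtypeInter _ fun χ => asc P χ = χ).trans
        (Equiv.subtypeEquivRight fun _ => and_assoc))
    · exact Nat.card_congr ((Equiv.subtypeSubtypeEquivSubtypeInter _ fun χ => ¬ asc P χ = χ).trans
        (Equiv.subtypeEquivRight fun _ => and_assoc))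
  · rw [← h2]
    refine MO.T.card_congr Subgroup.topEquiv fun χ _ => and_congr (ho χ) ?_
    rw [asc_eq_iff]
    exact ⟨fun e x hx => e ⟨x, trivial⟩ hx, fun e x hx => e x hx⟩

end Cfsg.Agent.MO.A.Spin
end

-- part: MO/A/W/Num
section
/-!
# MO, twisted wreath products: Young subgroups and the numbers (helper37)

* `St τ` : the stabiliser of a function, `fib τ` : the sizes of its fibres; `k0_St`, `index_St`;
* `Lab p O n` : the labels; `nA`, `nB` : their contributions; `sum_lab` : the sums.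
-/

set_option autoImplicit false

namespace Cfsg.Agent.MO.A.W

open Cfsg Subgroup Equiv Finset
open Cfsg.Agent.Characters.Core Cfsg.Agent.H672

variable {p : ℕ}

theorem deg_pi {O : Type} [Fintype O] {A : O → Type} [∀ o, Group (A o)] {f : ∀ o, A o → ℂ}
    (h : ∀ o, IsIrrCharacter (A o) (f o)) : charDegree (fun x : ∀ o, A o => ∏ o, f o (x o)) = ∏ o, charDegree (f o) :=
  ODD.Red.charDegree_of (by simp only [Pi.one_apply, Nat.cast_prod, coe_charDegree (h _)])

theorem nd_prod [hp : Fact p.Prime] {O : Type} [Fintype O] {f : O → ℕ} : ¬ p ∣ ∏ o, f o ↔ ∀ o, ¬ p ∣ f o := by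
  simp only [hp.out.prime.dvd_finsetProd_iff, _root_.Finset.mem_univ, _root_.true_and, _root_.not_exists]

theorem k0_pi [Fact p.Prime] {O : Type} [Fintype O] (A : O → Type) [∀ o, Group (A o)] [∀ o, Finite (A o)] :
    T.k0 p (∀ o, A o) = ∏ o, T.k0 p (A o) := by
  classical
  have h : ∀ (n : ℕ) (A : Fin n → Type) [∀ o, Group (A o)] [∀ o, Finite (A o)],
      T.k0 p (∀ o, A o) = ∏ o, T.k0 p (A o) := fun n A _ _ => by
    refine ((Nat.card_eq_of_bijective (fun f : ∀ o, {χ : A o → ℂ // PI p (A o) χ} =>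
      (⟨fun x => ∏ o, (f o).1 (x o), H793.PC.isIrr_pi fun o => (f o).2.1, ?_⟩ : {χ // PI p (∀ o, A o) χ}))
      ⟨fun f g e => ?_, fun χ => ?_⟩).symm).trans Nat.card_pi
    · rw [deg_pi fun o => (f o).2.1]
      exact nd_prod.2 fun o => (f o).2.2
    · exact funext fun o => Subtype.ext (congrFun (H663.GmnStep.pi_unique (fun o => (f o).2.1) (fun o => (g o).2.1)
        (congrFun (congrArg Subtype.val e))) o)
    · obtain ⟨f, h1, h2⟩ := H663.GmnStep.exists_pi_dep n A _ χ.2.1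
      have h3 := χ.2.2
      rw [funext h2, deg_pi h1, nd_prod] at h3
      exact ⟨fun o => ⟨f o, h1 o, h3 o⟩, Subtype.ext (funext h2).symm⟩
  let e := (Fintype.equivFin O).symm
  rw [T.k0_congr ({ (Equiv.piCongrLeft A e).symm with map_mul' := fun _ _ => rfl } : (∀ o, A o) ≃* ∀ j, A (e j)), h,
    e.prod_comp fun o => T.k0 p (A o)]

section st

variable {ι O : Type}

/-- the stabiliser of a function -/
def St (τ : ι → O) : Subgroup (Perm ι) where
  carrier := {σ | ∀ i, τ (σ i) = τ i}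
  one_mem' _ := rfl
  mul_mem' ha hb i := (ha _).trans (hb i)
  inv_mem' := fun {σ} h i => by rw [← h]; simp

/-- the sizes of the fibres -/
noncomputable def fib (τ : ι → O) (o : O) : ℕ := Nat.card {i // τ i = o}

theorem equiv_St (τ : ι → O) : Nonempty (St τ ≃* ∀ o, Perm {i // τ i = o}) :=
  ⟨{ toFun := fun σ o => σ.1.subtypePerm fun i => by rw [σ.2]
     invFun := fun g => ⟨DomMulAct.stabilizerEquiv_invFun_aux g, DomMulAct.comp_stabilizerEquiv_invFun g⟩
     left_inv := fun _ => rfl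
     right_inv := fun g => by ext o i; apply DomMulAct.stabilizerEquiv_invFun_eq
     map_mul' := fun _ _ => rfl }⟩

theorem fib_eq_iff [Finite ι] {τ τ' : ι → O} : fib τ' = fib τ ↔ ∃ σ : Perm ι, ∀ i, τ (σ i) = τ' i :=
  ⟨fun h => ⟨Equiv.ofFiberEquiv fun o => (Finite.card_eq.1 (congrFun h o)).some, Equiv.ofFiberEquiv_map _⟩,
    fun ⟨σ, h⟩ => funext fun o => Nat.card_congr (σ.subtypeEquiv fun i => by rw [h])⟩

variable [Fintype ι] [Fintype O]

theorem sum_fib (τ : ι → O) : ∑ o, fib τ o = Fintype.card ι := by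
  rw [← Nat.card_eq_fintype_card, ← Nat.card_congr (Equiv.sigmaFiberEquiv τ), Nat.card_sigma]
  rfl

theorem exists_fib {m : O → ℕ} (h : ∑ o, m o = Fintype.card ι) : ∃ τ : ι → O, fib τ = m := by
  obtain ⟨u⟩ : Nonempty (ι ≃ Σ o, Fin (m o)) := Fintype.card_eq.1 (by rw [← h, Fintype.card_sigma]; simp only [_root_.Fintype.card_fin])
  refine ⟨fun i => (u i).1, funext fun o => ?_⟩
  rw [fib, Nat.card_congr ((u.subtypeEquiv (q := fun z => z.1 = o) fun _ => Iff.rfl).trans (Equiv.sigmaSubtype o)),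
    Nat.card_fin]

theorem k0_St [Fact p.Prime] (τ : ι → O) : T.k0 p (St τ) = ∏ o, K p (fib τ o) := by
  obtain ⟨e⟩ := equiv_St τ
  rw [T.k0_congr e, k0_pi]
  exact Finset.prod_congr rfl fun o _ => T.k0_congr (permCongrHom (Finite.equivFin _))

theorem index_St (τ : ι → O) : (St τ).index = Nat.multinomial univ (fib τ) := by
  classical
  obtain ⟨e⟩ := equiv_St τ
  have h := (St τ).index_mul_card
  rw [Nat.card_congr e.toEquiv, Nat.card_pi, Nat.card_perm, Nat.card_eq_fintype_card, ← sum_fib τ, ← Nat.multinomial_spec,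
    mul_comm] at h
  simp only [Nat.card_perm] at h
  exact Nat.eq_of_mul_eq_mul_left (Finset.prod_pos fun o _ => Nat.factorial_pos _) h

end st

section num

/-- the labels -/
def Lab (p : ℕ) (O : Type) [Fintype O] [DecidableEq O] (n : ℕ) : Finset (O → ℕ) :=
  (piAntidiag univ n).filter fun m => ¬ p ∣ Nat.multinomial univ m

theorem mem_Lab {O : Type} [Fintype O] [DecidableEq O] {n : ℕ} {m : O → ℕ} :
    m ∈ Lab p O n ↔ ∑ o, m o = n ∧ ¬ p ∣ Nat.multinomial univ m := by simp only [Lab, _root_.Finset.mem_filter, _root_.Finset.mem_piAntidiag, _root_.ne_eq, _root_.Finset.mem_univ, _root_.implies_true, _root_.and_true]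

/-- the contribution of a label -/
noncomputable def nA (p : ℕ) (f g : ℕ → ℕ) {c : ℕ} (m : Option (Fin c) → ℕ) : ℕ :=
  (∏ j, K p (m (some j))) * if Even (∑ j, m (some j)) then f (m none) else g (m none)

theorem coeff_cp (f : ℕ → ℕ) : ∀ c n, PowerSeries.coeff n (PowerSeries.mk f ^ c) = cp f c n
  | 0, n => by rw [pow_zero, PowerSeries.coeff_one, cp]
  | c + 1, n => by
    rw [pow_succ', PowerSeries.coeff_mul, cp]
    exact Finset.sum_congr rfl fun x _ => by rw [PowerSeries.coeff_mk, coeff_cp]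

theorem sum_pi {O : Type} [Fintype O] [DecidableEq O] (F : O → ℕ → ℕ) (n : ℕ) :
    ∑ m ∈ piAntidiag univ n, ∏ o, F o (m o) = PowerSeries.coeff n (∏ o, PowerSeries.mk (F o)) := by
  rw [PowerSeries.coeff_prod]
  exact (Finset.sum_equiv Finsupp.equivFunOnFinite (by simp only [_root_.Finset.mem_finsuppAntidiag, _root_.Finset.subset_univ, _root_.and_true, _root_.Finset.mem_piAntidiag, _root_.Finsupp.equivFunOnFinite_apply, _root_.ne_eq, _root_.Finset.mem_univ, _root_.implies_true]) (by simp only [_root_.Finset.mem_finsuppAntidiag, _root_.Finset.subset_univ, _root_.and_true, _root_.PowerSeries.coeff_mk, _root_.Finsupp.equivFunOnFinite_apply, _root_.implies_true])).symm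

variable [hp : Fact p.Prime]

theorem K_small {n : ℕ} (h : n ≤ 1) : K p n = 1 := by
  have : Subsingleton (Fin n) := Fin.subsingleton_iff_le_one.2 h
  rw [K, T.k0_pgroup fun g => ⟨0, Subsingleton.elim _ _⟩, index_eq_one]
  exact Subsingleton.elim _ _

theorem cp_small : ∀ c, cp (K p) c 0 = 1 ∧ cp (K p) c 1 = c
  | 0 => ⟨rfl, rfl⟩
  | c + 1 => by
    simp [cp, Finset.Nat.antidiagonal_succ, (cp_small c).1, (cp_small c).2, K_small (p := p) zero_le_one,
      K_small (p := p) le_rfl]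

theorem sum_lt (f g : ℕ → ℕ) (c : ℕ) {n : ℕ} (h : n < p) : ∑ m ∈ Lab p (Option (Fin c)) n, nA p f g m =
    ∑ x ∈ _root_.Finset.HasAntidiagonal.antidiagonal n, cp (K p) c x.1 * if Even x.1 then f x.2 else g x.2 := by
  have h1 : Lab p (Option (Fin c)) n = piAntidiag univ n :=
    filter_true_of_mem fun m hm h1 => h.not_ge (hp.out.dvd_factorial.1 (by
      rw [← (mem_piAntidiag.1 hm).1]
      exact Nat.multinomial_spec univ m ▸ h1.mul_left _))
  rw [h1, Finset.sum_congr rfl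
    (g := fun m => ∏ o, (Option.elim o (fun y => if Even (n - y) then f y else g y) fun _ => K p) (m o)) fun m hm => ?_,
    sum_pi, Fintype.prod_option, mul_comm]
  · simp only [Option.elim, prod_const, card_univ, Fintype.card_fin, PowerSeries.coeff_mul, coeff_cp, PowerSeries.coeff_mk]
    exact Finset.sum_congr rfl fun x hx => by rw [← mem_antidiagonal.1 hx, Nat.add_sub_cancel]
  · rw [Fintype.prod_option, nA, mul_comm, ← (mem_piAntidiag.1 hm).1, Fintype.sum_option]
    simp only [Option.elim, Nat.add_sub_cancel_left]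

theorem sum_eq (h2 : p ≠ 2) (f g : ℕ → ℕ) (c : ℕ) :
    ∑ m ∈ Lab p (Option (Fin c)) p, nA p f g m = f p + c * (K p p * g 0) := by
  have h : Lab p (Option (Fin c)) p = univ.image fun o => Pi.single o p := by
    ext m
    rw [mem_Lab, Finset.mem_image]
    refine ⟨fun ⟨h, h2⟩ => ?_, ?_⟩
    · have h1 := Nat.multinomial_spec univ m
      rw [h] at h1
      obtain ⟨o, -, h3⟩ := (hp.out.prime.dvd_finsetProd_iff _).1
        ((hp.out.dvd_mul.1 (h1 ▸ hp.out.dvd_factorial.2 le_rfl)).resolve_right h2)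
      have h4 := hp.out.dvd_factorial.1 h3
      rw [← Finset.add_sum_erase _ _ (mem_univ o)] at h
      refine ⟨o, mem_univ _, funext fun o' => ?_⟩
      by_cases e : o' = o
      · rw [e]
        exact (Pi.single_eq_same _ _).trans (by omega)
      · exact (Pi.single_eq_of_ne e _).trans (Finset.sum_eq_zero_iff.1 (by omega : ∑ x ∈ univ.erase o, m x = 0) o'
          (mem_erase.2 ⟨e, mem_univ _⟩)).symm
    · rintro ⟨o, -, rfl⟩
      exact ⟨by simp only [_root_.Finset.sum_pi_single', _root_.Finset.mem_univ, ↓ _root_.reduceIte], by rw [Nat.multinomial_single]; exact nd_one⟩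
  rw [h, sum_image fun o _ o' _ e => by_contra fun h => hp.out.ne_zero (by simpa [h] using congrFun e o),
    Fintype.sum_option, Finset.sum_congr rfl (g := fun _ => K p p * g 0) fun j _ => ?_]
  · simp only [nA, K_small (p := p) zero_le_one, _root_.ne_eq, _root_.reduceCtorEq, _root_.not_false_eq_true, _root_.Pi.single_eq_of_ne, _root_.Finset.prod_const_one, _root_.Finset.sum_const_zero, _root_.Even.zero, ↓ _root_.reduceIte, _root_.Pi.single_eq_same, _root_.one_mul, _root_.Finset.sum_const, _root_.Finset.card_univ, _root_.Fintype.card_fin, _root_.smul_eq_mul, _root_.Nat.add_left_cancel_iff]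
  · rw [nA, Finset.prod_eq_single j (fun i _ e => by
      rw [Pi.single_eq_of_ne (by simpa using e), K_small zero_le_one]) (by simp only [_root_.Finset.mem_univ, _root_.not_true_eq_false, _root_.Pi.single_eq_same, _root_.IsEmpty.forall_iff]), Finset.sum_eq_single j (fun i _ e =>
      Pi.single_eq_of_ne (by simpa using e) _) (by simp only [_root_.Finset.mem_univ, _root_.not_true_eq_false, _root_.Pi.single_eq_same, _root_.IsEmpty.forall_iff]), Pi.single_eq_same,
      if_neg (Nat.not_even_iff_odd.2 (hp.out.odd_of_ne_two h2)), Pi.single_eq_of_ne (by simp)]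

theorem glob_pow (hT : GlobT) (h2 : p ≠ 2) (k : ℕ) : sp p (p ^ k) = 1 ∧ sn p (p ^ k) = p ^ k / 2 := by
  have h := hT p k 1 0 hp.out h2 hp.out.one_lt (pow_pos hp.out.pos k)
  simpa only [up, un, Finset.Nat.antidiagonal_succ, (cp_small _).1, (cp_small _).2, sp_zero hp.out, Spin.sp_one hp.out,
    sn_small (p := p) zero_le_one, sn_small (p := p) le_rfl, _root_.one_mul, _root_.add_zero, _root_.zero_add, _root_.Finset.HasAntidiagonal.antidiagonal_zero, _root_.Finset.map_singleton, _root_.Function.Embedding.coe_prodMap, _root_.Function.Embedding.coeFn_mk, _root_.Prod.map_apply, _root_.Nat.succ_eq_add_one, _root_.Function.Embedding.refl_apply, _root_.Finset.cons_eq_insert, _root_.mul_ite, _root_.Finset.mem_singleton, _root_.Prod.mk.injEq, _root_.zero_ne_one, _root_.one_ne_zero, _root_.and_self, _root_.not_false_eq_true, _root_.Finset.sum_insert, _root_.Even.zero, ↓ _root_.reduceIte, _root_.mul_one, _root_.Finset.sum_singleton, _root_.Nat.not_even_one,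 _root_.MulZeroClass.mul_zero] using h

/-- **the sums over the labels** -/
theorem sum_lab (hT : GlobT) (hS : GlobS) (h2 : p ≠ 2) (k : ℕ) {n : ℕ} (h : n ≤ p) :
    ∑ m ∈ Lab p (Option (Fin (p ^ k / 2))) n, nA p (sp p) (sn p) m = sp p (n * p ^ k) ∧
      ∑ m ∈ Lab p (Option (Fin (p ^ k / 2))) n, nA p (sn p) (sp p) m = sn p (n * p ^ k) := by
  rcases h.lt_or_eq with h | rfl
  · have h1 := hT p k n 0 hp.out h2 h (pow_pos hp.out.pos k)
    rw [sp_zero hp.out, sn_small zero_le_one] at h1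
    rw [sum_lt _ _ _ h, sum_lt _ _ _ h]
    simpa only [up, un, eq_comm, _root_.mul_ite, _root_.add_zero, _root_.mul_one, _root_.MulZeroClass.mul_zero, _root_.zero_add] using h1
  · have h1 := glob_pow hT h2 1
    have h3 := (hS n 1 1 0 hp.out h2 hp.out.one_lt (pow_pos hp.out.pos 1)).1
    rw [(cp_small _).2, K_small zero_le_one, pow_one, one_mul, add_zero, mul_one] at h3
    rw [pow_one] at h1
    rw [sum_eq h2, sum_eq h2, ← pow_succ', (glob_pow hT h2 _).1, (glob_pow hT h2 _).2, h1.1, h1.2, h3, sp_zero hp.out,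
      sn_small zero_le_one, pow_succ]
    obtain ⟨b, hb⟩ := (hp.out.odd_of_ne_two h2).pow (n := k)
    refine ⟨rfl, ?_⟩
    rw [hb, show (2 * b + 1) / 2 = b by omega, mul_one, add_mul, mul_assoc, Nat.mul_add_div two_pos, one_mul, add_comm]

end num

end Cfsg.Agent.MO.A.W
end

-- part: MO/A/W/St
section
/-!
# MO, twisted wreath products: the Clifford step (helper37)

* `Wt s z π a ς υ` : a twisted wreath product of `H` with `Perm ι`; the subgroups `Wt.Sb`, `Wt.Sp`;
* `Em w y₀ e b` : the even parts `e i : Y → G` of the blocks; `Dt` : representatives of the characters of `Y`;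
* `Em.step` : the count for `G` is the sum of the counts for the groups `Wt.Sb τ S`.
-/

set_option autoImplicit false
set_option linter.unusedSectionVars false

namespace Cfsg.Agent.MO.A.W

open Cfsg Subgroup Equiv
open Cfsg.Agent.Characters.Core Cfsg.Agent.H672
open Cfsg.Agent.MK.C (Nr index_comap_eq)

/-- tensor induction, fibre by fibre -/
theorem tensor {F ι O : Type} [Group F] [Fintype ι] [Fintype O] (π : F →* Perm ι) (τ : ι → O)
    (hr : ∀ f i, τ (π f i) = τ i) (A : O → Type) [∀ o, Group (A o)] (ψ : ∀ o, A o → ℂ)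
    (hψ : ∀ o, IsCharacter (A o) (ψ o)) (w : ∀ o, F → {i // τ i = o} → A o)
    (hw : ∀ o f g i, w o (f * g) i = w o f ⟨π g i, (hr g i).trans i.2⟩ * w o g i) :
    ∃ Ψ, IsCharacter F Ψ ∧ ∀ f, π f = 1 → Ψ f = ∏ i, ψ (τ i) (w (τ i) f ⟨i, rfl⟩) := by
  classical
  have h : ∀ o, ∃ Ψ, IsCharacter F Ψ ∧
      ∀ f, π f = 1 → Ψ f = ∏ i : {i // τ i = o}, ψ (τ i) (w (τ i) f ⟨i, rfl⟩) := fun o => by
    let π' : F →* Perm {i // τ i = o} :=
      MonoidHom.mk' (fun f => (π f).subtypePerm fun i => by rw [hr]) fun f g => by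
        ext i
        exact congrArg (fun σ : Perm ι => σ i) (map_mul π f g)
    obtain ⟨V, _, _, _, ρ, hρ⟩ := H669.TensExt.exists_tensor π' (w o) (hw o) (hψ o)
    refine ⟨_, isCharacter_of_rep ρ, fun f hf => ?_⟩
    rw [hρ f (by ext i; simp only [π', hf, _root_.MonoidHom.mk'_apply, _root_.Equiv.Perm.subtypePerm_apply, _root_.Equiv.Perm.coe_one, _root_.id_eq, _root_.Subtype.coe_eta])]
    refine Finset.prod_congr rfl fun i _ => ?_
    obtain ⟨i, rfl⟩ := i
    rfl
  choose Ψ h1 h2 using h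
  refine ⟨∏ o, Ψ o, Finset.prod_induction _ _ (fun _ _ => isCharacter_mul) isCharacter_one fun o _ => h1 o,
    fun f hf => ?_⟩
  rw [Finset.prod_apply, ← Fintype.prod_fiberwise τ fun i => ψ (τ i) (w (τ i) f ⟨i, rfl⟩)]
  exact Finset.prod_congr rfl fun o _ => h2 o f hf

/-- the inertia group -/
def In {G D : Type} [Group G] [Group D] (φ : G →* MulAut D) (Θ : D → ℂ) : Subgroup G where
  carrier := {g | ∀ d, Θ (φ g d) = Θ d}
  one_mem' d := by rw [map_one, MulAut.one_apply]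
  mul_mem' hg hh d := by rw [map_mul, MulAut.mul_apply, hg, hh]
  inv_mem' := fun {g} hg d => by rw [← hg, ← MulAut.mul_apply, ← map_mul, mul_inv_cancel, map_one, MulAut.one_apply]

theorem one_or_of_mem {H : Type} [Group H] {υ h : H} (hυ : υ * υ = 1) (hh : h ∈ zpowers υ) : h = 1 ∨ h = υ := by
  obtain ⟨n, rfl⟩ := hh
  rcases Int.even_or_odd' n with ⟨k, rfl | rfl⟩
  · exact Or.inl (by simp only [zpow_mul, zpow_two, hυ, one_zpow])
  · exact Or.inr (by simp only [zpow_add, zpow_mul, zpow_two, hυ, one_zpow, one_mul, zpow_one])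

/-- a twisted wreath product -/
structure Wt {G H ι : Type} [Group G] [Group H] [Fintype ι] [DecidableEq ι] (s : G →* ℤˣ) (z : G) (π : G →* Perm ι)
    (a : G → ι → H) (ς : H →* ℤˣ) (υ : H) : Prop where
  a_mul : ∀ g h i, a (g * h) i = a g (π h i) * a h i
  onto : ∀ σ f, ∃ g, π g = σ ∧ a g = f
  z_ne : z ≠ 1
  z_comm : ∀ x, x * z = z * x
  ker : ∀ g, π g = 1 ∧ a g = 1 ↔ g = 1 ∨ g = z
  sgn : ∀ g, s g = Perm.sign (π g) * ∏ i, ς (a g i)
  comm : ∀ g h, (∀ i, π g i = i ∧ a g i = 1 ∨ π h i = i ∧ a h i = 1) → g * h = ez z (s g) (s h) * (h * g)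
  sυ : ς υ = -1
  υυ : υ * υ = 1
  sq : ∀ u i, π u = 1 → a u = Pi.mulSingle i υ → u * u = z

variable {G H Y ι O : Type} [Group G] [Group H] [Group Y] [Fintype ι] [DecidableEq ι] {s : G →* ℤˣ} {z : G}
  {π : G →* Perm ι} {a : G → ι → H} {ς : H →* ℤˣ} {υ : H}

namespace Wt

variable (w : Wt s z π a ς υ)

include w

theorem a_one : a 1 = 1 := ((w.ker 1).2 (Or.inl rfl)).2

theorem πz : π z = 1 := ((w.ker z).2 (Or.inr rfl)).1

theorem az : a z = 1 := ((w.ker z).2 (Or.inr rfl)).2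

theorem a_inv (g : G) (i : ι) : a g⁻¹ (π g i) = (a g i)⁻¹ :=
  eq_inv_of_mul_eq_one_left (by rw [← w.a_mul, inv_mul_cancel, w.a_one, Pi.one_apply])

theorem zz : z * z = 1 :=
  ((w.ker _).1 ⟨by rw [map_mul, w.πz, mul_one], funext fun i => by rw [w.a_mul, w.az]; simp⟩).resolve_right
    fun e => w.z_ne (mul_eq_left.1 e)

theorem sz : s z = 1 := by simp only [w.sgn, w.πz, w.az, _root_.Equiv.Perm.sign_one, _root_.Pi.one_apply, _root_.map_one, _root_.Finset.prod_const_one, _root_.mul_one]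

theorem eq_one {h : H} (hh : h ∈ zpowers υ) (e : ς h = 1) : h = 1 :=
  (one_or_of_mem w.υυ hh).resolve_right fun e' => absurd (w.sυ.symm.trans (e' ▸ e)) (by decide)

theorem a_conj {t : G} (ht : a t = 1) (g : G) (i : ι) : a (t * g * t⁻¹) (π t i) = a g i := by
  have h := w.a_mul (t * g * t⁻¹) t i
  rw [inv_mul_cancel_right, w.a_mul, ht] at h
  simpa only [_root_.Pi.one_apply, _root_.mul_one, _root_.one_mul] using h.symm

/-- the elements which preserve `τ` and have their components in `S` -/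
def Sb (τ : ι → O) (S : O → Subgroup H) : Subgroup G where
  carrier := {g | ∀ i, τ (π g i) = τ i ∧ a g i ∈ S (τ i)}
  one_mem' i := by rw [map_one, w.a_one]; exact ⟨rfl, one_mem _⟩
  mul_mem' := fun {g h} hg hh i => by
    rw [map_mul, w.a_mul]
    exact ⟨(hg _).1.trans (hh i).1, mul_mem ((hh i).1 ▸ (hg _).2) (hh i).2⟩
  inv_mem' := fun {g} hg => (π g).surjective.forall.2 fun i => by
    rw [map_inv, w.a_inv, Perm.inv_def, Equiv.symm_apply_apply, (hg i).1]
    exact ⟨rfl, inv_mem (hg i).2⟩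

/-- the elements which are trivial outside of `q` and have their components in `S` -/
def Sp (q : ι → Prop) (S : Subgroup H) : Subgroup G where
  carrier := {g | (∀ i, ¬ q i → π g i = i ∧ a g i = 1) ∧ ∀ i, a g i ∈ S}
  one_mem' := by
    refine ⟨fun i _ => ?_, fun i => ?_⟩ <;> rw [w.a_one]
    exacts [⟨by rw [map_one]; rfl, rfl⟩, one_mem _]
  mul_mem' := fun {g h} hg hh => ⟨fun i hi => by
      rw [map_mul, w.a_mul, Perm.mul_apply, (hh.1 i hi).1, (hh.1 i hi).2, mul_one]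
      exact hg.1 i hi, fun i => w.a_mul g h i ▸ mul_mem (hg.2 _) (hh.2 i)⟩
  inv_mem' := fun {g} hg => ⟨fun i hi => ⟨by rw [map_inv, Perm.inv_eq_iff_eq, (hg.1 i hi).1], by
      rw [← (hg.1 i hi).1, w.a_inv, (hg.1 i hi).2, inv_one]⟩,
    (π g).surjective.forall.2 fun i => w.a_inv g i ▸ inv_mem (hg.2 i)⟩

theorem z_Sb (τ : ι → O) (S : O → Subgroup H) : z ∈ w.Sb τ S := fun i => by
  rw [w.πz, w.az]
  exact ⟨rfl, one_mem _⟩

theorem z_Sp (q : ι → Prop) (S : Subgroup H) : z ∈ w.Sp q S :=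
  ⟨fun i _ => by rw [w.πz, w.az]; exact ⟨rfl, rfl⟩, fun i => by rw [w.az]; exact one_mem _⟩

theorem π_one {i : ι} {S : Subgroup H} {g : G} (h : g ∈ w.Sp (· = i) S) : π g = 1 := Equiv.ext fun j => by
  by_cases e : π g j = i
  · by_contra e'
    exact e' (h.1 j fun k => e' (e.trans k.symm)).1
  · exact (π g).injective (h.1 _ e).1

theorem s_one {i : ι} {S : Subgroup H} {g : G} (h : g ∈ w.Sp (· = i) S) : s g = ς (a g i) := by
  rw [w.sgn, w.π_one h, map_one, one_mul, Finset.prod_eq_single i (fun j _ e => by rw [(h.1 j e).2, map_one]) (by simp only [_root_.Finset.mem_univ, _root_.not_true_eq_false, _root_.IsEmpty.forall_iff])]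

/-- the action on the product -/
def act (b : H →* MulAut Y) : G →* MulAut (ι → Y) :=
  MonoidHom.mk' (fun g =>
    { toFun := fun d k => b (a g ((π g).symm k)) (d ((π g).symm k))
      invFun := fun d i => (b (a g i))⁻¹ (d (π g i))
      left_inv := fun d => by simp
      right_inv := fun d => by simp
      map_mul' := fun d e => funext fun k => map_mul _ _ _ }) fun g h => by
    refine MulEquiv.ext fun d => funext fun k => ?_
    change b (a (g * h) ((π (g * h)).symm k)) (d ((π (g * h)).symm k)) =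
      b (a g ((π g).symm k)) (b (a h ((π h).symm ((π g).symm k))) (d ((π h).symm ((π g).symm k))))
    rw [w.a_mul, map_mul, map_mul, MulAut.mul_apply]
    change b (a g (π h ((π h).symm _))) _ = _
    rw [Equiv.apply_symm_apply]
    rfl

theorem act_apply (b : H →* MulAut Y) (g : G) (d : ι → Y) (i : ι) : w.act b g d (π g i) = b (a g i) (d i) := by
  change b (a g ((π g).symm (π g i))) (d ((π g).symm (π g i))) = _
  rw [Equiv.symm_apply_apply]

theorem th_iff [Finite Y] (b : H →* MulAut Y) {ϑ ϑ' : ι → Y → ℂ} (h : ∀ i, IsIrrCharacter Y (ϑ i))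
    (h' : ∀ i, IsIrrCharacter Y (ϑ' i)) (g : G) :
    (∀ d : ι → Y, ∏ i, ϑ' i (d i) = ∏ i, ϑ i (w.act b g d i)) ↔ ∀ i y, ϑ' i y = ϑ (π g i) (b (a g i) y) := by
  have k : ∀ d : ι → Y, ∏ i, ϑ i (w.act b g d i) = ∏ i, ϑ (π g i) (b (a g i) (d i)) := fun d => by
    simp only [← Equiv.prod_comp (π g) fun i => ϑ i (w.act b g d i), w.act_apply]
  simp only [k]
  exact ⟨fun e i => congrFun (congrFun (H663.GmnStep.pi_unique (A := fun _ => Y) h'
    (g := fun i y => ϑ (π g i) (b (a g i) y))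
    (fun i => isIrr_comp (b (a g i)).toMonoidHom (b (a g i)).surjective (h _)) e) i), fun e d => by simp only [e]⟩

end Wt

/-- the even parts of the blocks -/
structure Em (w : Wt s z π a ς υ) (y₀ : Y) (e : ι → Y →* G) (b : H →* MulAut Y) : Prop where
  inj : ∀ i, Function.Injective (e i)
  conj : ∀ g i y, g * e i y * g⁻¹ = e (π g i) (b (a g i) y)
  mem : ∀ i y, e i y ∈ w.Sp (· = i) ς.ker
  sur : ∀ i h, ς h = 1 → ∃ y, a (e i y) i = h
  ez : ∀ i, e i y₀ = z

/-- representatives of the spin characters -/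
structure Dt (p : ℕ) (y₀ : Y) (b : H →* MulAut Y) (ς : H →* ℤˣ) (υ : H) (θ : O → Y → ℂ) (S : O → Subgroup H) : Prop where
  pi : ∀ o, PI p Y (θ o)
  spin : ∀ o, θ o y₀ = -θ o 1
  rep : ∀ φ, PI p Y φ → φ y₀ = -φ 1 → ∃ o h, ∀ y, φ y = θ o (b h y)
  sep : ∀ o o' h, (∀ y, θ o' y = θ o (b h y)) → o' = o ∧ ∃ x ∈ S o, ς x = ς h
  fix : ∀ o, ∀ h ∈ S o, ∀ y, θ o (b h y) = θ o y
  le : ∀ o, S o ≤ zpowers υ

namespace Em

variable {w : Wt s z π a ς υ} {y₀ : Y} {e : ι → Y →* G} {b : H →* MulAut Y} (E : Em w y₀ e b)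

include E

theorem se (i : ι) (y : Y) : s (e i y) = 1 := (w.s_one (E.mem i y)).trans ((E.mem i y).2 i)

theorem comm : Pairwise fun i j => ∀ x y, Commute (e i x) (e j y) := fun i j h x y =>
  (w.comm _ _ fun k => by
    by_cases e : k = i
    · exact Or.inr ((E.mem j y).1 k fun e' => h (e.symm.trans e'))
    · exact Or.inl ((E.mem i x).1 k e)).trans (by rw [E.se, ez_one, one_mul])

/-- the product map -/
noncomputable def f : (ι → Y) →* G := MonoidHom.noncommPiCoprod e E.comm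

theorem f_single (i : ι) (y : Y) : E.f (Pi.mulSingle i y) = e i y := MonoidHom.noncommPiCoprod_mulSingle _ _ _

theorem πf (d : ι → Y) : π (E.f d) = 1 :=
  DFunLike.congr_fun (MonoidHom.pi_ext (f := π.comp E.f) (g := 1) fun i y => by
    rw [MonoidHom.comp_apply, E.f_single, w.π_one (E.mem i y), MonoidHom.one_apply]) d

theorem sf (d : ι → Y) : s (E.f d) = 1 :=
  DFunLike.congr_fun (MonoidHom.pi_ext (f := s.comp E.f) (g := 1) fun i y => by
    rw [MonoidHom.comp_apply, E.f_single, E.se, MonoidHom.one_apply]) d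

theorem af (d : ι → Y) (i : ι) : a (E.f d) i = a (e i (d i)) i :=
  DFunLike.congr_fun (MonoidHom.pi_ext
    (f := MonoidHom.mk' (fun d => a (E.f d) i) fun d d' => by rw [map_mul, w.a_mul, E.πf, Perm.one_apply])
    (g := MonoidHom.mk' (fun d : ι → Y => a (e i (d i)) i) fun d d' => by
      rw [Pi.mul_apply, map_mul, w.a_mul, w.π_one (E.mem i _), Perm.one_apply]) fun j y => by
    change a (E.f _) i = a (e i _) i
    rw [E.f_single]
    by_cases h : i = j
    · rw [h, Pi.mulSingle_eq_same]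
    · rw [Pi.mulSingle_eq_of_ne h, map_one, w.a_one, ((E.mem j y).1 i h).2, Pi.one_apply]) d

theorem nr : Nr E.f fun g d => w.act b g d := fun g d =>
  DFunLike.congr_fun (MonoidHom.pi_ext (f := E.f.comp (w.act b g).toMonoidHom)
    (g := (MulAut.conj g).toMonoidHom.comp E.f) fun i y => by
    change E.f (w.act b g _) = g * E.f _ * g⁻¹
    rw [E.f_single, E.conj, ← E.f_single]
    refine congrArg _ (funext ((π g).surjective.forall.2 fun j => ?_))
    rw [w.act_apply]
    by_cases h : j = i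
    · rw [h, Pi.mulSingle_eq_same, Pi.mulSingle_eq_same]
    · rw [Pi.mulSingle_eq_of_ne h, Pi.mulSingle_eq_of_ne ((π g).injective.ne h), map_one]) d

theorem b_even (i : ι) {θ : Y → ℂ} (hθ : IsIrrCharacter Y θ) {h : H} (hh : ς h = 1) (y : Y) : θ (b h y) = θ y := by
  obtain ⟨x, rfl⟩ := E.sur i h hh
  have h1 := E.conj (e i x) i y
  rw [w.π_one (E.mem i x), Perm.one_apply, ← map_inv, ← map_mul, ← map_mul] at h1
  rw [← E.inj i h1, isIrr_isClassFunction hθ]

theorem cen (i : ι) : (Pi.mulSingle i y₀ : ι → Y) ∈ center _ := mem_center_iff.2 fun d => funext fun j => by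
  by_cases h : j = i
  · refine E.inj j ?_
    rw [h, Pi.mul_apply, Pi.mul_apply, Pi.mulSingle_eq_same, map_mul, map_mul, E.ez, w.z_comm]
  · simp [Pi.mulSingle_eq_of_ne h]

variable [Finite G] [Finite H] [Finite Y]

omit E [Finite G] [Finite H] in
theorem th_spin {ϑ : ι → Y → ℂ} (h : ∀ i, IsIrrCharacter Y (ϑ i)) (i : ι) :
    ∏ j, ϑ j ((Pi.mulSingle i y₀ : ι → Y) j) = -∏ j, ϑ j ((1 : ι → Y) j) ↔ ϑ i y₀ = -ϑ i 1 := by
  rw [← Finset.mul_prod_erase _ _ (Finset.mem_univ i), ← Finset.mul_prod_erase _ _ (Finset.mem_univ i),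
    Pi.mulSingle_eq_same, Finset.prod_congr rfl fun j hj => by rw [Pi.mulSingle_eq_of_ne (Finset.ne_of_mem_erase hj)],
    ← neg_mul]
  exact mul_left_inj' (Finset.prod_ne_zero_iff.2 fun j _ => isIrr_apply_one_ne_zero (h j))

theorem spin {χ : G → ℂ} (hχ : IsIrrCharacter G χ) {ϑ : ι → Y → ℂ} (h : ∀ i, IsIrrCharacter Y (ϑ i))
    (ho : Over E.f χ fun d => ∏ i, ϑ i (d i)) (i : ι) : χ z = -χ 1 ↔ ϑ i y₀ = -ϑ i 1 := by
  rw [← th_spin h, ← spin_iff hχ (H671.Link.isIrr_pi h) ho (E.cen i) (by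
    rw [E.f_single, E.ez]
    exact mem_center_iff.2 w.z_comm), E.f_single, E.ez]

theorem ker_f {ϑ : ι → Y → ℂ} (h : ∀ i, IsIrrCharacter Y (ϑ i)) (hs : ∀ i, ϑ i y₀ = -ϑ i 1) {d : ι → Y}
    (hd : a (E.f d) = 1) : E.f d = 1 ∧ ∏ i, ϑ i (d i) = ∏ i, ϑ i 1 ∨ E.f d = z ∧ ∏ i, ϑ i (d i) = -∏ i, ϑ i 1 := by
  classical
  have k : ∀ (A : Finset ι) (d : ι → Y), (∀ i, d i = if i ∈ A then y₀ else 1) →
      E.f d = 1 ∧ ∏ i, ϑ i (d i) = ∏ i, ϑ i 1 ∨ E.f d = z ∧ ∏ i, ϑ i (d i) = -∏ i, ϑ i 1 := fun A => by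
    induction A using Finset.induction_on with
    | empty => exact fun d hd => Or.inl ⟨by rw [show d = 1 from funext hd, map_one], by simp only [hd, _root_.Finset.notMem_empty, ↓ _root_.reduceIte]⟩
    | insert i A hi ih =>
      intro d hd
      obtain rfl : d = Pi.mulSingle i y₀ * fun j => if j ∈ A then y₀ else 1 := funext fun j => by
        by_cases e : j = i <;> simp [hd, e, hi]
      rw [map_mul, E.f_single, E.ez, spin_mul (H671.Link.isIrr_pi h) (E.cen i) ((th_spin h i).2 (hs i))]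
      rcases ih _ fun _ => rfl with h1 | h1 <;> rw [h1.1, h1.2]
      exacts [Or.inr ⟨mul_one _, rfl⟩, Or.inl ⟨w.zz, neg_neg _⟩]
  refine k (Finset.univ.filter fun i => d i ≠ 1) d fun i => ?_
  have h1 := (w.ker (e i (d i))).1 ⟨w.π_one (E.mem i _), funext fun j => by
    by_cases e : j = i
    · rw [e, ← E.af, hd]
    · exact ((E.mem i _).1 j e).2⟩
  rw [← E.ez i, (E.inj i).eq_iff, map_eq_one_iff _ (E.inj i)] at h1
  by_cases e : d i = 1
  · simp only [e, _root_.ne_eq, _root_.Finset.mem_filter, _root_.Finset.mem_univ, _root_.not_true_eq_false, _root_.and_false, ↓ _root_.reduceIte]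
  · simp only [e, ← h1.resolve_left e, _root_.ne_eq, _root_.Finset.mem_filter, _root_.Finset.mem_univ, _root_.not_false_eq_true, _root_.and_self, ↓ _root_.reduceIte]

variable {p : ℕ} [Fact p.Prime] [Fintype O] [DecidableEq O] {θ : O → Y → ℂ} {S : O → Subgroup H}
  (D : Dt p y₀ b ς υ θ S)

include D

omit E in
theorem mem_In (τ : ι → O) (g : G) : g ∈ In (w.act b) (fun d => ∏ i, θ (τ i) (d i)) ↔
    ∀ i y, θ (τ i) y = θ (τ (π g i)) (b (a g i) y) :=
  (forall_congr' fun _ => eq_comm).trans (w.th_iff b (fun _ => (D.pi _).1) (fun _ => (D.pi _).1) g)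

theorem ker_In (τ : ι → O) {g : G} (h1 : π g = 1) (h2 : ∀ i, ς (a g i) = 1) :
    g ∈ In (w.act b) fun d => ∏ i, θ (τ i) (d i) :=
  (mem_In D τ g).2 fun i y => by rw [h1, Perm.one_apply, E.b_even i (D.pi _).1 (h2 i)]

omit E in
theorem Sb_In (τ : ι → O) : w.Sb τ S ≤ In (w.act b) fun d => ∏ i, θ (τ i) (d i) := fun g hg =>
  (mem_In D τ g).2 fun i y => by rw [(hg i).1, D.fix _ _ (hg i).2]

theorem nd_In (h2 : p ≠ 2) (τ : ι → O) : ¬ p ∣ (In (w.act b) fun d => ∏ i, θ (τ i) (d i)).index ↔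
    ¬ p ∣ Nat.multinomial Finset.univ (fib τ) := by
  set I := In (w.act b) fun d => ∏ i, θ (τ i) (d i)
  have h1 : I ≤ (St τ).comap π := fun g hg i => ((D.sep _ _ _ ((mem_In D τ g).1 hg i)).1).symm
  have h3 : π.ker ≤ (St τ).comap π := fun g hg => by rw [mem_comap, show π g = 1 from hg]; exact one_mem _
  let ω : π.ker →* ι → ℤˣ := MonoidHom.mk' (fun g i => ς (a g i)) fun g h => funext fun i => by
    rw [coe_mul, w.a_mul, show π h = 1 from h.2, map_mul]
    rfl
  rw [← relIndex_mul_index h1, index_comap_of_surjective _ fun σ => (w.onto σ 1).imp fun _ h => h.1, index_St, nd_mul,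
    and_iff_right]
  rw [relIndex, ← index_comap_eq (inclusion h3) _ fun g => ?_]
  · refine nd_of_dvd (nd_pow (nd_two h2) (Fintype.card ι)) ((index_dvd_of_le (H := ω.ker) fun g hg =>
      E.ker_In D τ g.2 (congrFun hg)).trans ?_)
    rw [index_ker, ← Fintype.card_units_int, ← Fintype.card_fun, ← Nat.card_eq_fintype_card]
    exact card_subgroup_dvd_card _
  · obtain ⟨x, x1, x2⟩ := w.onto (π g) 1
    have x3 : x ∈ I := Sb_In D τ fun i => by rw [x1, x2]; exact ⟨g.2 i, one_mem _⟩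
    exact ⟨⟨x, h1 x3⟩, x3, ⟨x⁻¹ * g, by rw [MonoidHom.mem_ker, map_mul, map_inv, x1, inv_mul_cancel]⟩,
      Subtype.ext (mul_inv_cancel_left _ _).symm⟩

/-- the count over one character of the product -/
theorem fibre (i₀ : ι) (h2 : p ≠ 2) (τ : ι → O) (ho : ¬ p ∣ Nat.multinomial Finset.univ (fib τ)) (s' : G →* ℤˣ)
    (hs : ∀ d, s' (E.f d) = 1) :
    Nat.card {χ : G → ℂ // PI p G χ ∧ Over E.f χ (fun d => ∏ i, θ (τ i) (d i)) ∧ Van s' χ} =
      nb p (⟨z, w.z_Sb τ S⟩ : w.Sb τ S) (s'.comp (w.Sb τ S).subtype) := by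
  let F := (ι → Y) ⋊[(w.act b).comp (w.Sb τ S).subtype] w.Sb τ S
  have : Finite F := MK.E.finite_sd
  let r : F →* G := SemidirectProduct.lift E.f (w.Sb τ S).subtype fun x => MonoidHom.ext fun d => E.nr x d
  have e1 : r.comp SemidirectProduct.inl = E.f := SemidirectProduct.lift_comp_inl _ _ _
  have hi : ∀ i, IsIrrCharacter Y (θ (τ i)) := fun _ => (D.pi _).1
  have h3 : ∀ g, g ∈ r.range ↔ g ∈ In (w.act b) fun d => ∏ i, θ (τ i) (d i) := fun g => by
    constructor
    · rintro ⟨x, rfl⟩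
      exact mul_mem (E.ker_In D τ (E.πf _) fun i => by rw [E.af]; exact (E.mem i _).2 i) (Sb_In D τ x.right.2)
    · intro hg
      choose k1 x k2 k3 using fun i => D.sep _ _ _ ((mem_In D τ g).1 hg i)
      choose d hd using fun i => E.sur i (a g ((π g).symm i) * (x ((π g).symm i))⁻¹) (by
        rw [map_mul, map_inv, k3, mul_inv_cancel])
      refine ⟨⟨d, (E.f d)⁻¹ * g, fun i => ?_⟩, mul_inv_cancel_left _ _⟩
      have k4 := w.a_inv (E.f d) (π g i)
      rw [E.πf, Perm.one_apply, E.af, hd, Equiv.symm_apply_apply] at k4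
      rw [map_mul, map_inv, E.πf, inv_one, one_mul, w.a_mul, k4, mul_inv_rev, inv_inv, inv_mul_cancel_right, k1 i]
      exact ⟨rfl, k2 i⟩
  have h4 : ∀ o, MK.E.ExS (b.comp (S o).subtype) (θ o) := fun o =>
    have := isCyclic_of_injective (inclusion (D.le o)) (inclusion_injective _)
    MK.E.exS_cyc (D.pi o).1 fun h => D.fix o h h.2
  choose ψ h5 h6 using h4
  obtain ⟨Ψ, h7, h8⟩ := tensor (F := F) (π.comp ((w.Sb τ S).subtype.comp SemidirectProduct.rightHom)) τ
    (fun x i => (x.right.2 i).1) _ ψ h5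
    (fun o x i => ⟨x.left (π x.right i), a x.right i, (congrArg S i.2).le (x.right.2 i).2⟩) fun o x y i =>
      SemidirectProduct.ext (by
        change x.left (π (x.right * y.right) i) * w.act b x.right y.left (π (x.right * y.right) i) = _
        rw [map_mul, Perm.mul_apply, w.act_apply]
        rfl) (Subtype.ext (w.a_mul _ _ _))
  have h9 : ∀ x : F, π x.right = 1 → a x.right = 1 → Ψ x = ∏ i, θ (τ i) (x.left i) := fun x k1 k2 => by
    rw [h8 x k1]
    refine Finset.prod_congr rfl fun i _ => (congrArg _ ?_).trans (h6 _ _)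
    exact SemidirectProduct.ext (congrArg x.left (by rw [k1]; rfl)) (Subtype.ext (congrFun k2 i))
  rw [← e1]
  refine pairZ r SemidirectProduct.rightHom SemidirectProduct.inl SemidirectProduct.range_inl_eq_ker_rightHom
    SemidirectProduct.rightHom_surjective (e1 ▸ E.nr) (H671.Link.isIrr_pi hi) h3 h7
    (fun d => h9 _ (map_one π) w.a_one) (fun e => w.z_ne (congrArg Subtype.val e))
    (mem_center_iff.2 fun x => Subtype.ext (w.z_comm x)) ⟨⟨Pi.mulSingle i₀ y₀, z, w.z_Sb τ S⟩, ?_, rfl⟩ (fun x hx => ?_)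
    ?_ s' _ fun x hx => absurd ?_ hx
  · change E.f _ * z = 1
    rw [E.f_single, E.ez, w.zz]
  · have k1 : E.f x.left = (x.right : G)⁻¹ := eq_inv_of_mul_eq_one_left hx
    have k2 : π x.right = 1 := by rw [← inv_eq_one, ← map_inv, ← k1, E.πf]
    have k3 : ∀ i, a (E.f x.left) i = (a x.right i)⁻¹ := fun i => by rw [k1, ← w.a_inv, k2, Perm.one_apply]
    have k4 : a x.right = 1 := funext fun i => w.eq_one (D.le _ (x.right.2 i).2) (by
      rw [← inv_eq_one, ← map_inv, ← k3, E.af]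
      exact (E.mem i _).2 i)
    rw [h9 x k2 k4]
    refine (E.ker_f hi (fun _ => D.spin _) (funext fun i => by rw [k3, k4]; exact inv_one)).imp
      (fun h => ⟨Subtype.ext ?_, h.2⟩) fun h => ⟨Subtype.ext ?_, h.2⟩
    · exact inv_eq_one.1 (k1.symm.trans h.1)
    · exact (inv_eq_iff_eq_inv.1 (k1.symm.trans h.1)).trans (inv_eq_of_mul_eq_one_right w.zz)
  · rw [Subgroup.ext h3, deg_pi hi]
    exact nd_mul' ((E.nd_In D h2 τ).2 ho) (nd_prod.2 fun _ => (D.pi _).2)
  · change s' (E.f x.left * x.right) = s' x.right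
    rw [map_mul, hs, one_mul]

theorem over_iff_fib {χ : G → ℂ} (hχ : IsIrrCharacter G χ) {τ τ' : ι → O}
    (ho : Over E.f χ fun d => ∏ i, θ (τ i) (d i)) : (Over E.f χ fun d => ∏ i, θ (τ' i) (d i)) ↔ fib τ' = fib τ := by
  have hi : ∀ (τ : ι → O) i, IsIrrCharacter Y (θ (τ i)) := fun _ _ => (D.pi _).1
  rw [fib_eq_iff]
  refine ⟨fun h => ?_, fun ⟨σ, h⟩ => ?_⟩
  · obtain ⟨g, hg⟩ := E.nr.exists_conj hχ (H671.Link.isIrr_pi (hi τ)) (H671.Link.isIrr_pi (hi τ')) ho h
    exact ⟨π g, fun i => (D.sep _ _ _ ((w.th_iff b (hi τ) (hi τ') g).1 hg i)).1.symm⟩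
  · obtain ⟨g, rfl, hg⟩ := w.onto σ 1
    exact E.nr.over_conj hχ (H671.Link.isIrr_pi (hi τ)) ho g ((w.th_iff b (hi τ) (hi τ') g).2 fun i y => by
      rw [hg, h, Pi.one_apply, map_one, MulAut.one_apply])

/-- **the Clifford step** -/
theorem step (i₀ : ι) (h2 : p ≠ 2) (s' : G →* ℤˣ) (hs : ∀ d, s' (E.f d) = 1) (N : (O → ℕ) → ℕ)
    (hN : ∀ τ : ι → O, nb p (⟨z, w.z_Sb τ S⟩ : w.Sb τ S) (s'.comp (w.Sb τ S).subtype) = N (fib τ)) :
    nb p z s' = ∑ m ∈ Lab p O (Fintype.card ι), N m := by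
  have hi : ∀ (τ : ι → O) i, IsIrrCharacter Y (θ (τ i)) := fun _ _ => (D.pi _).1
  have := T.finite_pi (p := p) fun χ : G → ℂ => χ z = -χ 1 ∧ Van s' χ
  rw [nb, card_eq_sum (Lab p O (Fintype.card ι))
    (fun χ m => ∃ τ : ι → O, fib τ = m ∧ Over E.f χ.1 fun d => ∏ i, θ (τ i) (d i)) fun χ => ?_]
  · refine Finset.sum_congr rfl fun m hm => ?_
    obtain ⟨τ, rfl⟩ := exists_fib (mem_Lab.1 hm).1
    rw [← hN, ← E.fibre D i₀ h2 τ (mem_Lab.1 hm).2 s' hs]
    exact Nat.card_congr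
      { toFun := fun χ => ⟨χ.1.1, χ.1.2.1, χ.2.elim fun _ h => (E.over_iff_fib D χ.1.2.1.1 h.2).2 h.1.symm, χ.1.2.2.2⟩
        invFun := fun χ => ⟨⟨χ.1, χ.2.1, (E.spin χ.2.1.1 (hi τ) χ.2.2.1 i₀).2 (D.spin _), χ.2.2.2⟩, τ, rfl, χ.2.2.1⟩
        left_inv := fun _ => rfl
        right_inv := fun _ => rfl }
  · obtain ⟨Θ, h3, h4⟩ := exists_under (f := E.f) χ.2.1.1
    obtain ⟨ϑ, h5, h6⟩ := H624.MGroup.exists_pi Θ h3
    obtain rfl : Θ = _ := funext h6
    have h7 := (nd_mul.1 (nd_of_dvd χ.2.1.2 (E.nr.dvd χ.2.1.1 h3 (S := In (w.act b) fun d => ∏ i, ϑ i (d i))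
      (fun _ => Iff.rfl) h4))).2
    rw [deg_pi h5, nd_prod] at h7
    choose τ h k1 using fun i => D.rep _ ⟨h5 i, h7 i⟩ ((E.spin χ.2.1.1 h5 h4 i).1 χ.2.2.1)
    obtain ⟨g, g1, g2⟩ := w.onto 1 h⁻¹
    have h8 := E.nr.over_conj χ.2.1.1 h3 h4 g ((w.th_iff b h5 (hi τ) g).2 fun i y => by
      rw [g1, g2, k1, Perm.one_apply, ← MulAut.mul_apply, ← map_mul, Pi.inv_apply, mul_inv_cancel, map_one,
        MulAut.one_apply])
    exact ⟨fib τ, ⟨mem_Lab.2 ⟨sum_fib τ, (E.nd_In D h2 τ).1 (nd_mul.1 (nd_of_dvd χ.2.1.2 (E.nr.dvd χ.2.1.1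
      (H671.Link.isIrr_pi (hi τ)) (S := In (w.act b) fun d => ∏ i, θ (τ i) (d i)) (fun _ => Iff.rfl) h8))).1⟩, τ, rfl, h8⟩,
      fun m ⟨_, τ', k2, k3⟩ => k2.symm.trans ((E.over_iff_fib D χ.2.1.1 h8).1 k3)⟩

end Em

end Cfsg.Agent.MO.A.W
end

-- part: MO/A/W/Em
section
/-!
# MO, twisted wreath products: the blocks (helper37)

* `Wt.a₀ i` : the component of the block `i`; `So υ` : the stabilisers in `⟨υ⟩`;
* `Wt.exists_dt` : the data of the Clifford step if a block has the type `(1, c)`.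
-/

set_option autoImplicit false
set_option linter.unusedSectionVars false

namespace Cfsg.Agent.MO.A.W

open Cfsg Subgroup Equiv
open Cfsg.Agent.Characters.Core Cfsg.Agent.H672

/-- the stabilisers of the representatives in `⟨υ⟩` -/
def So {H C : Type} [Group H] (υ : H) : Option C → Subgroup H
  | none => ⊥
  | some _ => zpowers υ

theorem exists_dt_of {p c : ℕ} {H Y : Type} [Group H] [Group Y] [Finite Y] {y₀ : Y} {b : H →* MulAut Y} {ς : H →* ℤˣ}
    {υ : H} (sυ : ς υ = -1) (υυ : υ * υ = 1) (h0 : b υ y₀ = y₀)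
    (hb : ∀ θ, IsIrrCharacter Y θ → ∀ h, ς h = 1 → ∀ y, θ (b h y) = θ y)
    (h1 : cn p Y (fun θ => θ y₀ = -θ 1 ∧ ∀ y, θ (b υ y) = θ y) = c)
    (h2 : cn p Y (fun θ => θ y₀ = -θ 1 ∧ ¬ ∀ y, θ (b υ y) = θ y) = 2) :
    ∃ θ : Option (Fin c) → Y → ℂ, Dt p y₀ b ς υ θ (So υ) := by
  have := T.finite_pi (p := p) fun θ : Y → ℂ => θ y₀ = -θ 1 ∧ ∀ y, θ (b υ y) = θ y
  let ψ := (Finite.equivFinOfCardEq h1).symm
  obtain ⟨φ⟩ := (Nat.card_pos_iff.1 (h2 ▸ two_pos : 0 < cn p Y _)).1
  obtain ⟨φ', -, h3⟩ := (Nat.card_eq_two_iff' φ).1 h2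
  have k1 : ∀ y, b υ (b υ y) = y := fun y => by rw [← MulAut.mul_apply, ← map_mul, υυ, map_one, MulAut.one_apply]
  have k2 : ∀ θ, IsIrrCharacter Y θ → ∀ h, ς h = -1 → ∀ y, θ (b h y) = θ (b υ y) := fun θ hθ h e y => by
    rw [← hb θ hθ (h * υ) (by rw [map_mul, e, sυ]; decide) (b υ y), map_mul, MulAut.mul_apply, k1]
  let θ : Option (Fin c) → Y → ℂ := fun o => o.elim φ.1 fun j => (ψ j).1
  have k3 : ∀ o, PI p Y (θ o) := by rintro (_ | j); exacts [φ.2.1, (ψ j).2.1]
  have k4 : ∀ o o', θ o' = θ o → o' = o := by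
    rintro (_ | j) (_ | j') e
    · rfl
    · exact absurd ((show (ψ j').1 = φ.1 from e) ▸ (ψ j').2.2.2) φ.2.2.2
    · exact absurd ((show (ψ j).1 = φ.1 from e.symm) ▸ (ψ j).2.2.2) φ.2.2.2
    · exact congrArg some (ψ.injective (Subtype.ext e))
  refine ⟨θ, k3, ?_, fun η a1 a2 => ?_, fun o o' h e => ?_, ?_, ?_⟩
  · rintro (_ | j)
    exacts [φ.2.2.1, (ψ j).2.2.1]
  · by_cases e : ∀ y, η (b υ y) = η y
    · exact ⟨some (ψ.symm ⟨η, a1, a2, e⟩), 1, fun y => by simp only [θ, _root_.map_one, _root_.MulAut.one_apply, _root_.Option.elim_some, _root_.Equiv.apply_symm_apply]⟩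
    by_cases e' : η = φ.1
    · exact ⟨none, 1, fun y => by simp only [θ, e', _root_.map_one, _root_.MulAut.one_apply, _root_.Option.elim_none]⟩
    · exact ⟨none, υ, congrFun (congrArg Subtype.val ((h3 ⟨η, a1, a2, e⟩ fun k => e' (congrArg Subtype.val k)).trans
        (h3 ⟨fun y => φ.1 (b υ y), T.pi_equiv (b υ) φ.2.1, by simp only [h0, map_one, φ.2.2.1],
          fun k => φ.2.2.2 fun y => (k y).symm.trans (congrArg φ.1 (k1 y))⟩
          fun k => φ.2.2.2 (congrFun (congrArg Subtype.val k))).symm))⟩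
  · rcases Int.units_eq_one_or (ς h) with e' | e'
    · exact ⟨k4 _ _ (funext fun y => (e y).trans (hb _ (k3 o).1 h e' y)), 1, one_mem _, (map_one ς).trans e'.symm⟩
    · simp only [k2 _ (k3 o).1 h e'] at e
      rcases o with _ | j
      · rcases o' with _ | j'
        · exact absurd (fun y => (e y).symm) φ.2.2.2
        · exact absurd (fun y => (e y).symm.trans (((ψ j').2.2.2 y).symm.trans ((e _).trans (congrArg φ.1 (k1 y)))))
            φ.2.2.2
      · exact ⟨k4 _ _ (funext fun y => (e y).trans ((ψ j).2.2.2 y)), υ, mem_zpowers υ, sυ.trans e'.symm⟩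
  · rintro (_ | j) h hh y
    · rw [mem_bot.1 hh, map_one, MulAut.one_apply]
    · rcases one_or_of_mem υυ hh with rfl | rfl
      · rw [map_one, MulAut.one_apply]
      · exact (ψ j).2.2.2 y
  · rintro (_ | j)
    exacts [bot_le, le_rfl]

namespace Wt

variable {G H ι : Type} [Group G] [Group H] [Fintype ι] [DecidableEq ι] {s : G →* ℤˣ} {z : G}
  {π : G →* Perm ι} {a : G → ι → H} {ς : H →* ℤˣ} {υ : H} (w : Wt s z π a ς υ)

/-- the component of a block -/
def a₀ (i : ι) : w.Sp (· = i) ⊤ →* H :=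
  MonoidHom.mk' (fun g => a g i) fun g h => by rw [coe_mul, w.a_mul, w.π_one h.2, Perm.one_apply]

theorem a₀_surj (i : ι) : Function.Surjective (w.a₀ i) := fun h => by
  obtain ⟨g, g1, g2⟩ := w.onto 1 (Pi.mulSingle i h)
  exact ⟨⟨g, fun j hj => ⟨by rw [g1, Perm.one_apply], by rw [g2, Pi.mulSingle_eq_of_ne hj]⟩, fun _ => trivial⟩,
    (congrFun g2 i).trans (Pi.mulSingle_eq_same _ _)⟩

theorem a₀_ker {i : ι} {g : w.Sp (· = i) ⊤} (h : w.a₀ i g = 1) : (g : G) = 1 ∨ (g : G) = z :=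
  (w.ker g).1 ⟨w.π_one g.2, funext fun j => by
    by_cases e : j = i
    · rw [e]; exact h
    · exact (g.2.1 j e).2⟩

theorem exists_em (i₀ : ι) : ∃ (e : ι → (ς.comp (w.a₀ i₀)).ker →* G) (b : H →* MulAut (ς.comp (w.a₀ i₀)).ker),
    Em w ⟨⟨z, w.z_Sp _ _⟩, (congrArg ς (congrFun w.az i₀)).trans (map_one ς)⟩ e b ∧
      ∀ m, b (w.a₀ i₀ m) = MulAut.conjNormal m := by
  let b : H →* MulAut (ς.comp (w.a₀ i₀)).ker := (w.a₀ i₀).liftOfSurjective (w.a₀_surj i₀) ⟨MulAut.conjNormal, fun m hm =>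
    MulEquiv.ext fun y => Subtype.ext (Subtype.ext (by
      change (m : G) * y * (m : G)⁻¹ = y
      rcases w.a₀_ker hm with e | e <;> rw [e]
      · simp
      · rw [← w.z_comm, mul_inv_cancel_right]))⟩
  have hb : ∀ m, b (w.a₀ i₀ m) = MulAut.conjNormal m := fun m => MonoidHom.liftOfRightInverse_comp_apply _ _ _ _ m
  choose t t1 t2 using fun i => w.onto (swap i₀ i) 1
  have t3 : ∀ i, π (t i) i₀ = i := fun i => by rw [t1, swap_apply_left]
  refine ⟨fun i => (MulAut.conj (t i)).toMonoidHom.comp ((Subgroup.subtype _).comp (Subgroup.subtype _)), b,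
    ⟨fun i => (MulAut.conj (t i)).injective.comp (Subtype.val_injective.comp Subtype.val_injective), fun g i y => ?_,
      fun i y => ?_, fun i h hh => ?_, fun i => ?_⟩, hb⟩
  · obtain ⟨m, hm⟩ := w.a₀_surj i₀ (a g i)
    obtain ⟨k, hk⟩ : ∃ k, g = t (π g i) * (m * k) * (t i)⁻¹ := ⟨(m : G)⁻¹ * (t (π g i))⁻¹ * g * t i, by group⟩
    have k0 := eq_mul_inv_iff_mul_eq.1 hk
    have k1 : π k i₀ = i₀ := (π (t (π g i))).injective (by
      have k2 := congrArg (fun x => π x i₀) k0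
      simp only [map_mul, Perm.mul_apply, w.π_one m.2, t3, Perm.one_apply] at k2
      rw [← k2, t3])
    have k2 : a k i₀ = 1 := by
      have k2 := congrArg (a · i₀) k0
      simp only [w.a_mul, t2, t3, k1, Pi.one_apply, mul_one, one_mul] at k2
      exact mul_eq_left.1 (k2.symm.trans hm.symm)
    have k3 : (y.1 : G) * k = k * y.1 := (w.comm _ _ fun j => by
      by_cases e : j = i₀
      · exact Or.inr (e ▸ ⟨k1, k2⟩)
      · exact Or.inl (y.1.2.1 j e)).trans (by rw [w.s_one y.1.2, show ς (a _ _) = 1 from y.2, ez_one, one_mul])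
    rw [← hm, hb]
    change g * (t i * y * (t i)⁻¹) * g⁻¹ = t (π g i) * (m * y * (m : G)⁻¹) * (t (π g i))⁻¹
    generalize t (π g i) = x at hk
    rw [hk]
    calc _ = x * m * (k * y) * k⁻¹ * (m : G)⁻¹ * x⁻¹ := by group
      _ = _ := by rw [← k3]; group
  · change t i * y * (t i)⁻¹ ∈ _
    refine ⟨(π (t i)).surjective.forall.2 fun j hj => ⟨?_, ?_⟩, (π (t i)).surjective.forall.2 fun j => ?_⟩
    · rw [map_mul, map_mul, w.π_one y.1.2, mul_one, map_inv, mul_inv_cancel, Perm.one_apply]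
    · rw [w.a_conj (t2 i)]
      exact (y.1.2.1 j fun e => hj (e ▸ t3 i)).2
    · rw [w.a_conj (t2 i)]
      by_cases e : j = i₀
      · rw [e]; exact y.2
      · rw [(y.1.2.1 j e).2]; exact one_mem _
  · obtain ⟨m, rfl⟩ := w.a₀_surj i₀ h
    exact ⟨⟨m, hh⟩, (congrArg _ (t3 i).symm).trans (w.a_conj (t2 i) m i₀)⟩
  · change t i * z * (t i)⁻¹ = z
    rw [w.z_comm, mul_inv_cancel_right]

theorem exists_dt [Finite G] {p c : ℕ} [Fact p.Prime] (h2 : p ≠ 2) (i₀ : ι)
    (h3 : nb p (⟨z, w.z_Sp _ _⟩ : w.Sp (· = i₀) ⊤) 1 = 1 + 2 * c)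
    (h4 : nb p (⟨z, w.z_Sp _ _⟩ : w.Sp (· = i₀) ⊤) (ς.comp (w.a₀ i₀)) = 1) :
    ∃ (Y : Type) (_ : Group Y) (_ : Finite Y) (y₀ : Y) (e : ι → Y →* G) (b : H →* MulAut Y)
      (θ : Option (Fin c) → Y → ℂ), Em w y₀ e b ∧ Dt p y₀ b ς υ θ (So υ) := by
  obtain ⟨e, b, E, hb⟩ := w.exists_em i₀
  obtain ⟨u, hu⟩ := w.a₀_surj i₀ υ
  have k1 : u ∉ (ς.comp (w.a₀ i₀)).ker := notMem_ker_iff.2 ((congrArg ς hu).trans w.sυ)
  have k2 : (ς.comp (w.a₀ i₀)).ker.index = 2 := index_eq_two_iff_exists_notMem_and.2 ⟨u, k1, fun x =>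
    (sg_or (ς.comp (w.a₀ i₀)) x).symm.imp (fun h => by
      rw [MonoidHom.mem_ker, map_mul, h, notMem_ker_iff.1 k1]; decide) id⟩
  have zc : (⟨z, w.z_Sp _ _⟩ : w.Sp (· = i₀) ⊤) ∈ center _ := mem_center_iff.2 fun x => Subtype.ext (w.z_comm x)
  obtain ⟨h5, h6⟩ := two_sub (p := p) h2 k2 k1 (r := fun χ => χ ⟨z, w.z_Sp _ _⟩ = -χ 1)
    (q := fun θ => θ ⟨⟨z, w.z_Sp _ _⟩, (congrArg ς (congrFun w.az i₀)).trans (map_one ς)⟩ = -θ 1)
    fun χ θ a1 a2 a3 => spin_iff a1 a2 a3 (z := ⟨⟨z, _⟩, _⟩)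
      (mem_center_iff.2 fun x => Subtype.ext (mem_center_iff.1 zc x)) zc
  have h7 := cn_split (p := p) (fun χ : w.Sp (· = i₀) ⊤ → ℂ => χ ⟨z, w.z_Sp _ _⟩ = -χ 1)
    fun χ => ∀ x, x ∉ (ς.comp (w.a₀ i₀)).ker → χ x = 0
  rw [(cn_iff fun χ _ => and_congr_right fun _ => forall_congr' fun x => by rw [notMem_ker_iff]).trans h4] at h6 h7
  rw [h5, (cn_iff fun χ _ => (and_iff_left (van_one χ)).symm).trans h3] at h7
  rw [← hb, hu] at h6 h7
  obtain ⟨θ, D⟩ := exists_dt_of (c := c) w.sυ w.υυ (E.inj i₀ (by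
    have h := E.conj u i₀
    rw [w.π_one u.2, Perm.one_apply, show a u i₀ = υ from hu] at h
    rw [← h, E.ez, w.z_comm, mul_inv_cancel_right])) (fun _ h _ => E.b_even i₀ h) (by omega) h6.symm
  exact ⟨_, _, inferInstance, _, e, b, θ, E, D⟩

end Wt

end Cfsg.Agent.MO.A.W
end

-- part: MO/A/W/Ty
section
/-!
# MO, twisted wreath products: the types of the inertia quotients (helper37)

* `ty_iff`, `sc_nb` : the types in terms of `nb`;
* `Wt.πq`, `Wt.an`, `Wt.exists_cl` : the two factors of `Wt.Sb τ (So υ)`; `Wt.nb_Sb` : its numbers;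
* `Wt.count` : the numbers of a twisted wreath product.
-/

set_option autoImplicit false
set_option linter.unusedSectionVars false

namespace Cfsg.Agent.MO.A.W

open Cfsg Subgroup Equiv
open Cfsg.Agent.MK (Ov)

variable {p : ℕ}

theorem ty_iff {A G : Type} [Group A] [Group G] (f : A →* G) (hf : Function.Injective f) {K Z : Subgroup G}
    (hK : f.range = K) {ζ : A} {z : G} (hz : f ζ = z) (hZ : ∀ x, x ∈ Z ↔ x = 1 ∨ x = z) {l : G → ℂ} (h1 : l 1 = 1)
    (hl : l z = -1) {s : G →* ℤˣ} {m n : ℕ} :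
    Ty p s (fun L => Ov L Z l) K m n ↔ nb p ζ 1 = m + 2 * n ∧ nb p ζ (s.comp f) = m := by
  subst hK
  let e := MonoidHom.ofInjective hf
  have k : ∀ χ : f.range → ℂ, χ (e ζ) = -χ (e 1) ↔ Ov f.range Z l χ := fun χ => by
    rw [map_one]
    refine ⟨fun h x hx => ?_, fun h => by rw [h _ ((hZ _).2 (Or.inr hz)), show (e ζ : G) = z from hz, hl, neg_one_mul]⟩
    rcases (hZ x).1 hx with h2 | h2
    · rw [h2, h1, one_mul, show x = 1 from Subtype.ext h2]
    · rw [h2, hl, neg_one_mul, show x = e ζ from Subtype.ext (h2.trans hz.symm), h]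
  have k1 : nb p ζ 1 = cn p f.range (Ov f.range Z l) := cn_congr e fun χ _ => (and_iff_left (van_one _)).trans (k χ)
  have k2 : nb p ζ (s.comp f) = cn p f.range fun χ => Ov f.range Z l χ ∧ ∀ x : f.range, s x = -1 → χ x = 0 :=
    cn_congr e fun χ _ => and_congr (k χ) (e.surjective.forall (p := fun x => s x = -1 → χ x = 0)).symm
  rw [k1, k2]
  exact ⟨fun h => ⟨h.1, h.2⟩, fun h => ⟨h.1, h.2⟩⟩

theorem exists_l {G : Type} [Group G] {z : G} (h : z ≠ 1) : ∃ l : G → ℂ, l 1 = 1 ∧ l z = -1 := by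
  classical
  exact ⟨fun x => if x = 1 then 1 else -1, if_pos rfl, if_neg h⟩

theorem sc_nb [hp : Fact p.Prime] (hT : SpinT) (h2 : p ≠ 2) {α T : Type} [Fintype α] [DecidableEq α] [Group T] [Finite T]
    {P : T →* Perm α} {z : T} (h : Sc P z) : nb p z 1 = sp p (Fintype.card α) + 2 * sn p (Fintype.card α) ∧
      nb p z (Perm.sign.comp P) = sp p (Fintype.card α) := by
  obtain ⟨l, h1, hl⟩ := exists_l h.z_ne
  exact ((ty_iff (MonoidHom.id T) Function.injective_id (MonoidHom.range_eq_top.2 Function.surjective_id) rfl h.ker h1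
    hl).1 (hT.ty hp.out h2 h h1 hl) :)

namespace Wt

variable {G H ι : Type} [Group G] [Group H] [Fintype ι] [DecidableEq ι] {s : G →* ℤˣ} {z : G}
  {π : G →* Perm ι} {a : G → ι → H} {ς : H →* ℤˣ} {υ : H} (w : Wt s z π a ς υ)

include w

theorem a_ez (u v : ℤˣ) : π (ez z u v) = 1 ∧ a (ez z u v) = 1 := (w.ker _).2 (by
  unfold ez
  split_ifs
  exacts [Or.inr rfl, Or.inl rfl])

theorem exists_u : ∃ u : ι → G, (∀ i, π (u i) = 1 ∧ a (u i) = Pi.mulSingle i υ) ∧
    ∀ t, a t = 1 → ∀ i, ez z (s t) (-1) * (t * u i * t⁻¹) = u (π t i) := by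
  rcases isEmpty_or_nonempty ι with h | ⟨⟨i₀⟩⟩
  · exact ⟨fun i => h.elim i, fun i => h.elim i, fun _ _ i => h.elim i⟩
  let κ : G → G → G := fun g x => ez z (s g) (-1) * (g * x * g⁻¹)
  have k1 : ∀ g h x, κ (g * h) x = κ g (κ h x) := fun g h x => by
    change ez z (s (g * h)) (-1) * _ = ez z (s g) (-1) * (g * (ez z (s h) (-1) * _) * g⁻¹)
    rw [map_mul, ez_mul w.zz, ← mul_assoc g (ez z (s h) (-1)), ez_comm w.z_comm (s h) (-1) g]
    group
  choose t t1 t2 using fun i => w.onto (swap i₀ i) 1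
  have t3 : ∀ i, π (t i) i₀ = i := fun i => by rw [t1, swap_apply_left]
  obtain ⟨u, u1, u2⟩ := w.onto 1 (Pi.mulSingle i₀ υ)
  refine ⟨fun i => κ (t i) u, fun i => ⟨?_, funext ((π (t i)).surjective.forall.2 fun j => ?_)⟩, fun g hg i => ?_⟩
  · simp only [κ, u1, (w.a_ez _ _).1, _root_.map_mul, _root_.mul_one, _root_.map_inv, _root_.mul_inv_cancel]
  · rw [w.a_mul, (w.a_ez _ _).2, w.a_conj (t2 i), u2, Pi.one_apply, one_mul, ← t3 i]
    by_cases e : j = i₀
    · rw [e, t3, t3, Pi.mulSingle_eq_same, Pi.mulSingle_eq_same]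
    · rw [Pi.mulSingle_eq_of_ne e, t3, Pi.mulSingle_eq_of_ne fun k => e ((π (t i)).injective (k.trans (t3 i).symm))]
  · obtain ⟨k, hk⟩ : ∃ k, g * t i = t (π g i) * k := ⟨_, (mul_inv_cancel_left _ _).symm⟩
    have k2 : π k i₀ = i₀ := (π (t (π g i))).injective (by
      rw [← Perm.mul_apply, ← map_mul, ← hk, map_mul, Perm.mul_apply, t3, t3])
    have k3 : a k i₀ = 1 := by simpa [w.a_mul, t2, hg] using (congrArg (a · i₀) hk).symm
    have k4 := w.comm k u fun j => by
      by_cases e : j = i₀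
      · exact Or.inl (e ▸ ⟨k2, k3⟩)
      · exact Or.inr ⟨by rw [u1, Perm.one_apply], by rw [u2, Pi.mulSingle_eq_of_ne e]⟩
    rw [w.sgn u, u1, u2, Finset.prod_eq_single i₀ (fun j _ e => by rw [Pi.mulSingle_eq_of_ne e, map_one]) (by simp only [_root_.Finset.mem_univ, _root_.not_true_eq_false, _root_.Pi.mulSingle_eq_same, _root_.IsEmpty.forall_iff]),
      Pi.mulSingle_eq_same, w.sυ, map_one, one_mul] at k4
    refine (k1 g (t i) u).symm.trans (hk ▸ (k1 _ k u).trans (congrArg _ ?_))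
    change ez z (s k) (-1) * (k * u * k⁻¹) = u
    rw [k4, ← mul_assoc, ← mul_assoc, ← ez_mul w.zz, Int.units_mul_self, ez_one, one_mul, mul_inv_cancel_right]

variable (q : ι → Prop) [DecidablePred q] (S : Subgroup H)

theorem q_iff (g : w.Sp q S) (i : ι) : q (π g i) ↔ q i :=
  ⟨fun h => by_contra fun e => e ((g.2.1 i e).1 ▸ h), fun h => by_contra fun e =>
    e (((π g).injective (g.2.1 _ e).1).symm ▸ h)⟩

/-- the permutation of the support -/
def πq : w.Sp q S →* Perm {i // q i} :=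
  MonoidHom.mk' (fun g => (π g).subtypePerm (w.q_iff q S g)) fun g h =>
    Equiv.ext fun i => Subtype.ext (congrArg (fun σ : Perm ι => σ i) (map_mul π (g : G) h))

variable {q S}

theorem π_eq (g : w.Sp q S) : π g = Perm.ofSubtype (w.πq q S g) :=
  (Perm.ofSubtype_subtypePerm (w.q_iff q S g) fun i h => by_contra fun e => h (g.2.1 i e).1).symm

theorem π_ker {g : w.Sp q S} (h : w.πq q S g = 1) : π g = 1 := by rw [w.π_eq, h, map_one]

theorem s_eq {g : w.Sp q S} (h : a g = 1) : s g = Perm.sign (w.πq q S g) := by simp only [w.sgn, h, w.π_eq, _root_.Equiv.Perm.sign_ofSubtype, _root_.Pi.one_apply, _root_.map_one, _root_.Finset.prod_const_one, _root_.mul_one]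

theorem lift (σ : Perm {i // q i}) : ∃ g : w.Sp q S, w.πq q S g = σ ∧ a g = 1 := by
  obtain ⟨g, g1, g2⟩ := w.onto (Perm.ofSubtype σ) 1
  exact ⟨⟨g, fun i hi => ⟨by rw [g1, Perm.ofSubtype_apply_of_not_mem _ hi], congrFun g2 i⟩, fun i => g2 ▸ one_mem _⟩,
    Perm.ofSubtype_injective ((w.π_eq _).symm.trans g1), g2⟩

theorem anti {g h : w.Sp q S} (g1 : a g = 1) (h1 : a h = 1) (g2 : (w.πq q S g).IsSwap) (h2 : (w.πq q S h).IsSwap)
    (d : (w.πq q S g).Disjoint (w.πq q S h)) : (g : G) * h = z * (h * g) := by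
  rw [w.comm g h fun i => ?_, w.s_eq g1, w.s_eq h1, g2.sign_eq, h2.sign_eq, ez_neg]
  by_cases e : q i
  · exact (d ⟨i, e⟩).imp (fun k => ⟨congrArg Subtype.val k, congrFun g1 i⟩) fun k => ⟨congrArg Subtype.val k, congrFun h1 i⟩
  · exact Or.inl (g.2.1 i e)

theorem an : An (w.πq q ⊥) ⟨z, w.z_Sp _ _⟩ where
  surj σ := (w.lift σ).imp fun _ h => h.1
  z_ne e := w.z_ne (congrArg Subtype.val e)
  z_comm x := Subtype.ext (w.z_comm x)
  ker x := by
    rw [Subtype.ext_iff, Subtype.ext_iff]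
    exact ⟨fun h => (w.ker x).1 ⟨w.π_ker h, funext x.2.2⟩,
      fun h => Perm.ofSubtype_injective ((w.π_eq x).symm.trans (((w.ker x).2 h).1.trans (map_one _).symm))⟩
  anti g h a b d := Subtype.ext (w.anti (funext g.2.2) (funext h.2.2) a b d)

variable (q) in
theorem z_ker : (⟨z, w.z_Sp _ _⟩ : w.Sp q S) ∈ (w.πq q S).ker :=
  Perm.ofSubtype_injective ((w.π_eq _).symm.trans (w.πz.trans (map_one _).symm))

variable (q) in
theorem exists_cl : ∃ ε u t, Cl (s.comp (w.Sp q (zpowers υ)).subtype) (w.πq q (zpowers υ)) ⟨_, w.z_ker q⟩ ε u t := by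
  obtain ⟨u, u1, u2⟩ := w.exists_u
  have k1 : ∀ i : {i // q i}, u i ∈ w.Sp q (zpowers υ) := fun i => by
    rw [show ∀ g, g ∈ w.Sp q (zpowers υ) ↔ _ ∧ _ from fun _ => Iff.rfl, (u1 i).1, (u1 i).2]
    refine ⟨fun j hj => ⟨rfl, Pi.mulSingle_eq_of_ne (fun e : j = i => hj (e ▸ i.2)) _⟩, fun j => ?_⟩
    by_cases e : j = i
    · rw [e, Pi.mulSingle_eq_same]; exact mem_zpowers υ
    · rw [Pi.mulSingle_eq_of_ne e]; exact one_mem _
  have k2 : ∀ i, s (u i) = -1 := fun i => by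
    rw [w.sgn, (u1 i).1, (u1 i).2, Finset.prod_eq_single i (fun j _ e => by rw [Pi.mulSingle_eq_of_ne e, map_one])
      (by simp only [_root_.Finset.mem_univ, _root_.not_true_eq_false, _root_.Pi.mulSingle_eq_same, _root_.IsEmpty.forall_iff]), Pi.mulSingle_eq_same, w.sυ, map_one, one_mul]
  have k3 : ∀ i c, π c = 1 → a c i = 1 → u i * c = ez z (-1) (s c) * (c * u i) := fun i c c1 c2 => by
    rw [w.comm _ _ fun j => ?_, k2]
    by_cases e : j = i
    · exact Or.inr ⟨by rw [c1, Perm.one_apply], e ▸ c2⟩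
    · exact Or.inl ⟨by rw [(u1 i).1, Perm.one_apply], by rw [(u1 i).2, Pi.mulSingle_eq_of_ne e]⟩
  choose t t1 t2 using fun i j : {i // q i} => w.lift (S := zpowers υ) (swap i j)
  have k4 : ∀ i j, i ≠ j → s (t i j) = -1 := fun i j e => by rw [w.s_eq (t2 i j), t1, Perm.sign_swap e]
  refine ⟨MonoidHom.mk' (fun c i => ς (a c i)) fun c d => funext fun i => by
      rw [coe_mul, coe_mul, w.a_mul, w.π_ker d.2, map_mul]
      rfl,
    fun i => ⟨⟨u i, k1 i⟩, Perm.ofSubtype_injective ((w.π_eq _).symm.trans ((u1 i).1.trans (map_one _).symm))⟩, t,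
    fun e => w.z_ne (congrArg (·.1.1) e), mem_center_iff.2 fun x => Subtype.ext (w.z_comm x),
    Subtype.ext (Subtype.ext w.zz), fun c => ?_, fun c => ?_, fun i => funext fun j => ?_,
    fun i => Subtype.ext (Subtype.ext (w.sq _ i (u1 i).1 (u1 i).2)), fun i c => Subtype.ext (Subtype.ext ?_),
    fun i j _ => t1 i j, k4, fun i j e l => Subtype.ext ?_, fun i j k l e e' d => Subtype.ext
      (w.anti (t2 i j) (t2 k l) ⟨i, j, e, t1 i j⟩ ⟨k, l, e', t1 k l⟩ (by rwa [t1, t1]))⟩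
  · change s c = ∏ i : {i // q i}, ς (a c i)
    rw [w.sgn, w.π_ker c.2, map_one, one_mul, ← Fintype.prod_subtype_mul_prod_subtype q,
      Finset.prod_eq_one (s := Finset.univ) (f := fun i : {i // ¬ q i} => ς (a c i)) fun i _ => by
        rw [(c.1.2.1 i i.2).2, map_one], mul_one]
  · rw [Subtype.ext_iff, Subtype.ext_iff, Subtype.ext_iff, Subtype.ext_iff]
    refine Iff.trans ⟨fun h => ⟨w.π_ker c.2, funext fun i => ?_⟩,
      fun h => funext fun i => (congrArg ς (congrFun h.2 i.1)).trans (map_one ς)⟩ (w.ker c)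
    · by_cases e : q i
      · exact w.eq_one (c.1.2.2 i) (congrFun h ⟨i, e⟩)
      · exact (c.1.2.1 i e).2
  · change ς (a (u i) j) = _
    rw [(u1 i).2]
    by_cases e : j = i
    · rw [e, Pi.mulSingle_eq_same, Pi.mulSingle_eq_same, w.sυ]
    · rw [Pi.mulSingle_eq_of_ne e, Pi.mulSingle_eq_of_ne (Subtype.val_injective.ne e), map_one]
  · rw [coe_mul, coe_mul, coe_mul, coe_mul, apply_ite Subtype.val, apply_ite Subtype.val]
    change u i * c = (if s c = ς (a c i) then 1 else z) * (c * u i)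
    rcases one_or_of_mem w.υυ (c.1.2.2 i) with e | e
    · rw [k3 i c (w.π_ker c.2) e, e, map_one]
      rcases Int.units_eq_one_or (s c) with e' | e' <;> rw [e']
      exacts [by rw [ez_symm, ez_one, if_pos rfl], by rw [ez_neg, if_neg (by decide)]]
    · have h := k3 i (c * u i) (by rw [map_mul, w.π_ker c.2, (u1 i).1, mul_one]) (by
        rw [w.a_mul, (u1 i).1, (u1 i).2, Perm.one_apply, e, Pi.mulSingle_eq_same, w.υυ])
      rw [← mul_assoc, ← mul_assoc, mul_left_inj, map_mul, k2] at h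
      rw [h, e, w.sυ]
      rcases Int.units_eq_one_or (s c) with e' | e' <;> rw [e']
      exacts [by rw [one_mul, ez_neg, if_neg (by decide)], by rw [Int.units_mul_self, ez_symm, ez_one, if_pos rfl]]
  · have h := u2 _ (t2 i j) l
    rw [k4 i j e, ez_neg, w.π_eq, t1, Perm.ofSubtype_apply_coe] at h
    change t i j * u l = z * (u (swap i j l) * t i j)
    rw [← h, ← mul_assoc, ← mul_assoc, w.zz, one_mul, inv_mul_cancel_right]

variable [Finite G] [Fact p.Prime] (hT : SpinT) (h2 : p ≠ 2)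

include hT h2

theorem nb_Sb {c : ℕ} (τ : ι → Option (Fin c)) :
    nb p (⟨z, w.z_Sb τ (So υ)⟩ : w.Sb τ (So υ)) 1 = nA p (sp p) (sn p) (fib τ) + 2 * nA p (sn p) (sp p) (fib τ) ∧
      nb p (⟨z, w.z_Sb τ (So υ)⟩ : w.Sb τ (So υ)) (s.comp (w.Sb τ (So υ)).subtype) = nA p (sp p) (sn p) (fib τ) := by
  obtain ⟨l, h1, hl⟩ := exists_l w.z_ne
  have hZ : ∀ x, x ∈ zpowers z ↔ x = 1 ∨ x = z := fun x =>
    ⟨one_or_of_mem w.zz, by rintro (rfl | rfl); exacts [one_mem _, mem_zpowers _]⟩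
  let q : ι → Prop := fun i => ¬ τ i = none
  let S := (St fun i : {i // q i} => τ i).comap (w.πq q (zpowers υ))
  let f := (w.Sp q (zpowers υ)).subtype.comp S.subtype
  have hf : Function.Injective f := Subtype.val_injective.comp Subtype.val_injective
  obtain ⟨ε, u, t, C⟩ := w.exists_cl q
  obtain ⟨T, _, _, P, ζ, h⟩ := exists_sc {i // τ i = none}
  have t2 : Ty p s (fun L => Ov L (zpowers z) l) (w.Sp (τ · = none) ⊥) (sp p (fib τ none)) (sn p (fib τ none)) := by
    rw [ty_iff _ Subtype.val_injective (range_subtype _) (ζ := ⟨z, w.z_Sp _ _⟩) rfl hZ h1 hl, fib, Nat.card_eq_fintype_card,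
      show s.comp (w.Sp (τ · = none) ⊥).subtype = Perm.sign.comp (w.πq _ ⊥) from
        (MonoidHom.ext fun g => w.s_eq (funext g.2.2) : _), w.an.nb_eq (an_of_sc h)]
    exact ⟨(w.an.nb_eq (an_of_sc h) 1).trans (sc_nb hT h2 h).1, (sc_nb hT h2 h).2⟩
  have d : ∀ x ∈ f.range, ∀ y ∈ w.Sp (τ · = none) ⊥, ∀ i, π x i = i ∧ a x i = 1 ∨ π y i = i ∧ a y i = 1 := by
    rintro _ ⟨x, rfl⟩ y hy i
    exact (em (q i)).symm.imp (x.1.2.1 i) (hy.1 i)
  have tw : Tw s z f.range (w.Sp (τ · = none) ⊥) (w.Sb τ (So υ)) := by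
    refine ⟨fun x _ => w.z_comm x, w.zz, w.sz, ⟨inclusion (Cl.ker_le _) ⟨_, w.z_ker q⟩, rfl⟩, w.z_Sp _ _, ?_,
      fun y hy i => ⟨?_, (mem_bot.1 (hy.2 i)).symm ▸ one_mem _⟩, fun k hk => ?_, fun x hx hy => (w.ker x).1 ?_,
      fun x hx y hy e => ?_, fun x hx y hy e e' => by rw [w.comm x y (d x hx y hy), e, e', ez_neg]⟩
    · rintro _ ⟨x, rfl⟩ i
      by_cases e : q i
      · refine ⟨x.2 ⟨i, e⟩, ?_⟩
        obtain ⟨j, hj⟩ := Option.ne_none_iff_exists'.1 e
        rw [hj]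
        exact x.1.2.2 i
      · exact ⟨congrArg τ (x.1.2.1 i e).1, (x.1.2.1 i e).2.symm ▸ one_mem _⟩
    · by_cases e : τ i = none
      · exact ((w.q_iff _ _ ⟨y, hy⟩ i).2 e).trans e.symm
      · exact congrArg τ (hy.1 i e).1
    · obtain ⟨y, y1, y2⟩ := w.lift (q := (τ · = none)) (S := ⊥) ((π k).subtypePerm fun i => by rw [(hk i).1])
      have k1 : ∀ i, π (k * (y : G)⁻¹) (π y i) = π k i ∧ a (k * (y : G)⁻¹) (π y i) = a k i := fun i => by
        have k1 := w.a_mul (k * (y : G)⁻¹) y i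
        rw [inv_mul_cancel_right, y2, Pi.one_apply, mul_one] at k1
        exact ⟨by simp only [_root_.map_mul, _root_.map_inv, _root_.Equiv.Perm.coe_mul, _root_.Equiv.Perm.coe_inv, _root_.Function.comp_apply, _root_.Equiv.symm_apply_apply], k1.symm⟩
      refine ⟨k * (y : G)⁻¹, ⟨⟨⟨_, (π y).surjective.forall.2 fun i hi => ?_, (π y).surjective.forall.2 fun i => ?_⟩,
        fun i => ?_⟩, rfl⟩, y, y.2, (inv_mul_cancel_right _ _).symm⟩
      · have e := (w.q_iff _ _ y i).1 (not_not.1 hi)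
        have k2 := (hk i).2
        rw [e] at k2
        exact ⟨(k1 i).1.trans (congrArg Subtype.val (Equiv.congr_fun y1 ⟨i, e⟩)).symm, (k1 i).2.trans k2⟩
      · have k2 := (hk i).2
        refine (k1 i).2.symm ▸ ?_
        generalize τ i = o at k2
        cases o
        exacts [bot_le (a := zpowers υ) k2, k2]
      · have k2 := (k1 i).1
        rw [(y.2.1 i i.2).1] at k2
        exact (congrArg τ k2).trans (hk i).1
    · exact ⟨Equiv.ext fun i => ((d x hx x hy i).elim id id).1, funext fun i => ((d x hx x hy i).elim id id).2⟩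
    · rw [w.comm x y (d x hx y hy)]
      rcases e with e | e <;> rw [e]
      exacts [by rw [ez_one, one_mul], by rw [ez_symm, ez_one, one_mul]]
  have k1 : ∀ j, fib (fun i : {i // q i} => τ i) (some j) = fib τ (some j) := fun j =>
    Nat.card_congr (Equiv.subtypeSubtypeEquivSubtype (q := fun i => τ i = some j) fun h e => by simp [h] at e)
  have k2 : fib (fun i : {i // q i} => τ i) none = 0 := Nat.card_eq_zero.2 (Or.inl ⟨fun i => i.1.2 i.2⟩)
  have k3 := sum_fib fun i : {i // q i} => τ i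
  have k4 := k0_St (p := p) fun i : {i // q i} => τ i
  simp only [Fintype.sum_option, Fintype.prod_option, k1, k2, zero_add, K_small (p := p) zero_le_one, one_mul] at k3 k4
  rw [← ty_iff _ Subtype.val_injective (range_subtype _) (ζ := ⟨z, w.z_Sb τ (So υ)⟩) rfl hZ h1 hl, nA, nA, k3, ← k4]
  rcases Nat.even_or_odd (Fintype.card {i // q i}) with e | e
  · simpa only [e, ↓ _root_.reduceIte, _root_.MulZeroClass.zero_mul, _root_.add_zero] using tw.ty_ov h2 hZ hl ((ty_iff f hf rfl (z := z) (ζ := inclusion (Cl.ker_le _) ⟨_, w.z_ker q⟩) rfl hZ h1 hl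
      (m := MO.T.k0 p (St fun i : {i // q i} => τ i)) (n := 0)).2 (C.even h2 _ e)) t2
  · simpa only [Nat.not_even_iff_odd.2 e, ↓ _root_.reduceIte, _root_.MulZeroClass.zero_mul, _root_.zero_add] using tw.ty_ov h2 hZ hl ((ty_iff f hf rfl (z := z)
      (ζ := inclusion (Cl.ker_le _) ⟨_, w.z_ker q⟩) rfl hZ h1 hl (m := 0)).2
      ⟨(C.odd h2 _ e).1.trans (zero_add _).symm, (C.odd h2 _ e).2⟩) t2

/-- **the numbers of a twisted wreath product** -/
theorem count [Finite H] {c : ℕ} (i₀ : ι) (h3 : nb p (⟨z, w.z_Sp _ _⟩ : w.Sp (· = i₀) ⊤) 1 = 1 + 2 * c)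
    (h4 : nb p (⟨z, w.z_Sp _ _⟩ : w.Sp (· = i₀) ⊤) (ς.comp (w.a₀ i₀)) = 1) :
    nb p z 1 = ∑ m ∈ Lab p (Option (Fin c)) (Fintype.card ι), nA p (sp p) (sn p) m +
      2 * ∑ m ∈ Lab p (Option (Fin c)) (Fintype.card ι), nA p (sn p) (sp p) m ∧
    nb p z s = ∑ m ∈ Lab p (Option (Fin c)) (Fintype.card ι), nA p (sp p) (sn p) m := by
  obtain ⟨Y, _, _, y₀, e, b, θ, E, D⟩ := w.exists_dt h2 i₀ h3 h4
  rw [Finset.mul_sum, ← Finset.sum_add_distrib]
  exact ⟨E.step D i₀ h2 1 (fun _ => rfl) _ fun τ => (w.nb_Sb hT h2 τ).1,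
    E.step D i₀ h2 s E.sf _ fun τ => (w.nb_Sb hT h2 τ).2⟩

end Wt

end Cfsg.Agent.MO.A.W
end

-- part: MO/A/W/Main
section
/-!
# MO, twisted wreath products: `wrT` (helper37)

* `exists_wt` : the preimage of `Wr ι β` in a double cover is a twisted wreath product if the blocks have odd size;
* `wrT : SpinT → GlobT → GlobS → WrT`.
-/

set_option autoImplicit false
set_option linter.unusedSectionVars false

namespace Cfsg.Agent.MO.A.W

open Cfsg Subgroup Equiv

variable {ι β T : Type} [Fintype ι] [DecidableEq ι] [Fintype β] [DecidableEq β] [Group T] {P : T →* Perm (ι × β)} {z : T}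

theorem shear_inj (x : β) {σ σ' : Perm ι} {f f' : ι → Perm β} (h : (prodShear σ f : Perm (ι × β)) = prodShear σ' f') :
    σ = σ' ∧ f = f' :=
  ⟨Equiv.ext fun i => congrArg Prod.fst (Equiv.congr_fun h (i, x)),
    funext fun i => Equiv.ext fun y => congrArg Prod.snd (Equiv.congr_fun h (i, y))⟩

theorem shear_swap (i : ι) (x y : β) :
    (prodShear (1 : Perm ι) (Pi.mulSingle i (swap x y) : ι → Perm β) : Perm (ι × β)) = swap (i, x) (i, y) := by
  refine Equiv.ext fun ⟨j, u⟩ => ?_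
  change (j, (Pi.mulSingle i (swap x y) : ι → Perm β) j u) = _
  by_cases e : j = i
  · rw [e, Pi.mulSingle_eq_same]
    exact (Function.Injective.swap_apply (Prod.mk_right_injective i) x y u).symm
  · rw [Pi.mulSingle_eq_of_ne e, swap_apply_of_ne_of_ne (fun k => e (congrArg Prod.fst k)) fun k => e (congrArg Prod.fst k)]
    rfl

theorem exists_wt (h : Sc P z) (ho : Odd (Fintype.card β)) {x y : β} (hxy : x ≠ y) :
    ∃ (hz : z ∈ (Wr ι β).comap P) (π : (Wr ι β).comap P →* Perm ι) (a : (Wr ι β).comap P → ι → Perm β),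
      Wt ((Perm.sign.comp P).comp (Subgroup.subtype _)) ⟨z, hz⟩ π a Perm.sign (swap x y) ∧
        ∀ g : (Wr ι β).comap P, P g = prodShear (π g) (a g) := by
  have : Nonempty β := ⟨x⟩
  choose π a k using fun g : (Wr ι β).comap P => Syl.exists_shear g.2
  have k1 : ∀ g g', π (g * g') = π g * π g' ∧ a (g * g') = fun i => a g (π g' i) * a g' i := fun g g' =>
    shear_inj x (by rw [← k, coe_mul, map_mul, k, k]; exact Equiv.ext fun _ => rfl)
  refine ⟨by rw [mem_comap, h.map_z]; exact one_mem _, MonoidHom.mk' π fun g g' => (k1 g g').1, a,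
    ⟨fun g g' => congrFun (k1 g g').2, fun σ f => ?_, fun e => h.z_ne (congrArg Subtype.val e),
      fun g => Subtype.ext (h.z_comm g), fun g => ?_, fun g => ?_, fun g g' d => Subtype.ext ?_, Perm.sign_swap hxy,
      swap_mul_self x y, fun u i u1 u2 => Subtype.ext (h.sq u ⟨(i, x), (i, y), fun e => hxy (congrArg Prod.snd e), ?_⟩)⟩, k⟩
  · obtain ⟨g, hg⟩ := h.surj (prodShear σ f)
    have k2 : g ∈ (Wr ι β).comap P := by rw [mem_comap, hg]; exact Syl.shear_mem σ f
    exact ⟨⟨g, k2⟩, shear_inj x ((k ⟨g, k2⟩).symm.trans hg)⟩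
  · rw [Subtype.ext_iff, Subtype.ext_iff]
    refine Iff.trans ⟨fun e => ?_, fun e => shear_inj x ((k g).symm.trans e)⟩ (h.ker g)
    rw [k, show π g = 1 from e.1, e.2]
  · change Perm.sign (P g) = Perm.sign (π g) * _
    rw [k, show (prodShear (π g) (a g) : Perm (ι × β)) = prodCongrLeft (fun _ => π g) * prodCongrRight (a g) from rfl,
      map_mul, Perm.sign_prodCongrLeft, Perm.sign_prodCongrRight, Finset.prod_const, Finset.card_univ]
    rcases Int.units_eq_one_or (Perm.sign (π g)) with e | e <;> rw [e]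
    exacts [by rw [one_pow], by rw [ho.neg_one_pow]]
  · have k2 : ∀ (g : (Wr ι β).comap P) (v : ι × β), π g v.1 = v.1 ∧ a g v.1 = 1 → P g v = v := fun g v e => by
      rw [k]
      exact Prod.ext e.1 (Equiv.congr_fun e.2 v.2)
    rw [coe_mul, coe_mul, coe_mul, h.comm fun v => (d v.1).imp (k2 g v) (k2 g' v), ez, ez, apply_ite Subtype.val]
    rfl
  · rw [k, show π u = 1 from u1, u2, shear_swap]

/-- **box A5b** -/
theorem wrT (hT : SpinT) (hG : GlobT) (hS : GlobS) : WrT := by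
  intro p k n hp h2 h3 h4 T _ _ P z h l h1 hl
  have := Fact.mk hp
  rcases Nat.eq_zero_or_pos k with rfl | hk
  · have t := hT.ty hp h2 h h1 hl
    have : Subsingleton (Fin (p ^ 0)) := Fin.subsingleton_iff_le_one.2 (pow_zero p).le
    rw [Fintype.card_prod, Fintype.card_fin, Fintype.card_fin] at t
    rw [show (Wr (Fin n) (Fin (p ^ 0))).comap P = ⊤ from eq_top_iff.2 fun g _ u v =>
      ⟨fun e => congrArg Prod.fst ((P g).injective (Prod.ext e (Subsingleton.elim _ _))),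
        fun e => congrArg (fun u => (P g u).1) (Prod.ext e (Subsingleton.elim _ _))⟩]
    exact ⟨t.all, t.van⟩
  obtain ⟨x, y, hxy⟩ := Fin.nontrivial_iff_two_le.2 (Nat.one_lt_pow hk.ne' hp.one_lt)
  obtain ⟨hz, π, a, w, k1⟩ := exists_wt h (by rw [Fintype.card_fin]; exact (hp.odd_of_ne_two h2).pow) hxy
  let i₀ : Fin n := ⟨0, by omega⟩
  have h5 : Sc (w.a₀ i₀) ⟨_, w.z_Sp _ _⟩ := h.of_map
    (MonoidHom.mk' (fun σ => prodShear (1 : Perm (Fin n)) (Pi.mulSingle i₀ σ : Fin n → Perm (Fin (p ^ k)))) fun σ σ' => by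
      rw [Pi.mulSingle_mul]; rfl)
    (fun σ σ' e => Pi.mulSingle_injective i₀ (shear_inj x e).2) (Prod.mk i₀) (Prod.mk_right_injective i₀) (shear_swap i₀)
    ((Subgroup.subtype _).comp (Subgroup.subtype _)) (Subtype.val_injective.comp Subtype.val_injective)
    (fun m => (congrArg₂ prodShear (w.π_one m.2).symm (funext fun j => by
      by_cases e : j = i₀
      · rw [e, Pi.mulSingle_eq_same]; rfl
      · rw [Pi.mulSingle_eq_of_ne e, (m.2.1 j e).2])).trans (k1 m).symm) (w.a₀_surj i₀) rfl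
  have h6 := sc_nb hT h2 h5
  rw [Fintype.card_fin, (glob_pow hG h2 k).1, (glob_pow hG h2 k).2] at h6
  have h7 := w.count hT h2 i₀ h6.1 h6.2
  rw [Fintype.card_fin, (sum_lab hG hS h2 k h4).1, (sum_lab hG hS h2 k h4).2] at h7
  have t := (ty_iff _ Subtype.val_injective (range_subtype _) (Z := P.ker) (ζ := ⟨z, hz⟩) (z := z) rfl h.ker h1 hl).2 h7
  exact ⟨t.all, t.van⟩

end Cfsg.Agent.MO.A.W
end

-- part: MO/A/Row
section
/-!
# MO: the row of the alternating groups (helper78)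
-/

set_option autoImplicit false

namespace Cfsg.Agent.MO.A

open Cfsg Subgroup Cfsg.Agent.MO.S Cfsg.Agent.MO.TI Cfsg.Agent.ODD.Cv

theorem mb_two {n : ℕ} (hn : 4 ≤ n) (h6 : n ≠ 6) (h7 : n ≠ 7) : MB (alternatingGroup (Fin n)) 2 := by
  intro P _ _ hP π h1 h2
  have h3 := S0892.result n hn h6 h7 π.ker h2 (by rw [hP]; exact le_top)
    (QuotientGroup.quotientKerEquivOfSurjective π h1)
  have h4 : 0 < Nat.card π.ker := Nat.card_pos
  generalize Nat.card π.ker = k at h3 h4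
  interval_cases k
  · exact one_dvd _
  · exact dvd_rfl

theorem out_alt {n : ℕ} (hn : 4 ≤ n) (h6 : n ≠ 6) : Nat.card (Out (alternatingGroup (Fin n))) = 2 := by
  have h := S2119.result n hn h6
  have : Nontrivial (Fin n) := Fin.nontrivial_iff_two_le.2 (by omega)
  have h1 : (Inn (alternatingGroup (Fin n))).comap MulAut.conjNormal = alternatingGroup (Fin n) :=
    Subgroup.ext fun g => ⟨fun ⟨x, hx⟩ => (h.1 (MulAut.conjNormal_val.trans hx) : (x : Equiv.Perm (Fin n)) = g) ▸ x.2,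
      fun hg => ⟨⟨g, hg⟩, MulAut.conjNormal_val.symm⟩⟩
  exact (index_comap_of_surjective _ h.2).symm.trans ((congrArg index h1).trans alternatingGroup.index_eq_two)

theorem not_sq {p n : ℕ} (hp : p.Prime) (h : n < 2 * p) : ¬ p ^ 2 ∣ Nat.card (alternatingGroup (Fin n)) := fun e => by
  have h1 := e.trans (card_subgroup_dvd_card _)
  rw [Nat.card_perm, Nat.card_eq_fintype_card, Fintype.card_fin,
    hp.pow_dvd_factorial_iff (b := 2) (Nat.log_lt_of_lt_pow' two_ne_zero (by nlinarith [hp.two_le]))] at h1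
  have h2 : n / p < 2 := Nat.div_lt_of_lt_mul (by omega)
  simp at h1
  omega

/-- **the alternating groups** -/
theorem row_alt {p : ℕ} [hp : Fact p.Prime] (ae : AE p) (h2 : p ≠ 2) (hS : RowS) (hT : RowT)
    (dfn : Row1 p fun S _ => IsLieTypeChar p S) : Row1 p fun S _ => IsAlternating S := by
  rintro X _ _ ⟨n, hn, ⟨e⟩⟩ Γ s b
  have h3 : ∀ k, ¬ p ∣ 2 ^ k := fun k h => h2 ((Nat.prime_dvd_prime_iff_eq hp.out Nat.prime_two).1 (hp.out.dvd_of_dvd_pow h))
  by_cases h6 : n = 6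
  · subst h6
    have : Fact (Nat.Prime 3) := ⟨Nat.prime_three⟩
    have := Fintype.ofFinite (GaloisField 3 2)
    have h9 : Fintype.card (GaloisField 3 2) = 3 ^ 2 := by
      rw [← Nat.card_eq_fintype_card, GaloisField.card 3 2 two_ne_zero]
    obtain ⟨f⟩ := S0254.result h9
    by_cases h : 6 < 2 * p
    · obtain ⟨φ, h4, -, h5⟩ := S2602.result one_le_two h9 (by norm_num)
      refine one_of_not_sq ae s (e.trans f.symm) ?_ (Nat.card_congr f.toEquiv ▸ not_sq hp.out h)
      rw [← card_mul_index φ.ker, index_ker, MonoidHom.range_eq_top.2 h4, card_top, h5,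
        Nat.card_congr Multiplicative.toAdd, Nat.card_zmod]
      exact h3 2
    · obtain rfl : p = 3 := by have := hp.out.two_le; omega
      exact dfn X (.inl ⟨GaloisField 3 2, inferInstance, inferInstance, inferInstance, 2, le_rfl,
        fun _ => by rw [h9]; decide, ⟨e.trans f.symm⟩⟩) Γ s b
  by_cases h : n < 2 * p
  · exact one_of_not_sq ae s e (out_alt (by omega) h6 ▸ h3 1) (not_sq hp.out h)
  have h4 : Nat.card (center X) ∣ 2 := by
    by_cases h7 : n = 7
    · subst h7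
      obtain rfl : p = 3 := by have := hp.out.two_le; omega
      exact ((Nat.Prime.coprime_iff_not_dvd Nat.prime_three).2 s.cop).symm.dvd_of_dvd_mul_right
        (card_dvd s e (MB.of_cyc (S2116.result 7 (.inr rfl))))
    · exact card_dvd s e (mb_two (by omega) h6 h7)
  rcases (Nat.dvd_prime Nat.prime_two).1 h4 with h5 | h5
  · exact one_of_smC s e h5 (hS p n hp.out h2 (not_lt.1 h) h6)
  · exact one_of_smC s e h5 (hT p n hp.out h2 (not_lt.1 h) h6)

end Cfsg.Agent.MO.A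
end

-- part: MO/A/RowT
section
/-!
# MO, the small row of the double covers of the alternating groups (helper92)

* `sm_of_over` : the small row of a subgroup of index two of a group which induces the automorphisms;
* `smC_of_ty` : the row of `2.A_n` from an overgroup of the normaliser of a Sylow subgroup of `S_n`;
* `rowT_of : SpinT → GlobT → WrT → RowT`.
-/

set_option autoImplicit false

namespace Cfsg.Agent.MO.A

open Cfsg Subgroup Equiv Cfsg.Agent.MO.T Cfsg.Agent.MO.S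
open Cfsg.Agent.MK (Ov Fa)

variable {p : ℕ} {X T : Type} [Group X] [Group T]

/-- the automorphism which is induced by an element of an overgroup -/
theorem exists_aut (j : X →* T) (hj : Function.Injective j) [j.range.Normal] (t : T) :
    ∃ γ : MulAut X, ∀ x, j (γ x) = t * j x * t⁻¹ :=
  ⟨MulAut.congr (MonoidHom.ofInjective hj).symm (MulAut.conjNormal t), fun x =>
    congrArg Subtype.val ((MonoidHom.ofInjective hj).apply_symm_apply
      (MulAut.conjNormal t (MonoidHom.ofInjective hj x)))⟩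

/-- **the frame** : `X` has index two in `T`, and `H` contains the normaliser of a Sylow subgroup of `T` -/
theorem sm_of_over [Finite X] [Finite T] [Fact p.Prime] (h2 : p ≠ 2) (j : X →* T) (hj : Function.Injective j)
    (hi : j.range.index = 2) {Z : Subgroup T} (hZ : (center X).map j = Z) (hc : Z ≤ center T)
    (out : ∀ α : MulAut X, (∀ z ∈ center X, α z = z) → ∃ t : T, ∀ x, j (α x) = t * j x * t⁻¹) (Q : Sylow p T)
    {H : Subgroup T} (hN : normalizer ((Q : Subgroup T) : Set T) ≤ H) {n : ℕ} (ih : IH p n) (hn : Z.relIndex H < n)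
    (h : ∀ l : T → ℂ, Fl X (fun x => l (j x)) →
      kk p ⊤ Z l = kk p H Z l ∧ kk p j.range Z l = kk p (H ⊓ j.range : Subgroup T) Z l) : Sm p X := by
  subst hZ
  have := normal_of_index_eq_two hi
  have hQ : (Q : Subgroup T) ≤ j.range := fun x hx => by
    obtain ⟨m, hm⟩ := Q.isPGroup' ⟨x, hx⟩
    obtain ⟨k, hk⟩ := ((Fact.out : p.Prime).odd_of_ne_two h2).pow (n := m)
    have h1 : x ^ (2 * k + 1) = 1 := hk ▸ congrArg Subtype.val hm
    rw [pow_succ, pow_mul] at h1
    exact eq_inv_of_mul_eq_one_right h1 ▸ inv_mem (pow_mem (sq_mem_of_index_two hi x) k)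
  obtain ⟨g, hg, ho⟩ : ∃ g ∈ normalizer ((Q : Subgroup T) : Set T), g ∉ j.range := by
    by_contra h1
    have h3 := Q.normalizer_sup_eq_top' hQ
    rw [sup_eq_right.2 fun g hg => by_contra fun e => h1 ⟨g, hg, e⟩] at h3
    rw [h3, index_top] at hi
    omega
  obtain ⟨γ, hγ⟩ := exists_aut j hj g
  set N := normalizer ((Q : Subgroup T) : Set T)
  have zN : (center X).map j ≤ N := hc.trans (center_le_normalizer _)
  have zL : (center X).map j ≤ j.range := map_le_range _ _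
  have hc' : ∀ K : Subgroup T, ∀ z ∈ (center X).map j, ∀ k ∈ K, k * z = z * k := fun _ z hz k _ =>
    mem_center_iff.1 (hc hz) k
  have nd : ∀ K : Subgroup T, (Q : Subgroup T) ≤ K → ¬ p ∣ (Q : Subgroup T).relIndex K := fun K hK =>
    nd_of_dvd Q.not_dvd_index (relIndex_dvd_index_of_le hK)
  have hQH : (Q : Subgroup T) ≤ H := le_normalizer.trans hN
  have key : ∀ l : T → ℂ, Fl X (fun x => l (j x)) →
      kk p j.range ((center X).map j) l = kk p (N ⊓ j.range : Subgroup T) ((center X).map j) l ∧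
      fx p j.range ((center X).map j) l g = fx p (N ⊓ j.range : Subgroup T) ((center X).map j) l g := fun l hl => by
    obtain ⟨h3, h4⟩ := h l hl
    have e1 := ih.sub (K := H) zN hN (hc' _) hn hQH Q.isPGroup' (nd _ hQH) inf_le_right l
    have e2 := ih.sub (K := H ⊓ j.range) (H := N ⊓ j.range) (le_inf zN zL) (inf_le_inf_right _ hN) (hc' _)
      ((Nat.le_of_dvd (Nat.pos_of_ne_zero (H672.RM.rne _ _))
        ⟨_, (relIndex_mul_relIndex _ _ _ (le_inf (zN.trans hN) zL) inf_le_left).symm⟩).trans_lt hn)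
      (le_inf hQH hQ) Q.isPGroup' (nd _ (le_inf hQH hQ)) (le_inf inf_le_right (inf_le_left.trans inf_le_right)) l
    have e3 := kk_two (p := p) h2 le_top ((relIndex_top_right _).trans hi) (mem_top g) ho (hc' _) zL l
    have e4 := kk_two (p := p) h2 (inf_le_left : N ⊓ j.range ≤ N) (by
      rw [inf_relIndex_left]
      exact ((Nat.dvd_prime Nat.prime_two).1 (hi ▸ relIndex_dvd_index_of_normal _ _)).resolve_left fun e =>
        ho (relIndex_eq_one.1 e hg)) hg (fun e => ho e.2) (hc' _) (le_inf zN zL) l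
    (clear * - h3 h4 e1 e2 e3 e4; solve | lia | omega)
  have hm : (normalizer ((Q.comapOfInjective j hj hQ : Subgroup X) : Set X)).map j = N ⊓ j.range := by
    rw [Sylow.coe_comapOfInjective, ← comap_normalizer_eq_of_le_range hQ, map_comap_eq, inf_comm]
  have fin : ∀ α, α = 1 ∨ α = γ → ∀ l, Fa (center X) l →
      fB p ⊤ l α = fB p (normalizer ((Q.comapOfInjective j hj hQ : Subgroup X) : Set X)) l α := fun α hα l hl =>
    fB_eq_of_fl le_top (center_le_normalizer _) hl fun hl => by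
      obtain ⟨l', hl'⟩ := exists_lift j hj l
      obtain ⟨k1, k2⟩ := key l' (by rwa [funext hl'])
      rcases hα with rfl | rfl
      · rw [fB_one, fB_one, kk_eq_map j hj _ fun z _ => hl' z, kk_eq_map j hj _ fun z _ => hl' z, hm,
          ← MonoidHom.range_eq_map, k1]
      · rw [fB_eq_fx j hj _ (fun z _ => hl' z) hγ, fB_eq_fx j hj _ (fun z _ => hl' z) hγ, hm,
          ← MonoidHom.range_eq_map, k2]
  refine sm_of_pair γ (fun α hα => ?_) (Q.comapOfInjective j hj hQ) (fun x => ?_) (fun l hl => ?_) fun l hl => ?_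
  · obtain ⟨t, ht⟩ := out α hα
    by_cases h1 : t ∈ j.range
    · obtain ⟨x, rfl⟩ := h1
      exact ⟨x, Or.inl (MulEquiv.ext fun y => hj (by rw [ht, MulAut.conj_apply, map_mul, map_mul, map_inv]))⟩
    · obtain ⟨x, hx⟩ := (mul_mem_iff_of_index_two hi).2 (iff_of_false h1 fun e => ho (inv_mem_iff.1 e))
      exact ⟨x, Or.inr (MulEquiv.ext fun y => hj (by
        rw [ht, MulAut.mul_apply, MulAut.conj_apply, map_mul, map_mul, map_inv, hγ, hx]
        group))⟩
  · change j (γ x) ∈ (Q : Subgroup T) ↔ j x ∈ (Q : Subgroup T)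
    rw [hγ]
    exact (mem_normalizer_iff.1 hg _).symm
  · rw [← fB_one, ← fB_one]
    exact fin 1 (Or.inl rfl) l hl
  · rw [← fB_top]
    exact fin γ (Or.inr rfl) l hl

theorem fl_neg {l : X → ℂ} (h : Fl X l) {w : X} (hw : w ∈ center X) (h1 : w ≠ 1) (h2 : w * w = 1) : l w = -1 := by
  obtain ⟨μ, k1, k2⟩ := h
  have k3 : μ ⟨w, hw⟩ * μ ⟨w, hw⟩ = 1 := by rw [← map_mul, ← map_one μ]; exact congrArg μ (Subtype.ext h2)
  rw [k2 ⟨w, hw⟩]
  refine (mul_self_eq_one_iff.1 (by rw [← Units.val_mul, k3, Units.val_one])).resolve_left fun e => h1 ?_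
  exact congrArg Subtype.val (k1 ((Units.val_eq_one.1 e).trans (map_one μ).symm))

/-- **the row of `2.A_n` from one overgroup** -/
theorem smC_of_ty {α : Type} [Fintype α] [DecidableEq α] [Fact p.Prime] (hT : SpinT) (h2 : p ≠ 2) {n : ℕ}
    (hn : Fintype.card α = n) (h5 : 5 ≤ n) (h6 : n ≠ 6) {H : Subgroup (Perm α)} (hH : H ≠ ⊤)
    (hN : ∃ Q : Sylow p (Perm α), normalizer ((Q : Subgroup (Perm α)) : Set (Perm α)) ≤ H)
    (ty : ∀ (T : Type) [Group T] [Finite T] (P : T →* Perm α) (z : T), Sc P z → ∀ l : T → ℂ, l 1 = 1 → l z = -1 →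
      Ty p (Perm.sign.comp P) (fun L => Ov L P.ker l) (H.comap P) (sp p n) (sn p n)) :
    SmC p 2 (alternatingGroup (Fin n)) := by
  intro X _ _ φ c ih
  obtain ⟨Q, hN⟩ := hN
  obtain ⟨T, _, _, P, z, h⟩ := exists_sc α
  let e := Fintype.equivFinOfCardEq hn
  obtain ⟨u, k1, k2⟩ := (h.congr e).exists_equiv_cv h5 c
  let j : X →* T := (Subgroup.subtype _).comp u.toMonoidHom
  have hj : Function.Injective j := Subtype.val_injective.comp u.injective
  have hr : j.range = (Perm.sign.comp P).ker := by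
    rw [MonoidHom.range_comp, MonoidHom.range_eq_top.2 u.surjective, ← MonoidHom.range_eq_map, range_subtype]
    exact Subgroup.ext fun x => (Perm.sign_permCongr e (P x)).congr_left
  have : Nontrivial α := Fintype.one_lt_card_iff_nontrivial.1 (by omega)
  have hi : j.range.index = 2 := by
    rw [hr, ← MonoidHom.comap_ker, index_comap_of_surjective _ h.surj]
    exact alternatingGroup.index_eq_two
  have := normal_of_index_eq_two hi
  obtain ⟨w, hw⟩ : z ∈ j.range := by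
    rw [hr, MonoidHom.mem_ker, MonoidHom.comp_apply, h.map_z, map_one]
  have hZ : (center X).map j = P.ker := by
    ext x
    rw [h.mem_ker]
    constructor
    · rintro ⟨y, hy, rfl⟩
      exact ((k2 y).1 hy).imp (fun e => by rw [e, map_one]) id
    · rintro (rfl | rfl)
      · exact one_mem _
      · exact ⟨w, (k2 w).2 (Or.inr hw), hw⟩
  obtain ⟨R, rfl⟩ := Sylow.mapSurjective_surjective h.surj p Q
  obtain ⟨σ, s1, s2⟩ := Syl.exists_odd h2 (R.mapSurjective h.surj)
  obtain ⟨g, rfl⟩ := h.surj σ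
  refine sm_of_over h2 j hj hi hZ h.ker_le_center (fun β _ => ?_) R (H := H.comap P)
    (map_le_iff_le_comap.1 ((le_normalizer_map P).trans hN)) ih ?_ fun l hl => ?_
  · obtain ⟨δ, hδ⟩ := MK.T.exists_ind φ c.surj c.ker β
    obtain ⟨τ, rfl⟩ := (S2119.result n (by omega) h6).2 δ
    obtain ⟨t, rfl⟩ := (h.congr e).surj τ
    obtain ⟨γ, hγ⟩ := exists_aut j hj t
    refine ⟨t, fun x => ?_⟩
    rw [← hγ, inv_mul_eq_one.1 (MK.T.eq_one_of_ind φ c.ker c.perf (α := β⁻¹ * γ) fun y => ?_)]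
    refine (MulAut.conjNormal (((permCongrHom e).toMonoidHom.comp P) t)).injective (Subtype.ext ?_)
    rw [hδ, MulAut.mul_apply, MulAut.apply_inv_self, MulAut.conjNormal_apply, ← k1, ← k1, ← map_inv, ← map_mul,
      ← map_mul]
    exact congrArg _ (hγ y)
  · rw [← MonoidHom.comap_bot, relIndex_comap, map_comap_eq_self_of_surjective h.surj, relIndex_bot_left]
    refine (Syl.card_lt_alt hH (hN s1) s2).trans_eq (Nat.eq_of_mul_eq_mul_left two_pos ?_)
    have : Nontrivial (Fin n) := Fin.nontrivial_iff_two_le.2 (by omega)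
    rw [two_mul_nat_card_alternatingGroup, two_mul_nat_card_alternatingGroup, Nat.card_congr (permCongr e)]
  · have l1 : l 1 = 1 := map_one j ▸ hl.one
    have l2 : l z = -1 := hw ▸ fl_neg hl ((k2 w).2 (Or.inr hw)) (fun e => h.z_ne (by rw [← hw, e, map_one]))
      (hj (by rw [map_mul, hw, h.z_mul, map_one]))
    have t1 := hT.ty Fact.out h2 h l1 l2
    have t2 := ty T P z h l l1 l2
    have F : ∀ K : Subgroup T, P.ker ≤ K → Flt (fun L => Ov L P.ker l) (K ⊓ (Perm.sign.comp P).ker) K := fun K hK =>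
      (flt_ov (fun z hz x _ => mem_center_iff.1 (h.ker_le_center hz) x) l).mono
        (le_inf hK (hZ ▸ hr ▸ map_le_range _ _)) le_rfl
    have e1 := (t1.even h2 (F _ le_top) (mem_top g) s2).1
    have e2 := (t2.even h2 (F _ (ker_le_comap _ _)) (g := g) (hN s1) s2).1
    rw [hn] at t1 e1
    rw [top_inf_eq] at e1
    rw [hr]
    exact ⟨t1.all.trans t2.all.symm, e1.trans e2.symm⟩

theorem exists_digit (hp : 1 < p) {n : ℕ} (hn : p ≤ n) :
    ∃ k a r, 1 ≤ a ∧ a < p ∧ r < p ^ (k + 1) ∧ n = a * p ^ (k + 1) + r := by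
  obtain ⟨k, hk⟩ : ∃ k, Nat.log p n = k + 1 := Nat.exists_eq_succ_of_ne_zero (Nat.log_pos hp hn).ne'
  have h1 := Nat.pow_log_le_self p (show n ≠ 0 by omega)
  have h2 := Nat.lt_pow_succ_log_self hp n
  rw [hk] at h1 h2
  have h3 : 0 < p ^ (k + 1) := pow_pos (by omega) _
  exact ⟨k, n / p ^ (k + 1), n % p ^ (k + 1), (Nat.le_div_iff_mul_le h3).2 (by omega),
    Nat.div_lt_of_lt_mul (by rwa [← pow_succ]), Nat.mod_lt _ h3, (Nat.div_add_mod' _ _).symm⟩

/-- **box A5** -/
theorem rowT_of (hT : SpinT) (hG : GlobT) (hW : WrT) : RowT := by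
  intro p n hp h2 hn h6
  have := Fact.mk hp
  have h3 : 3 ≤ p := lt_of_le_of_ne hp.two_le h2.symm
  have W : ∀ k a, 2 ≤ a → a ≤ p → a * p ^ (k + 1) = n → SmC p 2 (alternatingGroup (Fin n)) := fun k a h4 h5 e => by
    have : Nontrivial (Fin a) := Fin.nontrivial_iff_two_le.2 h4
    have : Nontrivial (Fin (p ^ (k + 1))) := Fin.nontrivial_iff_two_le.2 (Nat.one_lt_pow k.succ_ne_zero hp.one_lt)
    refine smC_of_ty hT h2 (by simp only [e, _root_.Fintype.card_prod, _root_.Fintype.card_fin]) (by omega) h6 Syl.Wr_ne_top (Syl.sylW p (k + 1) a h4 h5)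
      fun T _ _ P z h l l1 l2 => ?_
    obtain ⟨k1, k2⟩ := hW p (k + 1) a hp h2 h4 h5 T P z h l l1 l2
    rw [e] at k1 k2
    exact ⟨k1, k2⟩
  obtain ⟨k, a, r, h4, h5, h7, e⟩ := exists_digit hp.one_lt (show p ≤ n by omega)
  rcases Nat.eq_zero_or_pos r with rfl | hr
  · rcases h4.eq_or_lt with rfl | h4
    · rcases k with _ | k
      · simp only [zero_add, pow_one] at e
        omega
      · exact W k p (by omega) le_rfl (by rw [e]; ring)
    · exact W k a h4 h5.le e.symm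
  · have : Nonempty (Fin r) := ⟨⟨0, hr⟩⟩
    have : Nonempty (Fin (a * p ^ (k + 1))) := ⟨⟨0, mul_pos h4 (pow_pos hp.pos _)⟩⟩
    refine smC_of_ty hT h2 (by simp [e]) (by omega) h6 Syl.Yg_ne_top (Syl.sylY p (k + 1) a r h5 h7)
      fun T _ _ P z h l l1 l2 => ?_
    have t := ty_young hT hp h2 h l1 l2
    obtain ⟨k1, k2⟩ := hG.young hp h2 h5 h7
    rwa [Fintype.card_fin, Fintype.card_fin, ← k1, ← k2, ← e] at t

end Cfsg.Agent.MO.A
end

-- part: MO/A/RS/Tp
section
/-!
# MO, alternating groups, local side: sign twists and tensor powers (helper67)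

* `tw s χ` : the product with a sign character; `cs p s` : the number of characters of `p'`-degree which are fixed;
* `Wr A κ` : the wreath product, `sw s t` : its sign characters;
* `tp φ` : the extension of `φ ⊗ ... ⊗ φ` to `Wr A κ` which is positive on the permutations; `tp_tw`.
-/

set_option autoImplicit false
set_option linter.unusedSectionVars false

namespace Cfsg.Agent.MO.A.RS

open Cfsg Subgroup Equiv Cfsg.Agent.Characters.Core Cfsg.Agent.H672 Cfsg.Agent.MO.T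
open scoped ComplexConjugate

section tw

variable {G D : Type} [Group G] [Group D] {p : ℕ}

/-- the product with a sign character -/
def tw (s : G →* ℤˣ) (χ : G → ℂ) : G → ℂ := fun g => ((s g : ℤ) : ℂ) * χ g

/-- the number of irreducible characters of `p'`-degree which vanish on the elements of sign `-1` -/
noncomputable def cs (p : ℕ) (s : G →* ℤˣ) : ℕ := Nat.card {χ : G → ℂ // PI p G χ ∧ ∀ g, s g = -1 → χ g = 0}

theorem tw_apply (s : G →* ℤˣ) (χ : G → ℂ) (g : G) : tw s χ g = ((s g : ℤ) : ℂ) * χ g := rfl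

theorem sgn_sq (u : ℤˣ) : ((u : ℤ) : ℂ) * ((u : ℤ) : ℂ) = 1 := by
  rcases Int.units_eq_one_or u with rfl | rfl <;> simp

theorem tw_tw (s : G →* ℤˣ) (χ : G → ℂ) : tw s (tw s χ) = χ :=
  funext fun g => by rw [tw_apply, tw_apply, ← mul_assoc, sgn_sq, one_mul]

theorem tw_one (s : G →* ℤˣ) (χ : G → ℂ) : tw s χ 1 = χ 1 := by simp [tw_apply]

theorem tw_irr (s : G →* ℤˣ) {χ : G → ℂ} (h : IsIrrCharacter G χ) : IsIrrCharacter G (tw s χ) :=
  ODD.Red.isIrr_lin_mul ((Units.map (Int.castRingHom ℂ).toMonoidHom).comp s) h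

theorem tw_pi (s : G →* ℤˣ) {χ : G → ℂ} (h : PI p G χ) : PI p G (tw s χ) :=
  ⟨tw_irr s h.1, by rw [ODD.Red.charDegree_congr (tw_one s χ)]; exact h.2⟩

theorem tw_eq_iff (s : G →* ℤˣ) (χ : G → ℂ) : tw s χ = χ ↔ ∀ g, s g = -1 → χ g = 0 := by
  rw [funext_iff]
  refine forall_congr' fun g => ?_
  rw [tw_apply]
  rcases Int.units_eq_one_or (s g) with h | h <;> rw [h]
  · simp
  · simp only [Units.val_neg, Units.val_one, Int.cast_neg, Int.cast_one, neg_mul, one_mul, true_imp_iff]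
    exact ⟨fun e => by linear_combination (-1 / 2 : ℂ) * e, fun e => by rw [e, neg_zero]⟩

theorem cs_eq (s : G →* ℤˣ) : cs p s = Nat.card {χ : G → ℂ // PI p G χ ∧ tw s χ = χ} :=
  card_iff fun χ _ => (tw_eq_iff s χ).symm

theorem cs_one {s : G →* ℤˣ} (h : ∀ g, s g = 1) : cs p s = k0 p G :=
  k0_eq_of fun _ _ g e => absurd ((h g).symm.trans e) (by decide)

theorem cs_congr (e : G ≃* D) {s : G →* ℤˣ} {s' : D →* ℤˣ} (h : ∀ g, s' (e g) = s g) : cs p s = cs p s' :=
  card_congr e fun χ _ => ⟨fun h1 y hy => by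
    obtain ⟨x, rfl⟩ := e.surjective y
    exact h1 x ((h x).symm.trans hy), fun h1 x hx => h1 _ ((h x).trans hx)⟩

theorem over_tw [Finite D] (h : D →* G) (s : G →* ℤˣ) {χ : G → ℂ} {ψ : D → ℂ} (ho : Over h χ ψ) :
    Over h (tw s χ) (tw (s.comp h) ψ) := by
  have := Fintype.ofFinite D
  rw [over_iff, classInner_def] at ho ⊢
  convert ho using 3 with x
  rw [Function.comp_apply, tw_apply, tw_apply, MonoidHom.comp_apply, map_mul, map_intCast, mul_mul_mul_comm, sgn_sq,
    one_mul, Function.comp_apply]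

end tw

/-- the wreath product -/
abbrev Wr (A κ : Type) [Group A] : Type := (κ → A) ⋊[mulAutArrow] Perm κ

section wr

variable {A κ : Type} [Group A]

theorem mul_left (v w : Wr A κ) (i : κ) : (v * w).left i = v.left i * w.left (v.right⁻¹ i) := rfl

theorem inv_left (v : Wr A κ) (i : κ) : (v⁻¹).left i = (v.left (v.right i))⁻¹ := rfl

instance finite_Wr [Finite A] [Finite κ] : Finite (Wr A κ) :=
  Finite.of_equiv _ SemidirectProduct.equivProd.symm

variable [Fintype κ] [DecidableEq κ]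

/-- the sign characters -/
def sw (s : A →* ℤˣ) (t : ℕ) : Wr A κ →* ℤˣ where
  toFun w := (∏ i, s (w.left i)) * Perm.sign w.right ^ t
  map_one' := by simp only [_root_.SemidirectProduct.one_left, _root_.Pi.one_apply, _root_.map_one, _root_.Finset.prod_const_one, _root_.SemidirectProduct.one_right, _root_.Equiv.Perm.sign_one, _root_.one_pow, _root_.mul_one]
  map_mul' v w := by
    simp only [mul_left, map_mul, Finset.prod_mul_distrib, SemidirectProduct.mul_right, mul_pow]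
    rw [Equiv.prod_comp v.right⁻¹ fun i => s (w.left i), mul_mul_mul_comm]

theorem sw_apply (s : A →* ℤˣ) (t : ℕ) (w : Wr A κ) : sw s t w = (∏ i, s (w.left i)) * Perm.sign w.right ^ t := rfl

/-- `Ψ` extends the tensor power of `φ` and is positive on the permutations -/
structure Tp (φ : A → ℂ) (Ψ : Wr A κ → ℂ) : Prop where
  chr : IsCharacter (Wr A κ) Ψ
  ext : ∀ b, Ψ (SemidirectProduct.inl b) = ∏ i, φ (b i)
  pos : ∀ σ, ∃ n : ℕ, n ≠ 0 ∧ Ψ (SemidirectProduct.inr σ) = n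

theorem exists_tp {φ : A → ℂ} (hφ : IsIrrCharacter A φ) : ∃ Ψ : Wr A κ → ℂ, Tp φ Ψ := by
  classical
  have h0 := isIrr_apply_one_ne_zero hφ
  obtain ⟨d, ρ, rfl⟩ := isIrr_isCharacter hφ
  let W : H29.TensorWr.Wr (Wr A κ) A κ :=
    ⟨SemidirectProduct.rightHom, fun g i => g.left (g.right i), fun _ => rfl, fun g h i => by
      rw [mul_left]
      simp⟩
  let M : A →* Matrix (Fin d) (Fin d) ℂ :=
    ((LinearMap.toMatrixAlgEquiv' : ((Fin d → ℂ) →ₗ[ℂ] (Fin d → ℂ)) ≃ₐ[ℂ] Matrix (Fin d) (Fin d) ℂ) :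
      ((Fin d → ℂ) →ₗ[ℂ] (Fin d → ℂ)) →* Matrix (Fin d) (Fin d) ℂ).comp ρ
  let R : Representation ℂ (Wr A κ) ((κ → Fin d) → ℂ) :=
    { toFun := fun g => Matrix.toLin' (H29.TensorWr.mat W M g)
      map_one' := by rw [H29.TensorWr.mat_one, Matrix.toLin'_one]; rfl
      map_mul' := fun g h => by rw [H29.TensorWr.mat_mul, Matrix.toLin'_mul]; rfl }
  have h1 : ∀ g, R.character g = (H29.TensorWr.mat W M g).trace := fun g => by
    change LinearMap.trace ℂ _ (Matrix.toLin' (H29.TensorWr.mat W M g)) = _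
    rw [Matrix.trace_toLin'_eq]
  refine ⟨R.character, isCharacter_of_rep R, fun b => ?_, fun σ => ?_⟩
  · rw [h1, H29.TensorWr.trace_mat W M rfl]
    refine Finset.prod_congr rfl fun i _ => ?_
    change (LinearMap.toMatrix' (ρ (b i))).trace = LinearMap.trace ℂ _ (ρ (b i))
    rw [← Matrix.trace_toLin'_eq, Matrix.toLin'_toMatrix']
  · have hd : d ≠ 0 := by
      rintro rfl
      exact h0 (by simp)
    refine ⟨(Finset.univ.filter fun x : κ → Fin d => ∀ i, x (σ i) = x i).card, Finset.card_ne_zero.2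
      ⟨fun _ => ⟨0, Nat.pos_of_ne_zero hd⟩, by simp only [_root_.Finset.mem_filter, _root_.Finset.mem_univ, _root_.implies_true, _root_.and_self]⟩, ?_⟩
    rw [h1, Matrix.trace, Finset.card_filter, Nat.cast_sum]
    refine Finset.sum_congr rfl fun x _ => ?_
    change ∏ i, M 1 (x (σ i)) (x i) = _
    simp only [map_one, Matrix.one_apply, Finset.prod_boole, Finset.mem_univ, true_imp_iff]
    split_ifs <;> simp

variable [Finite A]

theorem Tp.gal {φ : A → ℂ} (hφ : IsIrrCharacter A φ) {Ψ : Wr A κ → ℂ} (h : Tp φ Ψ) :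
    Gal SemidirectProduct.inl SemidirectProduct.rightHom Ψ fun b => ∏ i, φ (b i) :=
  ⟨SemidirectProduct.inl_injective, SemidirectProduct.rightHom_surjective,
    SemidirectProduct.range_inl_eq_ker_rightHom.symm, h.chr, H793.PC.isIrr_pi fun _ => hφ, h.ext⟩

theorem Tp.uniq {φ : A → ℂ} (hφ : IsIrrCharacter A φ) {Ψ Ψ' : Wr A κ → ℂ} (h : Tp φ Ψ) (h' : Tp φ Ψ') : Ψ' = Ψ := by
  obtain ⟨l, h1, h2⟩ := (h.gal hφ).lin (h'.gal hφ)
  funext w
  obtain ⟨a, ha, h3⟩ := h.pos w.right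
  obtain ⟨b, -, h4⟩ := h'.pos w.right
  have h5 := h2 (SemidirectProduct.inr w.right)
  have h6 := congrArg (· ^ Nat.card (Wr A κ)) h5
  simp only [mul_pow, ODD.Red.hom_pow_card, one_mul, h3, h4] at h6
  obtain rfl : b = a := Nat.pow_left_injective (Nat.card_pos (α := Wr A κ)).ne' (by exact_mod_cast h6)
  rw [h3, h4, eq_comm, mul_eq_right₀ (Nat.cast_ne_zero.2 ha)] at h5
  rw [h2, ← SemidirectProduct.inl_left_mul_inr_right w, map_mul, h1 _ rfl, one_mul, h5, one_mul]

variable (κ) in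
/-- the tensor power -/
noncomputable def tp (φ : A → ℂ) : Wr A κ → ℂ := Classical.epsilon (Tp φ)

omit [Finite A] in
theorem tp_spec {φ : A → ℂ} (hφ : IsIrrCharacter A φ) : Tp φ (tp κ φ) := Classical.epsilon_spec (exists_tp hφ)

theorem tp_tw (s : A →* ℤˣ) {φ : A → ℂ} (hφ : IsIrrCharacter A φ) : tp κ (tw s φ) = tw (sw s 0) (tp κ φ) := by
  refine Tp.uniq (tw_irr s hφ) ⟨isIrr_isCharacter (tw_irr _ ((tp_spec hφ).gal hφ).irr'), fun b => ?_, fun σ => ?_⟩
    (tp_spec (tw_irr s hφ))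
  · simp only [tw_apply, sw_apply, (tp_spec hφ).ext, Finset.prod_mul_distrib, _root_.SemidirectProduct.left_inl, _root_.SemidirectProduct.right_inl, _root_.Equiv.Perm.sign_one, _root_.pow_zero, _root_.mul_one, _root_.Units.coe_prod, _root_.Int.cast_prod]
  · simpa only [tw_apply, sw_apply, _root_.ne_eq, _root_.SemidirectProduct.left_inr, _root_.Pi.one_apply, _root_.map_one, _root_.Finset.prod_const_one, _root_.SemidirectProduct.right_inr, _root_.pow_zero, _root_.mul_one, _root_.Units.val_one, _root_.Int.cast_one, _root_.one_mul, _root_.Nat.exists_ne_zero, _root_.Nat.cast_add, _root_.Nat.cast_one] using (tp_spec hφ).pos σ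

end wr

end Cfsg.Agent.MO.A.RS
end

-- part: MO/A/RS/Wr
section
/-!
# MO, alternating groups, local side: the characters of wreath products with symmetric groups (helper67)

* `DD A m` : the product of the wreath products `A ≀ S_(m φ)`, `hu u` : its embedding, `ps c β` : its characters;
* `Lb p` : pairs of a number `k` and a character of `p'`-degree of `S_k`; `Rel c μ χ` : `μ` is the label of `χ`;
* `cs_wr` : the count of the characters of `p'`-degree of `A ≀ S_ι` which are fixed by a sign character.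
-/

set_option autoImplicit false
set_option maxHeartbeats 400000
set_option linter.unusedSectionVars false

namespace Cfsg.Agent.MO.A.RS

open Cfsg Subgroup Equiv Cfsg.Agent.Characters.Core Cfsg.Agent.H672 Cfsg.Agent.MO.T SemidirectProduct

theorem sign_sigma {α : Type} [Fintype α] [DecidableEq α] {β : α → Type} [∀ a, Fintype (β a)]
    [∀ a, DecidableEq (β a)] (x : ∀ a, Perm (β a)) : Perm.sign (Perm.sigmaCongrRight x) = ∏ a, Perm.sign (x a) := by
  refine (H663.GmnStep.hom_pi_apply (Perm.sign.comp (Perm.sigmaCongrRightHom β)) x).trans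
    (Finset.prod_congr rfl fun a _ => ?_)
  refine (Perm.sign_bij (fun k _ => (⟨a, k⟩ : Σ a, β a)) (fun k _ _ => ?_) (fun _ _ _ _ e => ?_) ?_).symm
  · simp
  · exact eq_of_heq (Sigma.mk.inj e).2
  · rintro ⟨b, k⟩ h
    by_cases e : b = a
    · subst e
      exact ⟨k, fun e => h (by simp [e]), rfl⟩
    · exact absurd (by simp [Pi.mulSingle_eq_of_ne e]) h

variable {A ι : Type} [Group A] [Finite A] [Fintype ι] [DecidableEq ι] {e : ℕ} {m : Fin e → ℕ}

/-- the product of the wreath products -/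
abbrev DD (A : Type) [Group A] (m : Fin e → ℕ) : Type := ∀ φ, Wr A (Fin (m φ))

section model

variable (u : (Σ φ, Fin (m φ)) ≃ ι)

/-- the embedding -/
def hu : DD A m →* Wr A ι where
  toFun x := ⟨fun i => (x (u.symm i).1).left (u.symm i).2, u.permCongr (Perm.sigmaCongrRight fun φ => (x φ).right)⟩
  map_one' := SemidirectProduct.ext rfl (Equiv.ext fun i => u.apply_symm_apply i)
  map_mul' x y := SemidirectProduct.ext (funext fun i => by
    obtain ⟨z, rfl⟩ := u.surjective i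
    change (fun z : Σ φ, Fin (m φ) => (x z.1 * y z.1).left z.2) (u.symm (u z)) =
      (fun z : Σ φ, Fin (m φ) => (x z.1).left z.2) (u.symm (u z)) *
      (fun z : Σ φ, Fin (m φ) => (y z.1).left z.2) (u.symm (u ((Equiv.sigmaCongrRight fun φ => (x φ).right).symm
        (u.symm (u z)))))
    rw [u.symm_apply_apply, u.symm_apply_apply]
    rfl) (Equiv.ext fun i => by simp)

theorem hu_left (x : DD A m) (φ : Fin e) (k : Fin (m φ)) : (hu u x).left (u ⟨φ, k⟩) = (x φ).left k := by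
  change (fun z : Σ φ, Fin (m φ) => (x z.1).left z.2) (u.symm (u _)) = _
  rw [u.symm_apply_apply]

theorem hu_right (x : DD A m) (φ : Fin e) (k : Fin (m φ)) : (hu u x).right (u ⟨φ, k⟩) = u ⟨φ, (x φ).right k⟩ := by
  change u (Perm.sigmaCongrRight (fun φ => (x φ).right) (u.symm (u _))) = _
  rw [u.symm_apply_apply]
  rfl

theorem wr_ext {v w : Wr A ι} (h1 : ∀ φ k, v.left (u ⟨φ, k⟩) = w.left (u ⟨φ, k⟩))
    (h2 : ∀ φ k, v.right (u ⟨φ, k⟩) = w.right (u ⟨φ, k⟩)) : v = w :=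
  SemidirectProduct.ext (funext (u.surjective.forall.2 fun z => h1 z.1 z.2))
    (Equiv.ext (u.surjective.forall.2 fun z => h2 z.1 z.2))

theorem hu_inj : Function.Injective (hu (A := A) u) := fun x y h => funext fun φ =>
  SemidirectProduct.ext (funext fun k => by rw [← hu_left u, h, hu_left]) (Equiv.ext fun k => by
    have h1 := hu_right u x φ k
    rw [h, hu_right, u.injective.eq_iff] at h1
    exact (eq_of_heq (Sigma.mk.inj h1).2).symm)

theorem mem_hu (g : Wr A ι) : g ∈ (hu u).range ↔ ∀ i, (u.symm (g.right i)).1 = (u.symm i).1 := by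
  constructor
  · rintro ⟨x, rfl⟩ i
    obtain ⟨⟨φ, k⟩, rfl⟩ := u.surjective i
    rw [hu_right, u.symm_apply_apply, u.symm_apply_apply]
  · intro h
    have h1 : ∀ φ (k : Fin (m φ)), ∃ k', g.right (u ⟨φ, k⟩) = u ⟨φ, k'⟩ := fun φ k => by
      obtain ⟨⟨φ', k'⟩, h2⟩ := u.surjective (g.right (u ⟨φ, k⟩))
      have h3 := h (u ⟨φ, k⟩)
      rw [← h2, u.symm_apply_apply, u.symm_apply_apply] at h3
      obtain rfl : φ' = φ := h3
      exact ⟨k', h2.symm⟩
    choose F hF using h1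
    have h2 : ∀ φ, Function.Bijective (F φ) := fun φ => Finite.injective_iff_bijective.1 fun a b hab => by
      have h3 := hF φ a
      rw [hab, ← hF, g.right.injective.eq_iff, u.injective.eq_iff] at h3
      exact eq_of_heq (Sigma.mk.inj h3).2
    exact ⟨fun φ => ⟨fun k => g.left (u ⟨φ, k⟩), Equiv.ofBijective _ (h2 φ)⟩,
      wr_ext u (fun φ k => hu_left u _ φ k) fun φ k => (hu_right u _ φ k).trans (hF φ k).symm⟩

/-- the base group -/
def nu : (ι → A) →* DD A m where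
  toFun b φ := inl fun k => b (u ⟨φ, k⟩)
  map_one' := rfl
  map_mul' _ _ := funext fun _ => map_mul (inl : _ →* Wr A _) _ _

theorem hu_nu (b : ι → A) : hu u (nu u b) = inl b :=
  wr_ext u (fun φ k => hu_left u _ φ k) fun φ k => hu_right u _ φ k

theorem hu_comp : (hu (A := A) u).comp (nu u) = inl := MonoidHom.ext (hu_nu u)

theorem hu_conj (u' : (Σ φ, Fin (m φ)) ≃ ι) (x : DD A m) :
    hu u' x = inr (u.symm.trans u') * hu u x * (inr (u.symm.trans u'))⁻¹ := by
  rw [eq_mul_inv_iff_mul_eq]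
  refine SemidirectProduct.ext (funext (u'.surjective.forall.2 fun z => ?_))
    (Equiv.ext (u.surjective.forall.2 fun z => ?_))
  · rw [mul_left, mul_left, hu_left u' x z.1 z.2, left_inr, right_inr, Pi.one_apply, Pi.one_apply, mul_one, one_mul,
      ← hu_left u x z.1 z.2]
    simp [Perm.inv_def]
  · rw [mul_right, mul_right, right_inr, Perm.mul_apply, Perm.mul_apply, hu_right u x z.1 z.2]
    simpa using hu_right u' x z.1 z.2

theorem sw_hu (s : A →* ℤˣ) (t : ℕ) (x : DD A m) : sw s t (hu u x) = ∏ φ, sw s t (x φ) := by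
  simp only [sw_apply, Finset.prod_mul_distrib, Finset.prod_pow]
  rw [← sign_sigma, ← Perm.sign_permCongr u, ← Equiv.prod_comp u, Fintype.prod_sigma]
  simp only [hu_left]
  rfl

theorem card_fib (φ : Fin e) : Nat.card {i // (u.symm i).1 = φ} = m φ := by
  rw [Nat.card_congr ((u.symm.subtypeEquiv (q := fun z => z.1 = φ) fun _ => Iff.rfl).trans (Equiv.sigmaSubtype φ)),
    Nat.card_eq_fintype_card, Fintype.card_fin]

include u in
theorem sum_eq : ∑ φ, m φ = Fintype.card ι := by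
  rw [← Fintype.card_congr u, Fintype.card_sigma]
  simp only [_root_.Fintype.card_fin]

end model

variable (A m) in
/-- the top group -/
def pu : DD A m →* ∀ φ, Perm (Fin (m φ)) where
  toFun x φ := (x φ).right
  map_one' := rfl
  map_mul' _ _ := rfl

theorem index_hu (u : (Σ φ, Fin (m φ)) ≃ ι) : (hu (A := A) u).range.index = Nat.multinomial Finset.univ m := by
  have h1 := (hu (A := A) u).range.index_mul_card
  rw [← Nat.card_congr (MonoidHom.ofInjective (hu_inj u)).toEquiv, Nat.card_pi, SemidirectProduct.card, Nat.card_perm,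
    Nat.card_fun, Nat.card_eq_fintype_card (α := ι), ← sum_eq u, ← Nat.multinomial_spec] at h1
  simp only [SemidirectProduct.card, Fintype.card_perm, Nat.card_fun, Nat.card_eq_fintype_card, Fintype.card_fin,
    Finset.prod_mul_distrib, Finset.prod_pow_eq_pow_sum] at h1
  refine Nat.eq_of_mul_eq_mul_right (Nat.mul_pos (pow_pos (Nat.card_pos (α := A)) (∑ φ, m φ))
    (Finset.prod_pos (s := Finset.univ) fun φ _ => (m φ).factorial_pos)) (h1.trans ?_)
  ring

variable (c : Fin e → A → ℂ)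

/-- the character of the base group -/
def th (u : (Σ φ, Fin (m φ)) ≃ ι) : (ι → A) → ℂ := fun b => ∏ i, c (u.symm i).1 (b i)

/-- its extension -/
noncomputable def Th (m : Fin e → ℕ) : DD A m → ℂ := fun x => ∏ φ, tp (Fin (m φ)) (c φ) (x φ)

/-- the characters of the inertia group -/
noncomputable def ps (β : ∀ φ, Perm (Fin (m φ)) → ℂ) : DD A m → ℂ := fun x => Th c m x * ∏ φ, β φ (pu A m x φ)

variable {c}

theorem th_iff (hc : ∀ φ, IsIrrCharacter A (c φ)) (hi : Function.Injective c) (f f' : ι → Fin e) (g : Wr A ι) :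
    (∀ x y : ι → A, (inl y : Wr A ι) = g * inl x * g⁻¹ → ∏ i, c (f' i) (x i) = ∏ i, c (f i) (y i)) ↔
      ∀ i, f (g.right i) = f' i := by
  have key : ∀ x y : ι → A, (inl y : Wr A ι) = g * inl x * g⁻¹ →
      ∏ i, c (f i) (y i) = ∏ i, c (f (g.right i)) (x i) := fun x y h => by
    rw [← Equiv.prod_comp g.right]
    refine Finset.prod_congr rfl fun i _ => ?_
    have h1 := congrFun (congrArg SemidirectProduct.left h) (g.right i)
    rw [left_inl, mul_left, mul_left, inv_left, mul_right, right_inl, mul_one, left_inl, Perm.inv_def,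
      Equiv.symm_apply_apply] at h1
    rw [h1, isIrr_isClassFunction (hc _)]
  refine ⟨fun h i => hi (congrFun (H663.GmnStep.pi_unique (A := fun _ => A) (f := fun i => c (f (g.right i)))
    (g := fun i => c (f' i)) (fun _ => hc _) (fun _ => hc _) fun x => ?_) i), fun h x y e => ?_⟩
  · obtain ⟨y, hy⟩ := (range_inl_eq_ker_rightHom.ge (MonoidHom.normal_ker _ |>.conj_mem _ rfl g) :
      g * inl x * g⁻¹ ∈ (inl : _ →* Wr A ι).range)
    rw [h x y hy, key x y hy]
  · rw [key x y e]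
    simp only [h]

section irr

variable (hc : ∀ φ, IsIrrCharacter A (c φ)) (u : (Σ φ, Fin (m φ)) ≃ ι)

include hc

theorem th_irr : IsIrrCharacter (ι → A) (th c u) := H793.PC.isIrr_pi fun _ => hc _

theorem gal : Gal (nu u) (pu A m) (Th c m) (th c u) where
  injn := Function.Injective.of_comp (f := hu u) fun x y h => inl_injective ((hu_nu u x).symm.trans (h.trans (hu_nu u y)))
  surj y := ⟨fun φ => inr (y φ), rfl⟩
  ker := le_antisymm (fun x hx => ⟨(hu u x).left, funext fun φ =>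
    SemidirectProduct.ext (funext fun k => hu_left u x φ k) (congrFun hx φ).symm⟩) (by rintro _ ⟨b, rfl⟩; rfl)
  chr := H793.PC.isCharacter_finset_prod Finset.univ (fun φ (x : DD A m) => tp (Fin (m φ)) (c φ) (x φ)) fun φ _ =>
    ODD.Red.isCharacter_comp' (Pi.evalMonoidHom (fun φ => Wr A (Fin (m φ))) φ) (tp_spec (hc φ)).chr
  irr := th_irr hc u
  ext b := by
    rw [th, ← Equiv.prod_comp u, Fintype.prod_sigma]
    refine Finset.prod_congr rfl fun φ _ => ((tp_spec (hc φ)).ext _).trans ?_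
    simp only [u.symm_apply_apply]

theorem inr' (hi : Function.Injective c) : Inr (nu u) (hu u) (th c u) where
  inj := hu_inj u
  injn := (gal hc u).injn
  nrm := by rw [hu_comp, range_inl_eq_ker_rightHom]; infer_instance
  irr := th_irr hc u
  stab g := by
    rw [mem_hu, ← th_iff hc hi (fun i => (u.symm i).1) (fun i => (u.symm i).1) g]
    simp only [hu_nu]
    exact forall₃_congr fun _ _ _ => eq_comm

variable {β : ∀ φ, Perm (Fin (m φ)) → ℂ} (hβ : ∀ φ, IsIrrCharacter _ (β φ))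

include hβ u

theorem ps_irr : IsIrrCharacter _ (ps c β) :=
  (gal hc u).mul (β := fun y => ∏ φ, β φ (y φ)) (H793.PC.isIrr_pi hβ)

theorem ps_ov : Over (nu u) (ps c β) (th c u) :=
  (gal hc u).ov (β := fun y => ∏ φ, β φ (y φ)) (H793.PC.isIrr_pi hβ)

theorem ps_deg : charDegree (ps c β) = (∏ i, charDegree (c (u.symm i).1)) * ∏ φ, charDegree (β φ) := by
  refine ODD.Red.charDegree_of ?_
  rw [ps, ← map_one (nu u), (gal hc u).ext, map_one, map_one]
  simp only [th, Pi.one_apply, Nat.cast_mul, Nat.cast_prod, coe_charDegree (hc _), coe_charDegree (hβ _)]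

theorem ov_base {χ : Wr A ι → ℂ} (hχ : IsIrrCharacter _ χ) (h : Over (hu u) χ (ps c β)) : Over inl χ (th c u) := by
  rw [← hu_comp u]
  exact (over_comp_iff _ _ (isIrr_isCharacter hχ) (th_irr hc u)).2 ⟨_, ps_irr hc u hβ, h, ps_ov hc u hβ⟩

end irr

/-! ### labels -/

section lab

variable {p : ℕ} [Fact p.Prime]

/-- a number `k` and a character of `p'`-degree of `S_k` -/
abbrev Lb (p : ℕ) : Type := Σ k : ℕ, {β : Perm (Fin k) → ℂ // PI p _ β}

/-- the product with a power of the sign -/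
def Lb.tw (t : ℕ) (x : Lb p) : Lb p := ⟨x.1, RS.tw (Perm.sign ^ t) x.2.1, tw_pi _ x.2.2⟩

variable (c) in
/-- `μ` is the label of `χ` -/
def Rel (μ : Fin e → Lb p) (χ : Wr A ι → ℂ) : Prop :=
  IsIrrCharacter _ χ ∧ ∃ u : (Σ φ, Fin (μ φ).1) ≃ ι, Over (hu u) χ (ps c fun φ => (μ φ).2.1)

variable (hc : ∀ φ, PI p A (c φ)) (hi : Function.Injective c)

include hc hi

theorem exists_rel (μ : Fin e → Lb p) (h : ∑ φ, (μ φ).1 = Fintype.card ι) : ∃ χ : Wr A ι → ℂ, Rel c μ χ := by
  obtain ⟨u⟩ : Nonempty ((Σ φ, Fin (μ φ).1) ≃ ι) := Fintype.card_eq.1 (by rw [← h, Fintype.card_sigma]; simp only [_root_.Fintype.card_fin])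
  obtain ⟨χ, h1, h2⟩ := (inr' (fun φ => (hc φ).1) u hi).up (ps_irr (fun φ => (hc φ).1) u fun φ => (μ φ).2.2.1)
  exact ⟨χ, h1, u, h2⟩

omit hc hi in
theorem ov_ch (u u' : (Σ φ, Fin (m φ)) ≃ ι) {χ : Wr A ι → ℂ} (hχ : IsIrrCharacter _ χ) {ψ : DD A m → ℂ}
    (h : Over (hu u') χ ψ) : Over (hu u) χ ψ := by
  have := Fintype.ofFinite (DD A m)
  rw [over_iff] at h ⊢
  convert h using 2
  exact funext fun x => by rw [Function.comp_apply, Function.comp_apply, hu_conj u u', isIrr_isClassFunction hχ]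

theorem Rel.eq {μ : Fin e → Lb p} {χ χ' : Wr A ι → ℂ} (h : Rel c μ χ) (h' : Rel c μ χ') : χ = χ' := by
  obtain ⟨h1, u, h2⟩ := h
  obtain ⟨h1', u', h2'⟩ := h'
  exact (inr' (fun φ => (hc φ).1) u hi).eq_of (ps_irr (fun φ => (hc φ).1) u fun φ => (μ φ).2.2.1)
    (ps_ov (fun φ => (hc φ).1) u fun φ => (μ φ).2.2.1) h1 h1' h2 (ov_ch u u' h1' h2')

theorem deg_of (u : (Σ φ, Fin (m φ)) ≃ ι) {β : ∀ φ, Perm (Fin (m φ)) → ℂ} (hβ : ∀ φ, IsIrrCharacter _ (β φ))
    {χ : Wr A ι → ℂ} (hχ : IsIrrCharacter _ χ) (h : Over (hu u) χ (ps c β)) :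
    PI p _ χ ↔ ¬ p ∣ Nat.multinomial Finset.univ m ∧ ∀ φ, PI p _ (β φ) := by
  have hp : Prime p := (Fact.out : p.Prime).prime
  rw [PI, and_iff_right hχ, (inr' (fun φ => (hc φ).1) u hi).deg (ps_irr (fun φ => (hc φ).1) u hβ)
    (ps_ov (fun φ => (hc φ).1) u hβ) hχ h, index_hu, ps_deg (fun φ => (hc φ).1) u hβ, nd_mul, nd_mul,
    hp.dvd_finsetProd_iff, hp.dvd_finsetProd_iff]
  exact and_congr_right fun _ => ⟨fun h φ => ⟨hβ φ, fun h1 => h.2 ⟨φ, Finset.mem_univ _, h1⟩⟩,
    fun h => ⟨fun ⟨_, _, h⟩ => (hc _).2 h, fun ⟨φ, _, h1⟩ => (h φ).2 h1⟩⟩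

theorem Rel.pi {μ : Fin e → Lb p} {χ : Wr A ι → ℂ} (h : Rel c μ χ) :
    PI p _ χ ↔ ¬ p ∣ Nat.multinomial Finset.univ fun φ => (μ φ).1 := by
  obtain ⟨h1, u, h2⟩ := h
  rw [deg_of hc hi u (fun φ => (μ φ).2.2.1) h1 h2, and_iff_left fun φ => (μ φ).2.2]

theorem inj_aux {m' : Fin e → ℕ} (u : (Σ φ, Fin (m φ)) ≃ ι) (u' : (Σ φ, Fin (m' φ)) ≃ ι)
    (β : ∀ φ, {β : Perm (Fin (m φ)) → ℂ // PI p _ β}) (β' : ∀ φ, {β : Perm (Fin (m' φ)) → ℂ // PI p _ β})
    {χ : Wr A ι → ℂ} (hχ : IsIrrCharacter _ χ) (h : Over (hu u) χ (ps c fun φ => (β φ).1))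
    (h' : Over (hu u') χ (ps c fun φ => (β' φ).1)) (φ : Fin e) : (⟨m φ, β φ⟩ : Lb p) = ⟨m' φ, β' φ⟩ := by
  have hc' := fun φ => (hc φ).1
  obtain ⟨g, hg⟩ := exists_conj inl_injective (by rw [range_inl_eq_ker_rightHom]; infer_instance) hχ (th_irr hc' u)
    (th_irr hc' u') (ov_base hc' u (fun φ => (β φ).2.1) hχ h) (ov_base hc' u' (fun φ => (β' φ).2.1) hχ h')
  have h1 := (th_iff hc' hi (fun i => (u.symm i).1) (fun i => (u'.symm i).1) g).1 hg
  obtain rfl : m' = m := funext fun φ => by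
    rw [← card_fib u, ← card_fib u']
    exact Nat.card_congr (g.right.subtypeEquiv fun i => by rw [h1])
  have h2 := (inr' hc' u hi).uniq (ps_irr hc' u fun φ => (β φ).2.1) (ps_irr hc' u fun φ => (β' φ).2.1)
    (ps_ov hc' u fun φ => (β φ).2.1) (ps_ov hc' u fun φ => (β' φ).2.1) hχ h (ov_ch u u' hχ h')
  have h3 := (gal hc' u).inj (β := fun y => ∏ φ, (β φ).1 (y φ)) (β' := fun y => ∏ φ, (β' φ).1 (y φ)) (congrFun h2)
  have h4 := H663.GmnStep.pi_unique (fun φ => (β φ).2.1) (fun φ => (β' φ).2.1) (congrFun h3)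
  rw [show β φ = β' φ from Subtype.ext (congrFun h4 φ)]

theorem Rel.inj {μ μ' : Fin e → Lb p} {χ : Wr A ι → ℂ} (h : Rel c μ χ) (h' : Rel c μ' χ) : μ = μ' := by
  obtain ⟨h1, u, h2⟩ := h
  obtain ⟨-, u', h2'⟩ := h'
  exact funext (inj_aux hc hi u u' (fun φ => (μ φ).2) (fun φ => (μ' φ).2) h1 h2 h2')

theorem exists_lab (hs : ∀ φ, PI p A φ → ∃ i, c i = φ) {χ : Wr A ι → ℂ} (hχ : PI p _ χ) :
    ∃ μ : Fin e → Lb p, Rel c μ χ := by
  have hc' := fun φ => (hc φ).1
  obtain ⟨θ, h1, h2⟩ := exists_under (f := inl) hχ.1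
  have h3 := nd_of_dvd hχ.2 (charDegree_dvd_of_over_hom _ inl_injective
    (by rw [range_inl_eq_ker_rightHom]; infer_instance) hχ.1 h1 h2).1
  obtain ⟨θ', h4, h5⟩ : ∃ θ' : ι → A → ℂ, (∀ i, IsIrrCharacter A (θ' i)) ∧ ∀ b, θ b = ∏ i, θ' i (b i) := by
    let v := Fintype.equivFin ι
    obtain ⟨f, k1, k2⟩ := H663.GmnStep.exists_pi_dep _ (fun _ => A) _
      (ODD.Red.isIrr_comp' (MulEquiv.arrowCongr v (MulEquiv.refl A)).symm.toMonoidHom
        (MulEquiv.arrowCongr v (MulEquiv.refl A)).symm.surjective h1)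
    refine ⟨fun i => f (v i), fun _ => k1 _, fun b => ?_⟩
    rw [← (MulEquiv.arrowCongr v (MulEquiv.refl A)).symm_apply_apply b]
    refine (k2 _).trans ((Equiv.prod_comp v _).symm.trans ?_)
    simp only [_root_.MulEquiv.arrowCongr_apply, _root_.Equiv.symm_apply_apply, _root_.MulEquiv.refl_apply, _root_.MulEquiv.symm_apply_apply]
  have h6 : charDegree θ = ∏ i, charDegree (θ' i) := ODD.Red.charDegree_of (by
    simp only [h5, Pi.one_apply, Nat.cast_prod, coe_charDegree (h4 _)])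
  choose f hf using fun i => hs (θ' i) ⟨h4 i, nd_of_dvd h3 (h6 ▸ Finset.dvd_prod_of_mem _ (Finset.mem_univ i))⟩
  let u : (Σ φ, Fin (Fintype.card {i // f i = φ})) ≃ ι :=
    (Equiv.sigmaCongrRight fun φ => (Fintype.equivFin _).symm).trans (Equiv.sigmaFiberEquiv f)
  have h7 : θ = th c u := funext fun b => (h5 b).trans (Finset.prod_congr rfl fun i _ => by rw [← hf]; rfl)
  rw [h7, ← hu_comp u] at h2
  obtain ⟨ψ, h8, h9, h10⟩ := (over_comp_iff _ _ (isIrr_isCharacter hχ.1) (th_irr hc' u)).1 h2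
  obtain ⟨β, h11, h12⟩ := (gal hc' u).all h8 h10
  obtain ⟨β', h13, h14⟩ := H663.GmnStep.exists_pi_dep _ _ β h11
  obtain rfl : ψ = ps c β' := funext fun x => by rw [h12, h14, ps]
  exact ⟨fun φ => ⟨_, β' φ, ((deg_of hc hi u h13 hχ.1 h9).1 hχ).2 φ⟩, hχ.1, u, h9⟩

omit hi in
theorem Rel.tw {s : A →* ℤˣ} {j : Fin e ≃ Fin e} (hj : ∀ φ, tw s (c (j φ)) = c φ) (t : ℕ) {μ : Fin e → Lb p}
    {χ : Wr A ι → ℂ} (h : Rel c μ χ) : Rel c (fun φ => (μ (j φ)).tw t) (tw (sw s t) χ) := by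
  obtain ⟨h1, u, h2⟩ := h
  let u' : (Σ φ, Fin (μ (j φ)).1) ≃ ι := (Equiv.sigmaCongrLeft (β := fun φ => Fin (μ φ).1) j).trans u
  let E : DD A (fun φ => (μ φ).1) ≃* DD A fun φ => (μ (j φ)).1 :=
    { (Equiv.piCongrLeft (fun φ => Wr A (Fin (μ φ).1)) j).symm with map_mul' := fun _ _ => rfl }
  refine ⟨tw_irr _ h1, u', (over_comp_equiv _ E _ _).1 ?_⟩
  have h3 : (hu u').comp E.toMonoidHom = hu u := MonoidHom.ext fun x => wr_ext u'
    (fun φ k => (hu_left u' _ φ k).trans (hu_left u x (j φ) k).symm)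
    fun φ k => (hu_right u' _ φ k).trans (hu_right u x (j φ) k).symm
  convert over_tw _ (sw s t) h2 using 1
  · exact h3
  funext x
  rw [tw_apply, MonoidHom.comp_apply, sw_hu, ps, Th, ← Equiv.prod_comp j, ← Equiv.prod_comp j fun φ => tp _ _ (x φ),
    ← Equiv.prod_comp j fun φ => (μ φ).2.1 (pu A _ x φ)]
  change (∏ φ, tp (Fin (μ (j φ)).1) (c φ) (x (j φ))) *
    ∏ φ, RS.tw (Perm.sign ^ t) (μ (j φ)).2.1 (x (j φ)).right = _
  simp only [Units.coe_prod, Int.cast_prod, ← Finset.prod_mul_distrib]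
  refine Finset.prod_congr rfl fun φ _ => ?_
  rw [← hj φ, tp_tw s (hc _).1]
  change _ = _ * (_ * (μ (j φ)).2.1 (x (j φ)).right)
  simp only [tw_apply, sw_apply, MonoidHom.pow_apply, pow_zero, mul_one, Units.val_mul, Int.cast_mul]
  ring

/-- **the count for wreath products** -/
theorem cs_wr (hs : ∀ φ, PI p A φ → ∃ i, c i = φ) {s : A →* ℤˣ} {j : Fin e ≃ Fin e}
    (hj : ∀ φ, tw s (c (j φ)) = c φ) (t : ℕ) :
    cs p (sw s t : Wr A ι →* ℤˣ) = Nat.card {μ : Fin e → Lb p // ∑ φ, (μ φ).1 = Fintype.card ι ∧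
      (¬ p ∣ Nat.multinomial Finset.univ fun φ => (μ φ).1) ∧ ∀ φ, (μ (j φ)).tw t = μ φ} := by
  rw [cs_eq]
  choose F hF using fun χ : {χ : Wr A ι → ℂ // PI p _ χ ∧ tw (sw s t) χ = χ} => exists_lab hc hi hs χ.2.1
  refine Nat.card_eq_of_bijective (fun χ => ⟨F χ, (hF χ).2.elim fun u _ => sum_eq u, ((hF χ).pi hc hi).1 χ.2.1,
    congrFun (((hF χ).tw hc hj t).inj hc hi (χ.2.2.symm ▸ hF χ))⟩) ⟨fun χ χ' h => ?_, fun μ => ?_⟩
  · have h1 : F χ = F χ' := congrArg Subtype.val h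
    exact Subtype.ext ((hF χ).eq hc hi (h1 ▸ hF χ'))
  · obtain ⟨χ, h⟩ := exists_rel (ι := ι) hc hi μ.1 μ.2.1
    have h1 := h.tw hc hj t
    rw [funext μ.2.2.2] at h1
    exact ⟨⟨χ, (h.pi hc hi).2 μ.2.2.1, h1.eq hc hi h⟩, Subtype.ext ((hF _).inj hc hi h)⟩

end lab

end Cfsg.Agent.MO.A.RS
end

-- part: MO/A/RS/Cnt
section
/-!
# MO, alternating groups, local side: the numbers for wreath products and direct products (helper67)

* `k0_wr`, `cs_wr_lt` : `A ≀ S_a` with `a < p`; `cs_wr_eq` : `A ≀ S_p`;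
* `cs_prod` : direct products.
-/

set_option autoImplicit false
set_option maxHeartbeats 400000
set_option linter.unusedSectionVars false

namespace Cfsg.Agent.MO.A.RS

open Cfsg Subgroup Equiv Finset Cfsg.Agent.Characters.Core Cfsg.Agent.MO.T

variable {p : ℕ} [Fact p.Prime]

theorem cs_sign (n : ℕ) : cs p (Perm.sign : Perm (Fin n) →* ℤˣ) = B p n := rfl

theorem k0_sub {G : Type} [Group G] [Finite G] [Subsingleton G] : k0 p G = 1 := by
  rw [k0_pgroup fun g => ⟨0, Subsingleton.elim _ _⟩, index_eq_one]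
  exact Subsingleton.elim _ _

theorem fib_lb (r : Lb p → Prop) (k : ℕ) : Nonempty ({x : Lb p // x.1 = k ∧ r x} ≃
    {β : Perm (Fin k) → ℂ // PI p _ β ∧ ∀ h, r ⟨k, β, h⟩}) :=
  ⟨{ toFun := fun x => match x with
      | ⟨⟨_, β⟩, rfl, h⟩ => ⟨β.1, β.2, fun _ => h⟩
     invFun := fun β => ⟨⟨k, β.1, β.2.1⟩, rfl, β.2.2 _⟩
     left_inv := by rintro ⟨⟨_, β⟩, rfl, h⟩; rfl
     right_inv := fun _ => rfl }⟩

theorem card_lb (k : ℕ) : Finite {x : Lb p // x.1 = k} ∧ Nat.card {x : Lb p // x.1 = k} = K p k := by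
  obtain ⟨u⟩ := fib_lb (p := p) (fun _ => True) k
  have := finite_pi (p := p) fun β : Perm (Fin k) → ℂ => ∀ _ : PI p _ β, True
  let v := (Equiv.subtypeEquivRight fun x : Lb p => (and_iff_left trivial).symm).trans u
  exact ⟨Finite.of_equiv _ v.symm, (Nat.card_congr v).trans (k0_eq_of fun _ _ _ => trivial)⟩

theorem card_lb_tw (t k : ℕ) : Finite {x : Lb p // x.1 = k ∧ x.tw t = x} ∧
    Nat.card {x : Lb p // x.1 = k ∧ x.tw t = x} = cs p (Perm.sign ^ t : Perm (Fin k) →* ℤˣ) := by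
  obtain ⟨u⟩ := fib_lb (p := p) (fun x => x.tw t = x) k
  have := finite_pi (p := p) fun β : Perm (Fin k) → ℂ => ∀ h : PI p _ β, Lb.tw t (⟨k, β, h⟩ : Lb p) = ⟨k, β, h⟩
  refine ⟨Finite.of_equiv _ u.symm, (Nat.card_congr u).trans ((card_iff fun β hβ => ?_).trans (cs_eq _).symm)⟩
  simp only [Lb.tw, Sigma.mk.injEq, heq_eq_eq, true_and, Subtype.mk.injEq]
  exact ⟨fun h => h hβ, fun h _ => h⟩

theorem lb_zero {x y : Lb p} (hx : x.1 = 0) (hy : y.1 = 0) : x = y :=
  congrArg Subtype.val (@Subsingleton.elim {x : Lb p // x.1 = 0}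
    (Nat.card_eq_one_iff_unique.1 ((card_lb 0).2.trans k0_sub)).1 ⟨x, hx⟩ ⟨y, hy⟩)

theorem Lb.tw_tw (t : ℕ) (x : Lb p) : (x.tw t).tw t = x :=
  Sigma.ext rfl (heq_of_eq (Subtype.ext (RS.tw_tw _ _)))

theorem Lb.tw_zero (x : Lb p) : x.tw 0 = x :=
  Sigma.ext rfl (heq_of_eq (Subtype.ext (funext fun g : Perm (Fin x.1) =>
    (tw_apply (Perm.sign ^ 0) x.2.1 g).trans (by simp))))

variable {e : ℕ}

theorem nd_multi {m : Fin e → ℕ} (h : ∑ φ, m φ < p) : ¬ p ∣ Nat.multinomial univ m := fun h1 => by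
  have h2 : p ∣ (∑ φ, m φ).factorial := Nat.multinomial_spec univ m ▸ h1.mul_left _
  exact h.not_ge ((Fact.out : p.Prime).dvd_factorial.1 h2)

theorem nd_multi_iff {m : Fin e → ℕ} (h : ∑ φ, m φ = p) :
    ¬ p ∣ Nat.multinomial univ m ↔ ∃ φ, m φ = p ∧ ∀ ψ, ψ ≠ φ → m ψ = 0 := by
  have hp : p.Prime := Fact.out
  have h1 := Nat.multinomial_spec univ m
  rw [h] at h1
  constructor
  · intro h2
    obtain ⟨φ, -, h3⟩ := (hp.prime.dvd_finsetProd_iff _).1
      ((hp.dvd_mul.1 (h1 ▸ hp.dvd_factorial.2 le_rfl)).resolve_right h2)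
    have h4 := hp.dvd_factorial.1 h3
    rw [← Finset.add_sum_erase _ _ (mem_univ φ)] at h
    exact ⟨φ, by omega, fun ψ hψ => Finset.sum_eq_zero_iff.1 (by omega : ∑ x ∈ univ.erase φ, m x = 0) ψ
      (mem_erase.2 ⟨hψ, mem_univ _⟩)⟩
  · rintro ⟨φ, h2, h3⟩
    rw [Finset.prod_eq_single φ (fun ψ _ hψ => by rw [h3 ψ hψ]; rfl) (by simp only [_root_.Finset.mem_univ, _root_.not_true_eq_false, _root_.Nat.factorial_eq_one, _root_.IsEmpty.forall_iff]), h2,
      mul_eq_left₀ p.factorial_ne_zero] at h1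
    rw [h1]
    exact nd_one

theorem sum_inv {j : Fin e ≃ Fin e} (hj : ∀ φ, j (j φ) = φ) {φ₀ : Fin e} (h0 : ∀ φ, j φ = φ ↔ φ = φ₀) (f : Fin e → ℕ)
    (hf : ∀ φ, f (j φ) = f φ) : ∑ φ, f φ = 2 * ∑ φ : {φ // φ < j φ}, f φ + f φ₀ := by
  have h1 : ∑ φ with j φ < φ, f φ = ∑ φ with φ < j φ, f φ :=
    Finset.sum_equiv j (fun φ => by simp only [hj, _root_.Finset.mem_filter, _root_.Finset.mem_univ, _root_.true_and]) fun φ _ => (hf φ).symm
  have h2 : (univ.filter fun φ => ¬ φ < j φ ∧ j φ < φ) = univ.filter fun φ => j φ < φ :=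
    filter_congr fun φ _ => and_iff_right_of_imp fun h => h.not_gt
  have h3 : (univ.filter fun φ => ¬ φ < j φ ∧ ¬ j φ < φ) = {φ₀} := by
    ext φ
    rw [mem_filter, mem_singleton, ← h0, not_lt, not_lt, ← le_antisymm_iff, and_iff_right (mem_univ _)]
  have h4 : ∑ φ with φ < j φ, f φ = ∑ φ : {φ // φ < j φ}, f φ := Finset.sum_subtype _ (by simp only [_root_.Finset.mem_filter, _root_.Finset.mem_univ, _root_.true_and, _root_.implies_true]) _
  rw [← Finset.sum_filter_add_sum_filter_not univ fun φ => φ < j φ,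
    ← Finset.sum_filter_add_sum_filter_not (univ.filter fun φ => ¬ φ < j φ) fun φ => j φ < φ, filter_filter,
    filter_filter, h2, h1, h3, sum_singleton, h4]
  ring

theorem card_pair {j : Fin e ≃ Fin e} (hj : ∀ φ, j (j φ) = φ) {φ₀ : Fin e} (h0 : ∀ φ, j φ = φ ↔ φ = φ₀) (t a : ℕ) :
    Nat.card {μ : Fin e → Lb p // ∑ φ, (μ φ).1 = a ∧ ∀ φ, (μ (j φ)).tw t = μ φ} =
      ∑ i ∈ range (a / 2 + 1), cp (K p) (e / 2) i * cs p (Perm.sign ^ t : Perm (Fin (a - 2 * i)) →* ℤˣ) := by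
  have h1 := sum_inv hj h0 (fun _ => 1) fun _ => rfl
  simp only [sum_const, card_univ, Fintype.card_fin, smul_eq_mul, mul_one] at h1
  let v : Fin (e / 2) ≃ {φ // φ < j φ} := (Fintype.equivFinOfCardEq (by omega)).symm
  have h2 := Glob.card_cp (K p) a (e / 2) (fun _ => Lb p) (fun _ x => x.1) fun _ k _ => card_lb k
  have h3 : ∀ k, Nonempty ({x : {x : Lb p // x.tw t = x} // x.1.1 = k} ≃ {x : Lb p // x.1 = k ∧ x.tw t = x}) :=
    fun k => ⟨(Equiv.subtypeSubtypeEquivSubtypeInter _ fun x : Lb p => x.1 = k).trans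
      (Equiv.subtypeEquivRight fun _ => and_comm)⟩
  have h4 := Glob.card_conv (fun ν : Fin (e / 2) → Lb p => ∑ i, (ν i).1) (fun x : {x : Lb p // x.tw t = x} => x.1.1)
    ((range (a / 2 + 1)).map ⟨fun i => (i, a - 2 * i), fun _ _ h => congrArg Prod.fst h⟩)
    (fun μ : {μ : Fin e → Lb p // ∑ φ, (μ φ).1 = a ∧ ∀ φ, (μ (j φ)).tw t = μ φ} =>
      (fun i => μ.1 (v i), ⟨μ.1 φ₀, by simpa only [(h0 _).2 rfl] using μ.2.2 φ₀⟩))
    (fun μ μ' h => Subtype.ext (funext fun φ => by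
      have k : ∀ φ, φ < j φ → μ.1 φ = μ'.1 φ := fun φ hφ => by
        simpa using congrFun (congrArg Prod.fst h) (v.symm ⟨φ, hφ⟩)
      rcases lt_trichotomy φ (j φ) with h5 | h5 | h5
      · exact k φ h5
      · rw [(h0 φ).1 h5.symm]
        exact congrArg (fun x => x.2.1) h
      · rw [← μ.2.2, ← μ'.2.2, k _ (by rwa [hj])]))
    (fun x => by
      constructor
      · rintro ⟨μ, rfl⟩
        have h5 := sum_inv hj h0 (fun φ => (μ.1 φ).1) fun φ => (congrArg Sigma.fst (μ.2.2 φ) :)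
        rw [μ.2.1, ← Equiv.sum_comp v] at h5
        refine mem_map.2 ⟨∑ i, (μ.1 (v i)).1, mem_range.2 (by omega), Prod.ext rfl ?_⟩
        show a - 2 * ∑ i, (μ.1 (v i)).1 = (μ.1 φ₀).1
        omega
      · intro hx
        obtain ⟨i₀, h5, h6⟩ := mem_map.1 hx
        have h5' := mem_range.1 h5
        have h6a : i₀ = ∑ i, (x.1 i).1 := congrArg Prod.fst h6
        have h6b : a - 2 * i₀ = x.2.1.1 := congrArg Prod.snd h6
        let μ : Fin e → Lb p := fun φ => if h : φ < j φ then x.1 (v.symm ⟨φ, h⟩) else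
          if h : j φ < φ then (x.1 (v.symm ⟨j φ, by rwa [hj]⟩)).tw t else x.2.1
        have k1 : ∀ i, μ (v i) = x.1 i := fun i => by simp [μ, (v i).2]
        have k2 : μ φ₀ = x.2.1 := by simp [μ, (h0 _).2 rfl]
        have k3 : ∀ φ, (μ (j φ)).tw t = μ φ := fun φ => by
          rcases lt_trichotomy φ (j φ) with h7 | h7 | h7
          · simp [μ, hj, h7, h7.not_gt, Lb.tw_tw]
          · rw [← h7, (h0 φ).1 h7.symm, k2, x.2.2]
          · simp [μ, hj, h7, h7.not_gt]
        have h7 := sum_inv hj h0 (fun φ => (μ φ).1) fun φ => (congrArg Sigma.fst (k3 φ) :)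
        rw [← Equiv.sum_comp v] at h7
        simp only [k1, k2] at h7
        exact ⟨⟨μ, by omega, k3⟩, Prod.ext (funext k1) (Subtype.ext k2)⟩)
    (fun x hx => by
      obtain ⟨i, hi, rfl⟩ := mem_map.1 hx
      exact (h2 i (by have := mem_range.1 hi; omega)).1)
    fun x _ => have := (card_lb_tw (p := p) t x.2).1; (h3 x.2).elim fun u => Finite.of_equiv _ u.symm
  rw [h4.2, sum_map]
  refine sum_congr rfl fun i hi => ?_
  obtain ⟨u⟩ := h3 (a - 2 * i)
  exact congrArg₂ _ (h2 i (by have := mem_range.1 hi; omega)).2 ((Nat.card_congr u).trans (card_lb_tw t _).2)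

theorem card_top (j : Fin e ≃ Fin e) (t : ℕ) :
    Nat.card {μ : Fin e → Lb p // ∑ φ, (μ φ).1 = p ∧ (¬ p ∣ Nat.multinomial univ fun φ => (μ φ).1) ∧
      ∀ φ, (μ (j φ)).tw t = μ φ} = Nat.card {φ // j φ = φ} * cs p (Perm.sign ^ t : Perm (Fin p) →* ℤˣ) := by
  have hp : p ≠ 0 := (Fact.out : p.Prime).ne_zero
  obtain ⟨x₀, hx⟩ : Nonempty {x : Lb p // x.1 = 0} := (Nat.card_eq_one_iff_unique.1 ((card_lb 0).2.trans k0_sub)).2
  rw [← (card_lb_tw t p).2, ← Nat.card_prod]
  have k1 : ∀ (φ : Fin e) (x : Lb p), x.1 = p → ∑ ψ, (Function.update (fun _ => x₀) φ x ψ).1 = p := fun φ x h => by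
    rw [Finset.sum_eq_single φ (fun ψ _ hψ => by rw [Function.update_of_ne hψ, hx]) (by simp only [_root_.Finset.mem_univ, _root_.not_true_eq_false, _root_.Function.update_self, _root_.IsEmpty.forall_iff]), Function.update_self, h]
  have k2 : ∀ (y : {φ // j φ = φ} × {x : Lb p // x.1 = p ∧ x.tw t = x}) (φ : Fin e),
      (Function.update (fun _ => x₀) y.1.1 y.2.1 (j φ) : Lb p).tw t = Function.update (fun _ => x₀) y.1.1 y.2.1 φ :=
    fun y φ => by
      by_cases h : φ = y.1.1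
      · rw [h, y.1.2, Function.update_self, y.2.2.2]
      · rw [Function.update_of_ne h, Function.update_of_ne fun h1 => h (j.injective (h1.trans y.1.2.symm))]
        exact lb_zero hx hx
  refine (Nat.card_eq_of_bijective (fun y => ⟨Function.update (fun _ => x₀) y.1.1 y.2.1, k1 _ _ y.2.2.1,
    (nd_multi_iff (k1 _ _ y.2.2.1)).2 ⟨y.1.1, by rw [Function.update_self, y.2.2.1], fun ψ hψ => by
      rw [Function.update_of_ne hψ, hx]⟩, k2 y⟩) ⟨fun y y' h => ?_, fun μ => ?_⟩).symm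
  · have h1 := congrFun (congrArg Subtype.val h) y.1.1
    dsimp only at h1
    rw [Function.update_self] at h1
    by_cases h2 : y.1.1 = y'.1.1
    · rw [h2, Function.update_self] at h1
      exact Prod.ext (Subtype.ext h2) (Subtype.ext h1)
    · rw [Function.update_of_ne h2] at h1
      exact absurd (y.2.2.1.symm.trans ((congrArg Sigma.fst h1).trans hx)) hp
  · obtain ⟨φ, h1, h2⟩ := (nd_multi_iff μ.2.1).1 μ.2.2.1
    have h3 : j φ = φ := by_contra fun h => hp (h1.symm.trans ((congrArg Sigma.fst (μ.2.2.2 φ)).symm.trans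
      (h2 (j φ) h)))
    refine ⟨(⟨φ, h3⟩, ⟨μ.1 φ, h1, by simpa only [h3] using μ.2.2.2 φ⟩), Subtype.ext (funext fun ψ => ?_)⟩
    by_cases h : ψ = φ
    · subst h
      exact Function.update_self ψ (μ.1 ψ) fun _ => x₀
    · exact (Function.update_of_ne h (μ.1 φ) fun _ => x₀).trans (lb_zero hx (h2 ψ h))

variable {A ι : Type} [Group A] [Finite A] [Fintype ι] [DecidableEq ι]

theorem exists_enum (s : A →* ℤˣ) : ∃ (c : Fin (k0 p A) → A → ℂ) (j : Fin (k0 p A) ≃ Fin (k0 p A)),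
    (∀ φ, PI p A (c φ)) ∧ Function.Injective c ∧ (∀ φ, PI p A φ → ∃ i, c i = φ) ∧ (∀ φ, tw s (c (j φ)) = c φ) ∧
      (∀ φ, j (j φ) = φ) ∧ Nat.card {φ // j φ = φ} = cs p s := by
  have := finite_pi' (p := p) (G := A)
  let v : {χ : A → ℂ // PI p A χ} ≃ Fin (k0 p A) := Finite.equivFin _
  let w : {χ : A → ℂ // PI p A χ} → {χ : A → ℂ // PI p A χ} := fun χ => ⟨tw s χ.1, tw_pi s χ.2⟩
  have hw : Function.Involutive w := fun χ => Subtype.ext (tw_tw s χ.1)
  refine ⟨fun i => (v.symm i).1, v.symm.trans (hw.toPerm.trans v), fun i => (v.symm i).2,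
    Subtype.val_injective.comp v.symm.injective, fun φ h => ⟨v ⟨φ, h⟩, congrArg Subtype.val (v.symm_apply_apply _)⟩, fun φ => ?_,
    fun φ => ?_, ?_⟩
  · show tw s (v.symm (v (w (v.symm φ)))).1 = _
    rw [v.symm_apply_apply]
    exact tw_tw s _
  · show v (w (v.symm (v (w (v.symm φ))))) = φ
    rw [v.symm_apply_apply, hw, v.apply_symm_apply]
  rw [cs_eq]
  refine Nat.card_congr ((v.symm.subtypeEquiv fun i => ?_).trans (Equiv.subtypeSubtypeEquivSubtypeInter _ _))
  show v (w (v.symm i)) = i ↔ _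
  rw [← v.eq_symm_apply, Subtype.ext_iff]

/-- **`A ≀ S_a`, `a < p`** -/
theorem k0_wr (h : Fintype.card ι < p) : k0 p (Wr A ι) = cp (K p) (k0 p A) (Fintype.card ι) := by
  obtain ⟨c, -, h1, h2, h3, -⟩ := exists_enum (p := p) (1 : A →* ℤˣ)
  rw [← cs_one (s := sw 1 0) fun g => by simp only [sw_apply, _root_.MonoidHom.one_apply, _root_.Finset.prod_const_one, _root_.pow_zero, _root_.mul_one],
    cs_wr h1 h2 h3 (j := Equiv.refl _) (fun φ => funext fun g => by simp [tw_apply]) 0,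
    ← (Glob.card_cp (K p) _ _ (fun _ => Lb p) (fun _ x => x.1) (fun _ k _ => card_lb k) _ le_rfl).2]
  exact Nat.card_congr (Equiv.subtypeEquivRight fun μ => ⟨fun h => h.1, fun h4 =>
    ⟨h4, nd_multi (h4 ▸ h), fun φ => Lb.tw_zero _⟩⟩)

theorem cs_wr_lt (h : Fintype.card ι < p) {s : A →* ℤˣ} (hs : cs p s = 1) : cs p (sw s 1 : Wr A ι →* ℤˣ) =
    ∑ i ∈ range (Fintype.card ι / 2 + 1), cp (K p) (k0 p A / 2) i * B p (Fintype.card ι - 2 * i) := by
  obtain ⟨c, j, h1, h2, h3, h4, h5, h6⟩ := exists_enum (p := p) s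
  obtain ⟨h7, ⟨φ₀, h8⟩⟩ := Nat.card_eq_one_iff_unique.1 (h6.trans hs)
  have h9 := card_pair (p := p) h5 (φ₀ := φ₀) (fun φ => ⟨fun h => congrArg Subtype.val (h7.elim ⟨φ, h⟩ ⟨φ₀, h8⟩),
    fun h => h ▸ h8⟩) 1 (Fintype.card ι)
  simp only [pow_one, cs_sign] at h9
  rw [cs_wr h1 h2 h3 h4 1, ← h9]
  exact Nat.card_congr (Equiv.subtypeEquivRight fun μ => and_congr_right fun h4 =>
    and_iff_right (nd_multi (h4 ▸ h)))

/-- **`A ≀ S_p`** -/
theorem cs_wr_eq (h : Fintype.card ι = p) (s : A →* ℤˣ) (t : ℕ) :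
    cs p (sw s t : Wr A ι →* ℤˣ) = cs p s * cs p (Perm.sign ^ t : Perm (Fin p) →* ℤˣ) := by
  obtain ⟨c, j, h1, h2, h3, h4, -, h6⟩ := exists_enum (p := p) s
  rw [cs_wr h1 h2 h3 h4 t, h, card_top, h6]

theorem k0_wr_eq (h : Fintype.card ι = p) : k0 p (Wr A ι) = k0 p A * K p p := by
  rw [← cs_one (s := sw 1 0) fun g => by simp only [sw_apply, _root_.MonoidHom.one_apply, _root_.Finset.prod_const_one, _root_.pow_zero, _root_.mul_one], cs_wr_eq h, cs_one fun _ => rfl, cs_one fun _ => by simp, K]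

/-- **direct products** -/
theorem cs_prod {G H : Type} [Group G] [Group H] [Finite G] [Finite H] (s : G →* ℤˣ) (s' : H →* ℤˣ)
    {r : G × H →* ℤˣ} (hr : ∀ x, r x = s x.1 * s' x.2) : cs p r = cs p s * cs p s' := by
  rw [cs_eq, cs_eq, cs_eq, ← Nat.card_prod]
  have dg : ∀ {φ : G → ℂ} {ψ : H → ℂ}, IsIrrCharacter G φ → IsIrrCharacter H ψ →
      charDegree (fun x : G × H => φ x.1 * ψ x.2) = charDegree φ * charDegree ψ := fun hφ hψ =>
    ODD.Red.charDegree_of (by rw [Nat.cast_mul, H672.coe_charDegree hφ, H672.coe_charDegree hψ]; rfl)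
  have un : ∀ {φ φ' : G → ℂ} {ψ ψ' : H → ℂ}, IsIrrCharacter G φ → IsIrrCharacter G φ' → IsIrrCharacter H ψ →
      IsIrrCharacter H ψ' → (∀ x : G × H, φ x.1 * ψ x.2 = φ' x.1 * ψ' x.2) → φ = φ' ∧ ψ = ψ' :=
    @fun φ φ' ψ ψ' h1 h2 h3 h4 h =>
    ⟨MK.A.eq_of_prop h1 h2 (isIrr_apply_one_ne_zero h3) (e := ψ' 1) fun g => (h (g, 1) :),
      MK.A.eq_of_prop h3 h4 (isIrr_apply_one_ne_zero h1) (e := φ' 1) fun g => by
        rw [mul_comm, mul_comm (ψ' g)]
        exact h (1, g)⟩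
  have tw' : ∀ (φ : G → ℂ) (ψ : H → ℂ) (x : G × H), tw r (fun x => φ x.1 * ψ x.2) x = tw s φ x.1 * tw s' ψ x.2 :=
    fun φ ψ x => by
      simp only [tw_apply, hr, Units.val_mul, Int.cast_mul]
      ring
  refine (Nat.card_eq_of_bijective (fun x => ⟨fun y => x.1.1 y.1 * x.2.1 y.2, ⟨S0188.isIrr_outer x.1.2.1.1 x.2.2.1.1,
    dg x.1.2.1.1 x.2.2.1.1 ▸ nd_mul' x.1.2.1.2 x.2.2.1.2⟩, funext fun y => by rw [tw', x.1.2.2, x.2.2.2]⟩)
    ⟨fun a b h => ?_, fun ⟨χ, h1, h2⟩ => ?_⟩).symm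
  · have h1 := un a.1.2.1.1 b.1.2.1.1 a.2.2.1.1 b.2.2.1.1 (congrFun (congrArg Subtype.val h))
    exact Prod.ext (Subtype.ext h1.1) (Subtype.ext h1.2)
  · obtain ⟨φ, ψ, hφ, hψ, rfl⟩ := (S0188.result χ).1 h1.1
    have h3 := h1.2
    rw [dg hφ hψ, nd_mul] at h3
    have h4 := un (tw_irr s hφ) hφ (tw_irr s' hψ) hψ fun x => (tw' φ ψ x).symm.trans (congrFun h2 x)
    exact ⟨(⟨φ, ⟨hφ, h3.1⟩, h4.1⟩, ⟨ψ, ⟨hψ, h3.2⟩, h4.2⟩), rfl⟩

end Cfsg.Agent.MO.A.RS
end

-- part: MO/A/RS/Main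
section
/-!
# MO, alternating groups, local side: the small row of `A_n` (helper67)

* `core`, `step` : a proper overgroup of the normaliser of a Sylow subgroup with the numbers of `S_n` is enough;
* `wrE`, `sign_wrE` : the wreath product as a permutation group;
* `rowS : RowS`.
-/

set_option autoImplicit false
set_option maxHeartbeats 400000
set_option linter.unusedSectionVars false

namespace Cfsg.Agent.MO.A.RS

open Cfsg Subgroup Equiv Finset Cfsg.Agent.MO.S Cfsg.Agent.MO.T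

variable {p : ℕ} [Fact p.Prime]

/-- the intersection, seen in the second group -/
def infE {G : Type} [Group G] (U A : Subgroup G) : U.subgroupOf A ≃* (U ⊓ A : Subgroup G) where
  toFun x := ⟨x.1.1, x.2, x.1.2⟩
  invFun y := ⟨⟨y.1, y.2.2⟩, y.2.1⟩
  left_inv _ := rfl
  right_inv _ := rfl
  map_mul' _ _ := rfl

theorem core (hp : p ≠ 2) {n : ℕ} (hn : 4 ≤ n) (h6 : n ≠ 6) (Q : Sylow p (Perm (Fin n))) {H : Subgroup (Perm (Fin n))}
    (hN : normalizer ((Q : Subgroup (Perm (Fin n))) : Set (Perm (Fin n))) ≤ H) (hH : H ≠ ⊤) (h1 : k0 p H = K p n)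
    (h2 : cs p (Perm.sign.comp H.subtype) = B p n) : SmC p 1 (alternatingGroup (Fin n)) := by
  have : Nontrivial (Fin n) := Fin.nontrivial_iff_two_le.2 (by omega)
  obtain ⟨g, hg, ho⟩ := Syl.exists_odd hp Q
  have hQ := Syl.le_alt hp Q.isPGroup'
  have hc := Syl.card_lt_alt hH (hN hg) ho
  have hA : ∀ x, x ∉ alternatingGroup (Fin n) ↔ Perm.sign x = -1 := fun x => by
    rw [Perm.mem_alternatingGroup]
    exact Int.units_ne_iff_eq_neg
  have hi : ∀ U : Subgroup (Perm (Fin n)), g ∈ U → (U ⊓ alternatingGroup (Fin n)).relIndex U = 2 := fun U hU => by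
    rw [inf_relIndex_left]
    refine ((Nat.dvd_prime Nat.prime_two).1 ?_).resolve_left fun e => (hA g).2 ho (relIndex_eq_one.1 e hU)
    exact alternatingGroup.index_eq_two (α := Fin n) ▸ relIndex_dvd_index_of_normal _ U
  have s1 : ∀ U : Subgroup (Perm (Fin n)), g ∈ U → 2 * k0 p (U.subgroupOf (alternatingGroup (Fin n))) =
      k0 p U + 3 * cs p (Perm.sign.comp U.subtype) := fun U hU => by
    have h := kk_sign hp inf_le_left (hi U hU) (Z := ⊥) (fun z hz u _ => by rw [mem_bot.1 hz, mul_one, one_mul]) bot_le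
      fun _ => 1
    rw [kk_bot _ rfl, kk_bot _ rfl] at h
    rw [k0_congr (infE _ _), h]
    congr 2
    refine card_iff fun χ _ => ⟨fun h u e => h.2 u fun e1 => (hA u).2 e e1.2, fun h => ⟨fun u hu => ?_, fun u hu =>
      h u ((hA u).1 fun e => hu ⟨u.2, e⟩)⟩⟩
    obtain rfl : u = 1 := Subtype.ext (mem_bot.1 hu)
    rw [one_mul]
  have s2 : ∀ U : Subgroup (Perm (Fin n)), g ∈ U → 2 * k0 p U = k0 p (U.subgroupOf (alternatingGroup (Fin n))) +
      3 * fN p (U.subgroupOf (alternatingGroup (Fin n))) (MulAut.conjNormal g) := fun U hU => by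
    rw [k0_congr (infE _ _), k0_two hp inf_le_left (hi U hU) hU fun e => (hA g).2 ho e.2]
    congr 2
    exact (card_congr (infE U _) fun ψ _ => ⟨fun h y y' e => h ((infE U _).symm y) ((infE U _).symm y') (Subtype.ext e),
      fun h y y' e => h _ _ (congrArg Subtype.val e)⟩).symm
  have t1 := s1 ⊤ trivial
  have t2 := s2 ⊤ trivial
  have t3 := s1 H (hN hg)
  have t4 := s2 _ hg
  rw [top_subgroupOf, k0_congr topEquiv, k0_congr topEquiv] at t1 t2
  rw [cs_congr topEquiv (s' := Perm.sign) fun _ => rfl, cs_sign] at t1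
  rw [fN_top] at t2
  rw [h1, h2, K] at t3
  refine smC_one_two (β := MulAut.conjNormal g) (fun γ => ?_) fun ih => ⟨Q.subtype hQ, fun y =>
    (mem_normalizer_iff.1 hg y.1).symm, ?_⟩
  · obtain ⟨σ, rfl⟩ := (S2119.result n hn h6).2 γ
    by_cases h : σ ∈ alternatingGroup (Fin n)
    · exact ⟨⟨σ, h⟩, Or.inl (MulAut.conjNormal_val (h := ⟨σ, h⟩))⟩
    · refine ⟨⟨σ * g⁻¹, by rw [Perm.mem_alternatingGroup, map_mul, (hA σ).1 h, Perm.sign_inv, ho]; rfl⟩, Or.inr ?_⟩
      rw [← MulAut.conjNormal_val, ← map_mul, inv_mul_cancel_right]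
  · have u1 := ih.k0_sub hc Q hN
    have u2 := ih.k0_sub (K := H.subgroupOf (alternatingGroup (Fin n))) ((Nat.card_congr (infE _ _).toEquiv).trans_lt
      ((card_le_of_le inf_le_left).trans_lt hc)) (Q.subtype hQ) (by
        rw [Sylow.coe_subtype, ← subgroupOf_normalizer_eq hQ]
        exact fun x hx => hN hx)
    rw [Sylow.coe_subtype, ← subgroupOf_normalizer_eq hQ] at u2 ⊢
    rw [h1, K] at u1
    (clear * - t1 t2 t3 t4 u1 u2; solve | lia | omega)

variable {α β γ : Type} [Fintype α] [DecidableEq α] [Fintype β] [DecidableEq β] [Fintype γ] [DecidableEq γ]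

theorem step (hp : p ≠ 2) {n : ℕ} (hn : 4 ≤ n) (h6 : n ≠ 6) (hc : Fintype.card α = n) {H : Subgroup (Perm α)}
    (hN : ∃ Q : Sylow p (Perm α), normalizer ((Q : Subgroup (Perm α)) : Set (Perm α)) ≤ H) (hH : H ≠ ⊤)
    {D : Type} [Group D] (e : D ≃* H) {s : D →* ℤˣ} (hs : ∀ d, Perm.sign (e d).1 = s d) (h1 : k0 p D = K p n)
    (h2 : cs p s = B p n) : SmC p 1 (alternatingGroup (Fin n)) := by
  obtain ⟨Q, hQ⟩ := hN
  let u := (Fintype.equivFinOfCardEq hc).symm
  obtain ⟨Q', -, h3⟩ := exists_sylow_congr (permCongrHom u) Q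
  let v := se (permCongrHom u) (H.comap (permCongrHom u).toMonoidHom) H fun _ => Iff.rfl
  refine core hp hn h6 Q' (H := H.comap (permCongrHom u).toMonoidHom) (fun x hx => hQ ((h3 x).1 hx))
    (fun h => hH (eq_top_iff.2 fun x _ => ?_)) ((k0_congr (v.trans e.symm)).trans h1)
    ((cs_congr (v.trans e.symm) fun x => ?_).trans h2)
  · obtain ⟨y, rfl⟩ := (permCongrHom u).surjective x
    exact (h ▸ mem_top y : y ∈ H.comap (permCongrHom u).toMonoidHom)
  · rw [← hs, MulEquiv.trans_apply, e.apply_symm_apply]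
    exact Perm.sign_permCongr u x.1

/-- the wreath product as a permutation group -/
def wrH (β γ : Type) : Wr (Perm γ) β →* MO.A.Wr β γ where
  toFun w := ⟨prodShear w.right fun i => w.left (w.right i), Syl.shear_mem _ _⟩
  map_one' := rfl
  map_mul' v w := Subtype.ext (Equiv.ext fun x => Prod.ext rfl (by
    show (v * w).left (v.right (w.right x.1)) x.2 = v.left (v.right (w.right x.1)) (w.left (w.right x.1) x.2)
    rw [mul_left, Perm.coe_inv, symm_apply_apply, Perm.mul_apply]))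

theorem wrH_bij [Nonempty γ] : Function.Bijective (wrH β γ) := by
  obtain ⟨x⟩ := id ‹Nonempty γ›
  refine ⟨(injective_iff_map_eq_one _).2 fun w h => ?_, fun σ => ?_⟩
  · have h1 := Equiv.congr_fun (congrArg Subtype.val h)
    have h2 : w.right = 1 := Equiv.ext fun i => congrArg Prod.fst (h1 (i, x))
    refine SemidirectProduct.ext (funext fun i => Equiv.ext fun y => ?_) h2
    have h3 : w.left (w.right i) y = y := congrArg Prod.snd (h1 (i, y))
    rwa [h2] at h3
  · obtain ⟨τ, f, h⟩ := Syl.exists_shear σ.2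
    refine ⟨⟨fun i => f (τ⁻¹ i), τ⟩, Subtype.ext (h.symm ▸ Equiv.ext fun y => Prod.ext rfl ?_)⟩
    show f (τ⁻¹ (τ y.1)) y.2 = f y.1 y.2
    rw [Perm.coe_inv, symm_apply_apply]

theorem sign_wrH (h : Odd (Fintype.card γ)) (w : Wr (Perm γ) β) : Perm.sign (wrH β γ w).1 = sw Perm.sign 1 w := by
  have h1 : (wrH β γ w).1 = (prodCongrRight w.left : Perm (β × γ)) * prodCongrLeft fun _ : γ => w.right :=
    Equiv.ext fun _ => rfl
  rw [h1, map_mul, Perm.sign_prodCongrRight, Perm.sign_prodCongrLeft, sw_apply, prod_const, card_univ, pow_one]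
  rcases Int.units_eq_one_or (Perm.sign w.right) with e | e <;> rw [e]
  · rw [one_pow]
  · rw [h.neg_one_pow]

theorem K_zero : K p 0 = 1 := k0_sub

theorem K_one : K p 1 = 1 := k0_sub

theorem B_zero : B p 0 = 1 := (cs_one fun g => by rw [Subsingleton.elim g 1, map_one]).trans k0_sub

theorem B_one : B p 1 = 1 := (cs_one fun g => by rw [Subsingleton.elim g 1, map_one]).trans k0_sub

theorem cp_zero : ∀ e, cp (K p) e 0 = 1
  | 0 => rfl
  | e + 1 => by simp [cp, cp_zero e, K_zero]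

theorem cp_one : ∀ e, cp (K p) e 1 = e
  | 0 => rfl
  | e + 1 => by simp [cp, Finset.Nat.antidiagonal_succ, cp_zero e, cp_one e, K_zero, K_one]

theorem glob0 (hp : p ≠ 2) (k : ℕ) {a : ℕ} (ha : a < p) : K p (a * p ^ k) = cp (K p) (p ^ k) a ∧
    B p (a * p ^ k) = ∑ j ∈ range (a / 2 + 1), cp (K p) (p ^ k / 2) j * B p (a - 2 * j) := by
  simpa only [add_zero, K_zero, B_zero, mul_one] using
    Glob.globS p k a 0 Fact.out hp ha (pow_pos (Fact.out : p.Prime).pos k)

theorem glob1 (hp : p ≠ 2) (k : ℕ) : K p (p ^ k) = p ^ k ∧ B p (p ^ k) = 1 := by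
  simpa only [cp_zero, cp_one, B_one, _root_.one_mul, _root_.Nat.reduceDiv, _root_.zero_add, _root_.Finset.range_one, _root_.Finset.sum_singleton, _root_.MulZeroClass.mul_zero, _root_.tsub_zero, _root_.mul_one] using glob0 hp k (Fact.out : p.Prime).one_lt

/-- **box A3** -/
theorem rowS : RowS := by
  intro p n hp h2 hn h6
  have : Fact p.Prime := ⟨hp⟩
  have h3 : 3 ≤ p := by have := hp.two_le; omega
  have h0 : n ≠ 0 := by omega
  obtain ⟨k, hk⟩ : ∃ k, Nat.log p n = k + 1 := Nat.exists_eq_succ_of_ne_zero (Nat.log_pos hp.one_lt (by omega)).ne'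
  have h4 := Nat.pow_log_le_self p h0
  have h5 := Nat.lt_pow_succ_log_self hp.one_lt n
  rw [hk] at h4 h5
  have hq : ∀ j, 0 < p ^ j := fun j => pow_pos hp.pos j
  have ha : n / p ^ (k + 1) < p := Nat.div_lt_of_lt_mul (by rwa [← pow_succ])
  have ha' : 0 < n / p ^ (k + 1) := Nat.div_pos h4 (hq _)
  have hr := Nat.mod_lt n (hq (k + 1))
  have hd := Nat.div_add_mod' n (p ^ (k + 1))
  generalize n / p ^ (k + 1) = a at ha ha' hd
  generalize n % p ^ (k + 1) = r at hr hd
  have W : ∀ a j, 2 ≤ a → a ≤ p → a * p ^ (j + 1) = n → k0 p (Wr (Perm (Fin (p ^ (j + 1)))) (Fin a)) = K p n →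
      cs p (sw Perm.sign 1 : Wr (Perm (Fin (p ^ (j + 1)))) (Fin a) →* ℤˣ) = B p n →
      SmC p 1 (alternatingGroup (Fin n)) := fun a j a1 a2 a3 =>
    have : Nontrivial (Fin a) := Fin.nontrivial_iff_two_le.2 a1
    have : Nontrivial (Fin (p ^ (j + 1))) := Fin.nontrivial_iff_two_le.2 (Nat.one_lt_pow j.succ_ne_zero hp.one_lt)
    step h2 (by omega) h6 (by simpa only [_root_.Fintype.card_prod, _root_.Fintype.card_fin] using a3) (Syl.sylW p _ a a1 a2) Syl.Wr_ne_top (MulEquiv.ofBijective _ wrH_bij)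
      (sign_wrH (by simpa using (hp.odd_of_ne_two h2).pow))
  rcases Nat.eq_zero_or_pos r with rfl | hr'
  · rw [add_zero] at hd
    rcases (Nat.succ_le_of_lt ha').eq_or_lt with h7 | h7
    · obtain rfl : a = 1 := h7.symm
      rcases k with _ | k
      · simp at hd
        omega
      · have h8 := glob1 h2 1
        rw [pow_one] at h8
        refine W p k hp.two_le le_rfl (by rw [← hd]; ring) ?_ ?_
        · rw [k0_wr_eq (Fintype.card_fin p), ← hd, one_mul, (glob1 h2 _).1, h8.1, pow_succ _ (k + 1)]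
          exact congrArg (· * p) (glob1 h2 _).1
        · rw [cs_wr_eq (Fintype.card_fin p), pow_one, cs_sign, cs_sign, ← hd, one_mul, (glob1 h2 _).2, (glob1 h2 _).2,
            h8.2]
    · have h8 : k0 p (Perm (Fin (p ^ (k + 1)))) = p ^ (k + 1) := (glob1 h2 _).1
      refine W a k h7 ha.le hd ?_ ?_
      · rw [k0_wr (by rwa [Fintype.card_fin]), h8, Fintype.card_fin, ← hd, (glob0 h2 _ ha).1]
      · rw [cs_wr_lt (by rwa [Fintype.card_fin]) (glob1 h2 _).2, h8, Fintype.card_fin, ← hd, (glob0 h2 _ ha).2]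
  · have : Nonempty (Fin (a * p ^ (k + 1))) := ⟨⟨0, Nat.mul_pos ha' (hq _)⟩⟩
    have : Nonempty (Fin r) := ⟨⟨0, hr'⟩⟩
    have h7 := Glob.globS p _ a r hp h2 ha hr
    rw [← (glob0 h2 _ ha).1, ← (glob0 h2 _ ha).2, hd] at h7
    let s : Perm (Fin (a * p ^ (k + 1))) × Perm (Fin r) →* ℤˣ := Perm.sign.comp (Perm.sumCongrHom _ _)
    refine step h2 (by omega) h6 (by simpa only [_root_.Fintype.card_sum, _root_.Fintype.card_fin] using hd) (Syl.sylY p _ a r ha hr) Syl.Yg_ne_top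
      (MonoidHom.ofInjective Perm.sumCongrHom_injective) (s := s) (fun _ => rfl) ?_ ?_
    · rw [← cs_one (s := 1) fun _ => rfl, cs_prod 1 1 fun _ => rfl, cs_one fun _ => rfl, cs_one fun _ => rfl, h7.1]
      rfl
    · rw [cs_prod Perm.sign Perm.sign fun x => Perm.sign_sumCongr x.1 x.2, h7.2]
      rfl

end Cfsg.Agent.MO.A.RS
end

-- part: MO/A/GT/Maya
section
/-!
# MO, box `GlobT`: Maya diagrams and counting tools (helper61)

A finite set `D` of integers is the set of the particles (`0 ≤ d`) and the holes (`d < 0`) of a Maya diagram.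

* `ch D`, `en D`, `wg D` : charge, energy, weight; `sh` : the shift; `Par` : the diagrams of charge `0`;
* `card_par` : there are `K p j` diagrams of charge `0` and weight `j < p`;
* `card_anti`, `card_cp`, `card_iff` : counting lemmas.
-/

set_option autoImplicit false

namespace Cfsg.Agent.MO.A.GT

open Finset

/-! ### counting lemmas -/

section count

variable {A B : Type}

theorem card_anti (u : A → ℕ) (v : B → ℕ) (q : ℕ → B → Prop) (a : ℕ) (hu : ∀ j ≤ a, Finite {x // u x = j})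
    (hv : ∀ j ≤ a, Finite {y // v y = j}) :
    Finite {z : A × B // u z.1 + v z.2 = a ∧ q (u z.1) z.2} ∧
    Nat.card {z : A × B // u z.1 + v z.2 = a ∧ q (u z.1) z.2} =
      ∑ x ∈ _root_.Finset.HasAntidiagonal.antidiagonal a, Nat.card {y // u y = x.1} * Nat.card {y // v y = x.2 ∧ q x.1 y} := by
  let e : {z : A × B // u z.1 + v z.2 = a ∧ q (u z.1) z.2} ≃
      Σ x : antidiagonal a, {y // u y = x.1.1} × {y // v y = x.1.2 ∧ q x.1.1 y} :=
    { toFun := fun z => ⟨⟨(u z.1.1, v z.1.2), mem_antidiagonal.2 z.2.1⟩, ⟨z.1.1, rfl⟩, ⟨z.1.2, rfl, z.2.2⟩⟩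
      invFun := fun z => ⟨(z.2.1.1, z.2.2.1), by rw [z.2.1.2, z.2.2.2.1]; exact ⟨mem_antidiagonal.1 z.1.2, z.2.2.2.2⟩⟩
      left_inv := fun _ => rfl
      right_inv := by
        rintro ⟨⟨⟨x, y⟩, h⟩, ⟨s, hs⟩, ⟨t, ht, h'⟩⟩
        simp only at hs ht
        subst hs ht
        rfl }
  have hf : ∀ x : antidiagonal a, Finite ({y // u y = x.1.1} × {y // v y = x.1.2 ∧ q x.1.1 y}) := fun x => by
    have h1 := mem_antidiagonal.1 x.2
    have := hu x.1.1 (by omega)
    have := hv x.1.2 (by omega)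
    have : Finite {y // v y = x.1.2 ∧ q x.1.1 y} :=
      Finite.of_injective (fun y => (⟨y.1, y.2.1⟩ : {y // v y = x.1.2})) fun y y' h =>
        Subtype.ext (congrArg (fun z : {y // v y = x.1.2} => z.1) h)
    infer_instance
  refine ⟨Finite.of_equiv _ e.symm, ?_⟩
  rw [Nat.card_congr e, Nat.card_sigma, ← Finset.sum_coe_sort (_root_.Finset.HasAntidiagonal.antidiagonal a)]
  simp only [Nat.card_prod]

theorem card_cp (u : A → ℕ) (f : ℕ → ℕ) (a : ℕ) (hu : ∀ j ≤ a, Finite {x // u x = j} ∧ Nat.card {x // u x = j} = f j)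
    (h : ℕ) : ∀ j ≤ a, Finite {μ : Fin h → A // ∑ i, u (μ i) = j} ∧
      Nat.card {μ : Fin h → A // ∑ i, u (μ i) = j} = cp f h j := by
  induction h with
  | zero =>
    intro j _
    refine ⟨inferInstance, ?_⟩
    simp only [cp, Finset.univ_eq_empty, Finset.sum_empty]
    split_ifs with h
    · subst h
      simp only [_root_.Nat.card_eq_fintype_card, _root_.Fintype.card_subtype_true, _root_.Fintype.card_unique]
    · have : IsEmpty {μ : Fin 0 → A // 0 = j} := ⟨fun μ => h μ.2.symm⟩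
      exact Nat.card_of_isEmpty
  | succ h ih =>
    intro j hj
    have h1 := card_anti u (fun μ : Fin h → A => ∑ i, u (μ i)) (fun _ _ => True) j (fun i hi => (hu i (hi.trans hj)).1)
      (fun i hi => (ih i (hi.trans hj)).1)
    let e : {μ : Fin (h + 1) → A // ∑ i, u (μ i) = j} ≃
        {z : A × (Fin h → A) // u z.1 + ∑ i, u (z.2 i) = j ∧ True} :=
      (Fin.consEquiv fun _ => A).symm.subtypeEquiv fun μ => by
        rw [Fin.sum_univ_succ, and_true]
        rfl
    have := h1.1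
    refine ⟨Finite.of_equiv _ e.symm, ?_⟩
    rw [Nat.card_congr e, h1.2, cp]
    refine Finset.sum_congr rfl fun x hx => ?_
    have h2 := mem_antidiagonal.1 hx
    rw [(hu x.1 (by omega)).2, ← (ih x.2 (by omega)).2]
    simp only [and_true]

theorem card_iff (g s : A → Prop) (g' t : B → Prop) [Finite {z : A × B // g z.1 ∧ g' z.2 ∧ (s z.1 ↔ t z.2)}] :
    Nat.card {z : A × B // g z.1 ∧ g' z.2 ∧ (s z.1 ↔ t z.2)} =
      Nat.card {y // g' y ∧ t y} * Nat.card {x // g x ∧ s x} +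
        Nat.card {y // g' y ∧ ¬ t y} * Nat.card {x // g x ∧ ¬ s x} := by
  classical
  let e : ({y // g' y ∧ t y} × {x // g x ∧ s x}) ⊕ ({y // g' y ∧ ¬ t y} × {x // g x ∧ ¬ s x}) ≃
      {z : A × B // g z.1 ∧ g' z.2 ∧ (s z.1 ↔ t z.2)} :=
    Equiv.ofBijective (Sum.elim (fun z => ⟨(z.2.1, z.1.1), z.2.2.1, z.1.2.1, iff_of_true z.2.2.2 z.1.2.2⟩)
      (fun z => ⟨(z.2.1, z.1.1), z.2.2.1, z.1.2.1, iff_of_false z.2.2.2 z.1.2.2⟩)) (by
        constructor
        · rintro (⟨⟨y, hy⟩, ⟨x, hx⟩⟩ | ⟨⟨y, hy⟩, ⟨x, hx⟩⟩) (⟨⟨y', hy'⟩, ⟨x', hx'⟩⟩ | ⟨⟨y', hy'⟩, ⟨x', hx'⟩⟩) h <;>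
            obtain ⟨rfl, rfl⟩ := Prod.mk.inj (congrArg Subtype.val h)
          · rfl
          · exact absurd hx.2 hx'.2
          · exact absurd hx'.2 hx.2
          · rfl
        · rintro ⟨⟨x, y⟩, h1, h2, h3⟩
          by_cases h : s x
          · exact ⟨.inl (⟨y, h2, h3.1 h⟩, ⟨x, h1, h⟩), rfl⟩
          · exact ⟨.inr (⟨y, h2, fun h' => h (h3.2 h')⟩, ⟨x, h1, h⟩), rfl⟩)
  have hf := Finite.of_equiv _ e.symm
  have h1 := @Finite.sum_left _ _ hf
  have h2 := @Finite.sum_right _ _ hf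
  rw [← Nat.card_congr e, Nat.card_sum, Nat.card_prod, Nat.card_prod]

end count

/-! ### Maya diagrams -/

/-- particles and holes -/
def sg (d : ℤ) : ℤ := if 0 ≤ d then 1 else -1

/-- the charge -/
def ch (D : Finset ℤ) : ℤ := ∑ d ∈ D, sg d

/-- the energy -/
def en (D : Finset ℤ) : ℤ := ∑ d ∈ D, sg d * d

/-- triangular numbers -/
def tri (c : ℤ) : ℤ := c * (c - 1) / 2

theorem two_tri (c : ℤ) : 2 * tri c = c * (c - 1) :=
  Int.mul_ediv_cancel' (even_iff_two_dvd.1 (Int.even_mul_pred_self c))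

/-- the weight -/
def wg (D : Finset ℤ) : ℤ := en D - tri (ch D)

/-- the shift -/
def sh : Equiv.Perm (Finset ℤ) where
  toFun D := symmDiff (D.map (Equiv.addRight 1).toEmbedding) {0}
  invFun D := (symmDiff D {0}).map (Equiv.addRight 1).symm.toEmbedding
  left_inv D := by
    ext x
    simp
  right_inv D := by
    simp only [Finset.map_map]
    rw [← Equiv.trans_toEmbedding, Equiv.symm_trans_self, Equiv.refl_toEmbedding, Finset.map_refl,
      symmDiff_symmDiff_cancel_right]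

theorem sum_sh (D : Finset ℤ) (g : ℤ → ℤ) : ∑ d ∈ sh D, sg d * g d = ∑ d ∈ D, sg d * g (d + 1) + g 0 := by
  have h1 : ∀ d, d ≠ -1 → sg (d + 1) = sg d := fun d hd => by
    unfold sg
    split_ifs <;> omega
  by_cases h : (-1 : ℤ) ∈ D
  · have e : sh D = (D.erase (-1)).map (Equiv.addRight 1).toEmbedding := by
      ext x
      simp only [sh, Equiv.coe_fn_mk, mem_symmDiff, mem_map_equiv, Equiv.addRight_symm, Equiv.coe_addRight,
        mem_singleton, mem_erase]
      by_cases hx : x = 0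
      · subst hx
        simp [h]
      · simp only [hx, not_false_eq_true, and_true, false_and, or_false, iff_and_self]
        omega
    rw [e, Finset.sum_map, ← Finset.add_sum_erase _ _ h]
    rw [Finset.sum_congr rfl (g := fun d => sg d * g (d + 1)) fun d hd => by
      simp only [Equiv.coe_toEmbedding, Equiv.coe_addRight, h1 d (mem_erase.1 hd).1]]
    simp only [sg, _root_.Int.reduceNeg, _root_.ite_mul, _root_.one_mul, _root_.neg_mul, _root_.Int.neg_nonneg, _root_.Int.reduceLE, ↓ _root_.reduceIte, _root_.neg_add_cancel, _root_.neg_add_cancel_comm]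
  · have e : sh D = insert 0 (D.map (Equiv.addRight 1).toEmbedding) := by
      ext x
      simp only [sh, Equiv.coe_fn_mk, mem_symmDiff, mem_map_equiv, Equiv.addRight_symm, Equiv.coe_addRight,
        mem_singleton, mem_insert]
      by_cases hx : x = 0
      · subst hx
        simp [h]
      · simp [hx]
    rw [e, Finset.sum_insert (by simpa using h), Finset.sum_map]
    rw [Finset.sum_congr rfl (g := fun d => sg d * g (d + 1)) fun d hd => by
      simp only [Equiv.coe_toEmbedding, Equiv.coe_addRight, h1 d (fun e => h (e ▸ hd))]]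
    simp only [sg, add_comm, _root_.Std.le_refl, ↓ _root_.reduceIte, _root_.one_mul, _root_.Int.reduceNeg, _root_.ite_mul, _root_.neg_mul]

theorem ch_sh (D : Finset ℤ) : ch (sh D) = ch D + 1 := by
  simpa only [mul_one, ch] using sum_sh D fun _ => 1

theorem wg_sh (D : Finset ℤ) : wg (sh D) = wg D := by
  have h1 : en (sh D) = en D + ch D := by
    have := sum_sh D id
    simpa only [id, mul_add, mul_one, add_zero, Finset.sum_add_distrib, en, ch] using this
  have h2 := two_tri (ch D)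
  have h3 := two_tri (ch D + 1)
  unfold wg
  rw [h1, ch_sh]
  linarith

theorem zpow_sh (z : ℤ) (D : Finset ℤ) : ch ((sh ^ z) D) = ch D + z ∧ wg ((sh ^ z) D) = wg D := by
  induction z using Int.induction_on with
  | zero => simp
  | succ i ih => rw [add_comm (i : ℤ), zpow_add, zpow_one, Equiv.Perm.mul_apply, ch_sh, wg_sh, ih.1, ih.2]; exact ⟨by ring, rfl⟩
  | pred i ih =>
    have e : (sh ^ (-(i : ℤ))) D = sh ((sh ^ (-(i : ℤ) - 1)) D) := by
      rw [← Equiv.Perm.mul_apply, ← zpow_one_add]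
      congr 2
      ring
    rw [e, ch_sh, wg_sh] at ih
    exact ⟨by linarith [ih.1], ih.2⟩

/-- the diagrams of charge zero -/
abbrev Par : Type := {D : Finset ℤ // ch D = 0}

/-- charge and shape -/
def spl : ℤ × Par ≃ Finset ℤ where
  toFun z := (sh ^ z.1) z.2.1
  invFun D := (ch D, ⟨(sh ^ (-ch D)) D, by rw [(zpow_sh _ _).1, add_neg_cancel]⟩)
  left_inv z := by
    have h : ch ((sh ^ z.1) z.2.1) = z.1 := by rw [(zpow_sh _ _).1, z.2.2, zero_add]
    refine Prod.ext h (Subtype.ext ?_)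
    simp only [h]
    rw [← Equiv.Perm.mul_apply, ← zpow_add, neg_add_cancel, zpow_zero, Equiv.Perm.one_apply]
  right_inv D := by
    simp only
    rw [← Equiv.Perm.mul_apply, ← zpow_add, add_neg_cancel, zpow_zero, Equiv.Perm.one_apply]

theorem ch_spl (z : ℤ × Par) : ch (spl z) = z.1 := by
  change ch ((sh ^ z.1) z.2.1) = _
  rw [(zpow_sh _ _).1, z.2.2, zero_add]

theorem wg_spl (z : ℤ × Par) : wg (spl z) = wg z.2.1 := (zpow_sh _ _).2

theorem even_card (D : Finset ℤ) : Even ((#D : ℤ) + ch D) := by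
  unfold ch
  rw [Finset.card_eq_sum_ones, Nat.cast_sum, ← Finset.sum_add_distrib]
  refine Finset.even_sum _ fun d _ => ?_
  unfold sg
  split_ifs <;> simp only [_root_.Nat.cast_one, _root_.Int.reduceAdd, _root_.even_two, _root_.Int.reduceNeg, _root_.add_neg_cancel, _root_.Even.zero]

theorem sum_ge (A : Finset ℤ) (h : ∀ a ∈ A, 0 ≤ a) : (#A : ℤ) * (#A - 1) ≤ 2 * ∑ a ∈ A, a := by
  induction A using Finset.induction_on_max with
  | empty => simp
  | insert a s ha ih =>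
    have h1 := ih fun b hb => h b (mem_insert_of_mem hb)
    have h2 : a ∉ s := fun e => lt_irrefl _ (ha a e)
    have h3 : (#s : ℤ) ≤ a := by
      have h4 : s ⊆ Ico 0 a := fun b hb => mem_Ico.2 ⟨h b (mem_insert_of_mem hb), ha b hb⟩
      have h5 := Finset.card_le_card h4
      rw [Int.card_Ico] at h5
      have := h a (mem_insert_self _ _)
      omega
    rw [Finset.card_insert_of_notMem h2, Finset.sum_insert h2]
    push_cast
    linarith

/-- the weight is at least the product of the numbers of particles and holes -/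
theorem wg_ge (D : Finset ℤ) : ∃ A B : ℕ, ch D = A - B ∧ (A : ℤ) * B ≤ wg D ∧ (B = 0 → ∀ d ∈ D, 0 ≤ d) := by
  have h1 := sum_ge (D.filter fun d => 0 ≤ d) fun a ha => (mem_filter.1 ha).2
  have h2 := sum_ge ((D.filter fun d => ¬ 0 ≤ d).image fun d => -1 - d) fun a ha => by
    obtain ⟨d, hd, rfl⟩ := mem_image.1 ha
    have := (mem_filter.1 hd).2
    omega
  have hi : Set.InjOn (fun d : ℤ => -1 - d) (D.filter fun d => ¬ 0 ≤ d) := fun a _ b _ h => by
    simp only at h
    omega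
  rw [Finset.card_image_of_injOn hi, Finset.sum_image hi, Finset.sum_sub_distrib, Finset.sum_const] at h2
  have h3 : ch D = #(D.filter fun d => 0 ≤ d) - #(D.filter fun d => ¬ 0 ≤ d) := by
    unfold ch sg
    rw [Finset.sum_ite]
    simp only [Finset.sum_const, nsmul_eq_mul]
    ring
  have h4 : en D = ∑ d ∈ D.filter (fun d => 0 ≤ d), d - ∑ d ∈ D.filter (fun d => ¬ 0 ≤ d), d := by
    unfold en sg
    simp only [ite_mul, one_mul, neg_mul]
    rw [Finset.sum_ite, Finset.sum_neg_distrib]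
    ring
  refine ⟨_, _, h3, ?_, fun h d hd => ?_⟩
  · have h5 := two_tri (ch D)
    unfold wg
    rw [h3] at h5
    rw [h4, h3]
    simp only [nsmul_eq_mul] at h2
    linarith
  · by_contra hc
    exact Finset.notMem_empty d (Finset.card_eq_zero.1 h ▸ mem_filter.2 ⟨hd, hc⟩)

theorem wg_nonneg (D : Finset ℤ) : 0 ≤ wg D := by
  obtain ⟨A, B, -, h, -⟩ := wg_ge D
  exact le_trans (by positivity) h

/-- the size of a diagram -/
def sz (μ : Par) : ℕ := (wg μ.1).toNat

theorem sz_cast (μ : Par) : (sz μ : ℤ) = wg μ.1 := Int.toNat_of_nonneg (wg_nonneg _)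

theorem card_beta (j : ℕ) : Nonempty ({β : Fin j → ℕ // StrictMono β ∧ ∑ i, β i = j + ∑ i : Fin j, (i : ℕ)} ≃
    {μ : Par // sz μ = j}) := by
  have h0 : ((∑ i : Fin j, (i : ℕ) : ℕ) : ℤ) = tri j := by
    have h1 := two_tri j
    have h2 := Finset.sum_range_id_mul_two j
    rw [Fin.sum_univ_eq_sum_range (fun i => i) j]
    rcases j with _ | j
    · rfl
    · rw [Nat.add_sub_cancel] at h2
      zify at h2 ⊢
      push_cast at h1
      linarith
  have h1 : ∀ β : Fin j → ℕ, StrictMono β → ∀ g : ℤ → ℤ,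
      ∑ d ∈ univ.image (fun i => (β i : ℤ)), sg d * g d = ∑ i, g (β i) := fun β hβ g => by
    rw [Finset.sum_image fun a _ b _ h => hβ.injective (by exact_mod_cast h)]
    exact Finset.sum_congr rfl fun i _ => by simp [sg]
  have h2 : ∀ β : Fin j → ℕ, StrictMono β → ch (univ.image fun i => (β i : ℤ)) = j ∧
      wg (univ.image fun i => (β i : ℤ)) = (∑ i, β i : ℕ) - tri j := fun β hβ => by
    have h3 : ch (univ.image fun i => (β i : ℤ)) = j := by simpa only [ch, _root_.mul_one, _root_.Finset.sum_const, _root_.Finset.card_univ, _root_.Fintype.card_fin, _root_.Int.nsmul_eq_mul] using h1 β hβ fun _ => 1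
    refine ⟨h3, ?_⟩
    unfold wg
    rw [h3]
    push_cast
    exact congrArg (· - _) (h1 β hβ id)
  refine ⟨Equiv.ofBijective (fun β => ⟨(spl.symm (univ.image fun i => (β.1 i : ℤ))).2, ?_⟩) ⟨fun β γ h => ?_, fun μ => ?_⟩⟩
  · zify
    rw [sz_cast, ← wg_spl, Equiv.apply_symm_apply, (h2 _ β.2.1).2, β.2.2, ← h0]
    push_cast
    ring
  · have h3 : (univ.image fun i => (β.1 i : ℤ)) = univ.image fun i => (γ.1 i : ℤ) :=
      spl.symm.injective (Prod.ext ((h2 _ β.2.1).1.trans (h2 _ γ.2.1).1.symm) (congrArg Subtype.val h))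
    refine Subtype.ext (funext fun i => ?_)
    have h4 : StrictMono fun i => (β.1 i : ℤ) := fun a b h => Int.ofNat_lt.2 (β.2.1 h)
    have h5 : StrictMono fun i => (γ.1 i : ℤ) := fun a b h => Int.ofNat_lt.2 (γ.2.1 h)
    have h6 := (h4.range_inj h5).1 (by
      rw [← Set.image_univ, ← Set.image_univ, ← Finset.coe_univ, ← Finset.coe_image, ← Finset.coe_image, h3])
    exact_mod_cast congrFun h6 i
  · set! D := spl (j, μ.1) with hD
    have h3 : ch D = j := ch_spl _
    have h4 : wg D = j := by rw [hD, wg_spl, ← sz_cast, μ.2]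
    obtain ⟨A, B, h5, h6, h7⟩ := wg_ge D
    have h8 : ∀ d ∈ D, 0 ≤ d := h7 (by
      by_contra hc
      have : (1 : ℤ) ≤ B := by omega
      nlinarith only [h3, h4, h5, h6, this])
    have h9 : #D = j := by
      have : ch D = #D := by
        unfold ch
        rw [Finset.sum_congr rfl (f := sg) (g := fun _ => 1) fun d hd => if_pos (h8 d hd)]
        simp
      omega
    have h10 : ∀ i, ((D.orderEmbOfFin h9 i).toNat : ℤ) = D.orderEmbOfFin h9 i := fun i =>
      Int.toNat_of_nonneg (h8 _ (D.orderEmbOfFin_mem h9 i))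
    have h11 : StrictMono fun i => (D.orderEmbOfFin h9 i).toNat := fun a b h => by
      zify
      rw [h10, h10]
      exact (D.orderEmbOfFin h9).strictMono h
    have h12 : (univ.image fun i => ((D.orderEmbOfFin h9 i).toNat : ℤ)) = D := by
      simp only [h10]
      exact D.image_orderEmbOfFin_univ h9
    refine ⟨⟨_, h11, ?_⟩, Subtype.ext ?_⟩
    · have h13 := (h2 _ h11).2
      rw [h12, h4, ← h0] at h13
      omega
    · simp only [h12]
      rw [hD, Equiv.symm_apply_apply]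

/-- **the number of diagrams of a given size** -/
theorem card_par {p j : ℕ} (hp : p.Prime) (hj : j < p) :
    Finite {μ : Par // sz μ = j} ∧ Nat.card {μ : Par // sz μ = j} = K p j := by
  obtain ⟨e⟩ := card_beta j
  have hc : Fintype.card (Fin j) = j := Fintype.card_fin j
  let f : {β : Fin j → ℕ // StrictMono β ∧ ∑ i, β i = j + ∑ i : Fin j, (i : ℕ)} ≃
      {χ : Equiv.Perm (Fin j) → ℂ // PI p (Equiv.Perm (Fin j)) χ} :=
    Equiv.ofBijective (fun β => ⟨H614.ch (Fin j) β.1, H614.isIrr_ch β.2.1 (by rw [hc]; exact β.2.2), fun h => by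
      have h1 := h.trans (Blocks.Knorr.charDegree_dvd (H614.isIrr_ch (α := Fin j) β.2.1 (by rw [hc]; exact β.2.2)))
      rw [Nat.card_eq_fintype_card, Fintype.card_perm, hc, hp.dvd_factorial] at h1
      omega⟩) ⟨fun β γ h => Subtype.ext (H614.ch_inj β.2.1 γ.2.1 (by rw [hc]; exact β.2.2) (congrArg Subtype.val h)),
        fun χ => by
          obtain ⟨β, h1, h2, h3⟩ := H614.irr_eq (m := j) hc.le χ.2.1
          exact ⟨⟨β, h1, by rw [hc] at h2; exact h2⟩, Subtype.ext h3.symm⟩⟩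
  have := T.finite_pi' (p := p) (G := Equiv.Perm (Fin j))
  exact ⟨Finite.of_equiv _ (f.symm.trans e), (Nat.card_congr (f.symm.trans e)).symm⟩

end Cfsg.Agent.MO.A.GT
end

-- part: MO/A/GT/Main
section
/-!
# MO, box `GlobT`: bar cores and bar quotients (helper61)

* `exists_dec` : a strict partition is given by the charges and the shapes of the runners of the bar abacus;
* `wt_dec` : the number of bars of length divisible by `q` depends on the size and the charges only;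
* `crit` : the strict partitions of `p'`-degree;
* `globT : GlobT`.
-/

set_option autoImplicit false

namespace Cfsg.Agent.MO.A.GT

open Finset Cfsg.Agent.H614.Spin
open Cfsg.Agent.H886.Spin (ee ee_comm ee_neg ee_shift ee_zero ec ec_cons wt_cons')

/-- strict partitions -/
abbrev SP : Type := {L : List ℤ // Strict L}

/-- finite sets of positive integers -/
abbrev PS : Type := {S : Finset ℤ // ∀ a ∈ S, 0 < a}

/-- the set of the parts -/
noncomputable def parts : SP ≃ PS :=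
  Equiv.ofBijective (fun L => ⟨L.1.toFinset, fun a ha => L.2.2 a (List.mem_toFinset.1 ha)⟩) ⟨fun L M h =>
    Subtype.ext (List.Perm.eq_of_pairwise (fun _ _ _ _ h1 h2 => absurd h1 (lt_asymm h2)) L.2.1 M.2.1
      (List.perm_of_nodup_nodup_toFinset_eq L.2.nodup M.2.nodup (congrArg Subtype.val h))), fun S =>
    ⟨⟨S.1.sort (· ≥ ·), ((S.1.pairwise_sort (· ≥ ·)).and (S.1.sort_nodup _)).imp fun h => lt_of_le_of_ne h.1 h.2.symm,
      fun a ha => S.2 a ((Finset.mem_sort _).1 ha)⟩, Subtype.ext (S.1.sort_toFinset _)⟩⟩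

theorem sum_parts (L : SP) (g : ℤ → ℤ) : (L.1.map g).sum = ∑ x ∈ (parts L).1, g x :=
  (List.sum_toFinset g L.2.nodup).symm

theorem finite_sp (n : ℤ) : Finite {L : SP // L.1.sum = n} := by
  refine Finite.of_injective (β := (Icc (1 : ℤ) n).powerset) (fun L => ⟨(parts L.1).1, mem_powerset.2 fun a ha => ?_⟩)
    fun L M h => Subtype.ext (parts.injective (Subtype.ext (Subtype.mk.inj h)))
  have h1 : a ∈ L.1.1 := List.mem_toFinset.1 ha
  exact mem_Icc.2 ⟨L.1.2.2 a h1, L.2 ▸ List.single_le_sum (fun c hc => (L.1.2.2 c hc).le) a h1⟩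

/-! ### the runners -/

variable {h : ℕ}

/-- the runners of the bar abacus -/
def emb (h : ℕ) : Option (Fin h) → ℤ → ℤ
  | none, t => (2 * h + 1) * t
  | some i, d => sg d * (i + 1 + (2 * h + 1) * d)

theorem small {e x y : ℤ} (h : x = e * y) (h1 : -e < x) (h2 : x < e) : y = 0 := by
  rcases lt_trichotomy y 0 with h3 | h3 | h3
  · nlinarith
  · exact h3
  · nlinarith

theorem emb_pos (i : Fin h) (d : ℤ) : 0 < emb h (some i) d := by
  have := i.2
  simp only [emb, sg]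
  split_ifs <;> nlinarith

theorem emb_inj : Function.Injective fun z : Σ _ : Option (Fin h), ℤ => emb h z.1 z.2 := by
  have k : ∀ (t d : ℤ) (i : Fin h), emb h none t ≠ emb h (some i) d := fun t d i e => by
    have := i.2
    simp only [emb, sg] at e
    split_ifs at e
    · have h1 := small (e := 2 * h + 1) (x := i + 1) (y := t - d) (by linarith only [e]) (by omega) (by omega)
      rw [show t = d by omega] at e
      omega
    · have h1 := small (e := 2 * h + 1) (x := i + 1) (y := -t - d) (by linarith only [e]) (by omega) (by omega)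
      rw [show t = -d by omega, mul_neg] at e
      omega
  rintro ⟨_ | i, d⟩ ⟨_ | j, d'⟩ e
  · obtain rfl : d = d' := mul_left_cancel₀ (by omega : (2 * h + 1 : ℤ) ≠ 0) e
    rfl
  · exact absurd e (k _ _ _)
  · exact absurd e.symm (k _ _ _)
  · have hi := i.2
    have hj := j.2
    have k' : (i : ℤ) + 1 + (2 * h + 1) * d = j + 1 + (2 * h + 1) * d' := by
      simp only [emb, sg] at e
      split_ifs at e
      · linarith only [e]
      · have h1 := small (e := 2 * h + 1) (x := i + j + 2) (y := -d - d') (by linarith only [e]) (by omega) (by omega)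
        rw [show d = -d' by omega, mul_neg] at e
        omega
      · have h1 := small (e := 2 * h + 1) (x := i + j + 2) (y := -d - d') (by linarith only [e]) (by omega) (by omega)
        rw [show d = -d' by omega, mul_neg] at e
        omega
      · linarith only [e]
    have h1 := small (e := 2 * h + 1) (x := i - j) (y := d' - d) (by linarith only [k']) (by omega) (by omega)
    obtain rfl : d = d' := by omega
    obtain rfl : i = j := Fin.ext (by omega)
    rfl

theorem emb_surj {x : ℤ} (hx : 0 < x) : ∃ o d, emb h o d = x := by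
  have h0 : (0 : ℤ) < 2 * h + 1 := by omega
  have h1 := Int.mul_ediv_add_emod x (2 * h + 1)
  have h2 := Int.emod_nonneg x h0.ne'
  have h3 := Int.emod_lt_of_pos x h0
  have h4 := Int.ediv_nonneg hx.le h0.le
  generalize x / (2 * h + 1) = d at *
  generalize x % (2 * h + 1) = r at *
  by_cases e : r = 0
  · exact ⟨none, d, by simp only [emb]; omega⟩
  by_cases e' : r ≤ h
  · refine ⟨some ⟨(r - 1).toNat, by omega⟩, d, ?_⟩
    simp only [emb, sg, if_pos h4]
    omega
  · refine ⟨some ⟨(2 * h - r).toNat, by omega⟩, -d - 1, ?_⟩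
    simp only [emb, sg, if_neg (show ¬ 0 ≤ -d - 1 by omega)]
    rw [show (((2 * h - r).toNat : ℕ) : ℤ) = 2 * h - r by omega]
    linarith

/-- the set with given runners -/
def asm (D : Option (Fin h) → Finset ℤ) : Finset ℤ := (univ.sigma D).image fun z => emb h z.1 z.2

theorem mem_asm (D : Option (Fin h) → Finset ℤ) (o : Option (Fin h)) (d : ℤ) : emb h o d ∈ asm D ↔ d ∈ D o := by
  unfold asm
  rw [emb_inj.mem_finset_image (a := ⟨o, d⟩), mem_sigma]
  simp only [_root_.Finset.mem_univ, _root_.true_and]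

theorem sum_asm (D : Option (Fin h) → Finset ℤ) (g : ℤ → ℤ) :
    ∑ x ∈ asm D, g x = ∑ t ∈ D none, g (emb h none t) + ∑ i, ∑ d ∈ D (some i), g (emb h (some i) d) := by
  unfold asm
  rw [Finset.sum_image fun a _ b _ e => emb_inj e, Finset.sum_sigma, Fintype.sum_option]

/-- the decomposition by the runners -/
noncomputable def asmE (h : ℕ) : (Fin h → Finset ℤ) × PS ≃ PS :=
  Equiv.ofBijective (fun z => ⟨asm fun o => o.elim z.2.1 z.1, fun a ha => by
    obtain ⟨⟨_ | i, d⟩, h1, rfl⟩ := mem_image.1 ha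
    · exact mul_pos (by omega) (z.2.2 d (mem_sigma.1 h1).2)
    · exact emb_pos i d⟩) ⟨fun z z' e => by
    have h1 : ∀ (o : Option (Fin h)) d, d ∈ o.elim z.2.1 z.1 ↔ d ∈ o.elim z'.2.1 z'.1 := fun o d => by
      rw [← mem_asm (fun o => o.elim z.2.1 z.1), ← mem_asm (fun o => o.elim z'.2.1 z'.1)]
      exact iff_of_eq ((congrArg (fun S : PS => emb h o d ∈ S.1) e :))
    exact Prod.ext (funext fun i => Finset.ext (h1 (some i))) (Subtype.ext (Finset.ext (h1 none))), fun S => by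
    have hi : ∀ o, Function.Injective (emb h o) := fun o d d' e =>
      eq_of_heq (Sigma.mk.inj (emb_inj (a₁ := ⟨o, d⟩) (a₂ := ⟨o, d'⟩) e)).2
    refine ⟨(fun i => S.1.preimage (emb h (some i)) (hi _).injOn, ⟨S.1.preimage (emb h none) (hi _).injOn,
      fun t ht => (mul_pos_iff_of_pos_left (by omega : (0 : ℤ) < 2 * h + 1)).1 ?_⟩), Subtype.ext (Finset.ext fun x => ⟨fun hx => ?_,
        fun hx => ?_⟩)⟩
    · exact S.2 _ (mem_preimage.1 ht)
    · obtain ⟨⟨_ | i, d⟩, h1, rfl⟩ := mem_image.1 hx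
      · exact (mem_preimage (hf := (hi _).injOn)).1 (mem_sigma.1 h1).2
      · exact (mem_preimage (hf := (hi _).injOn)).1 (mem_sigma.1 h1).2
    · obtain ⟨_ | i, d, rfl⟩ := emb_surj (h := h) (S.2 x hx)
      · exact (mem_asm _ _ _).2 ((mem_preimage (hf := (hi _).injOn)).2 hx)
      · exact (mem_asm _ _ _).2 ((mem_preimage (hf := (hi _).injOn)).2 hx)⟩

/-- odd and periodic functions -/
structure OP (e : ℤ) (g : ℤ → ℤ) : Prop where
  neg : ∀ x, g (-x) = -g x
  per : ∀ x r, e ∣ r → g (x - r) = g x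

/-- the size of the core with the charges `c` -/
def cs (c : Fin h → ℤ) : ℤ := ∑ i, ((i + 1) * c i + (2 * h + 1) * tri (c i))

theorem cs_nonneg (c : Fin h → ℤ) : 0 ≤ cs c := Finset.sum_nonneg fun i _ => by
  have h1 := two_tri (c i)
  have h2 : ((i : ℕ) : ℤ) < h := by exact_mod_cast i.2
  have h3 : (0 : ℤ) ≤ (i : ℕ) := Int.natCast_nonneg _
  rcases lt_trichotomy (c i) 0 with h4 | h4 | h4
  · have h5 : -c i ≤ tri (c i) := by nlinarith only [h1, h4]
    nlinarith only [h2, h4, h5]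
  · simp [h4, tri]
  · have h5 : 0 ≤ tri (c i) := by nlinarith only [h1, h4]
    nlinarith only [h4, h5]

/-- **charges and bar quotient** -/
theorem exists_dec (h : ℕ) : ∃ Φ : (Fin h → ℤ) × (Fin h → Par) × SP ≃ SP, ∀ c μ T,
    (Φ (c, μ, T)).1.sum = (2 * h + 1) * (∑ i, sz (μ i) + T.1.sum) + cs c ∧
    Even (((Φ (c, μ, T)).1.length : ℤ) + T.1.length + ∑ i, c i) ∧
    ∀ g, OP (2 * h + 1) g → ((Φ (c, μ, T)).1.map g).sum = ∑ i, c i * g (i + 1) := by
  let Φ : (Fin h → ℤ) × (Fin h → Par) × SP ≃ SP := (Equiv.prodAssoc _ _ _).symm.trans ((Equiv.prodCongr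
    ((Equiv.arrowProdEquivProdArrow _ _ _).symm.trans (Equiv.piCongrRight fun _ => spl)) parts).trans
      ((asmE h).trans parts.symm))
  refine ⟨Φ, fun c μ T => ?_⟩
  have key : ∀ g : ℤ → ℤ, ((Φ (c, μ, T)).1.map g).sum = ∑ t ∈ (parts T).1, g ((2 * h + 1) * t) +
      ∑ i, ∑ d ∈ spl (c i, μ i), g (sg d * (i + 1 + (2 * h + 1) * d)) := fun g => by
    have e : parts (Φ (c, μ, T)) = asmE h (fun i => spl (c i, μ i), parts T) := parts.apply_symm_apply _
    rw [sum_parts, e]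
    exact sum_asm _ g
  refine ⟨?_, ?_, fun g hg => ?_⟩
  · have h1 := key id
    have h2 := sum_parts T id
    rw [List.map_id] at h1 h2
    rw [h1, h2, cs]
    simp only [id]
    rw [← Finset.mul_sum, mul_add, Finset.mul_sum, add_right_comm, add_comm, Nat.cast_sum, Finset.mul_sum,
      ← Finset.sum_add_distrib, ← Finset.mul_sum]
    congr 1
    refine Finset.sum_congr rfl fun i _ => ?_
    have h3 := ch_spl (c i, μ i)
    have h4 := wg_spl (c i, μ i)
    rw [← sz_cast, wg, h3] at h4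
    have h5 : ∑ d ∈ spl (c i, μ i), sg d * (i + 1 + (2 * h + 1) * d) =
        (i + 1) * ch (spl (c i, μ i)) + (2 * h + 1) * en (spl (c i, μ i)) := by
      unfold ch en
      rw [Finset.mul_sum, Finset.mul_sum, ← Finset.sum_add_distrib]
      exact Finset.sum_congr rfl fun d _ => by ring
    rw [h5, h3, ← h4]
    ring
  · have h1 := key fun _ => 1
    have h2 := sum_parts T fun _ => 1
    simp only [List.map_const', List.sum_replicate, Finset.sum_const, nsmul_eq_mul, mul_one] at h1 h2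
    rw [h1, h2, add_right_comm _ _ (#(parts T).1 : ℤ), add_assoc, ← Finset.sum_add_distrib]
    refine (Even.add_self _).add (Finset.even_sum _ fun i _ => ?_)
    have h3 := even_card (spl (c i, μ i))
    rwa [ch_spl] at h3
  · have h0 : g 0 = 0 := by have := hg.neg 0; rw [neg_zero] at this; omega
    rw [key, Finset.sum_eq_zero fun t _ => by rw [← hg.per _ _ (dvd_mul_right _ t), sub_self, h0], zero_add]
    refine Finset.sum_congr rfl fun i _ => ?_
    have h3 : ch (spl (c i, μ i)) = c i := ch_spl _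
    rw [← h3, ch, Finset.sum_mul]
    refine Finset.sum_congr (by rw [← ch, h3]) fun d _ => ?_
    have h4 := hg.per (i + 1 + (2 * h + 1) * d) _ (dvd_mul_right _ d)
    rw [add_sub_cancel_right] at h4
    unfold sg
    split_ifs
    · rw [one_mul, one_mul, h4]
    · rw [neg_one_mul, hg.neg, h4, neg_one_mul]

/-! ### the number of bars -/

/-- the linear part -/
def ps (q : ℕ) (a : ℤ) : ℤ := 2 * q * (a / q) - 2 * a - q * ee q a a

theorem two_wt (q : ℕ) (L : List ℤ) :
    2 * q * wt q L = 2 * L.sum + (L.map (ps q)).sum + q * (L.map fun x => ec q x L).sum := by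
  induction L with
  | nil => simp [wt_nil]
  | cons a L ih =>
    have h1 : (L.map fun x => ec q x (a :: L)).sum = ec q a L + (L.map fun x => ec q x L).sum := by
      simp only [ec_cons]
      rw [List.sum_map_add]
      congr 3
      exact funext fun x => ee_comm _ _ _
    rw [wt_cons', List.map_cons, List.map_cons, List.sum_cons, List.sum_cons, List.sum_cons, h1, ec_cons, ps]
    linarith

theorem op_ee {q : ℕ} {e : ℤ} (hq : (q : ℤ) ∣ e) (b : ℤ) : OP e fun a => ee q a b :=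
  ⟨fun x => ee_neg q x b, fun x _ hr => ee_shift (hq.trans hr) x b⟩

theorem op_ps {q : ℕ} {e : ℤ} (ho : Odd q) (hq : (q : ℤ) ∣ e) : OP e (ps q) := by
  have h0 : (0 : ℤ) < q := by exact_mod_cast ho.pos
  refine ⟨fun x => ?_, fun x r hr => ?_⟩
  · have h1 : ee q (-x) (-x) = ee q x x := by rw [ee_neg, ee_comm, ee_neg, neg_neg]
    have h2 : (q : ℤ) ∣ x + x ↔ (q : ℤ) ∣ x := by
      refine ⟨fun h => ?_, fun h => dvd_add h h⟩
      obtain ⟨m, hm⟩ := ho
      have : x = q * x - m * (x + x) := by rw [hm]; push_cast; ring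
      rw [this]
      exact dvd_sub (dvd_mul_right _ _) (h.mul_left _)
    unfold ps
    rw [h1, Int.neg_ediv, Int.sign_eq_one_of_pos h0]
    unfold ee
    simp only [h2, sub_self, dvd_zero, if_true]
    split_ifs <;> ring
  · obtain ⟨m, rfl⟩ := hq.trans hr
    have h1 : ee q (x - q * m) (x - q * m) = ee q x x := by
      rw [ee_shift (dvd_mul_right _ _), ee_comm, ee_shift (dvd_mul_right _ _)]
    unfold ps
    rw [h1, show x - q * m = x + q * -m by ring, Int.add_mul_ediv_left _ _ h0.ne']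
    ring

/-- the quadratic form of the charges -/
def Qc (q : ℕ) (c : Fin h → ℤ) : ℤ := ∑ i, c i * ps q (i + 1) + q * ∑ i, c i * ∑ j, c j * ee q (j + 1) (i + 1)

theorem wt_dec {L : List ℤ} {c : Fin h → ℤ} (H : ∀ g, OP (2 * h + 1) g → (L.map g).sum = ∑ i, c i * g (i + 1)) {q : ℕ}
    (ho : Odd q) (hq : (q : ℤ) ∣ 2 * h + 1) : 2 * q * wt q L = 2 * L.sum + Qc q c := by
  have h1 : ∀ x, ec q x L = ∑ j, c j * ee q (j + 1) x := fun x => by
    rw [← H _ (op_ee hq x), ec]
    congr 2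
    exact funext fun y => ee_comm _ _ _
  have h2 : OP (2 * h + 1) fun x => ∑ j : Fin h, c j * ee q (j + 1) x :=
    ⟨fun x => by
      rw [← Finset.sum_neg_distrib]
      exact Finset.sum_congr rfl fun j _ => by rw [ee_comm, ee_neg, ee_comm, mul_neg],
    fun x r hr => Finset.sum_congr rfl fun j _ => by rw [ee_comm, ee_shift (hq.trans hr), ee_comm]⟩
  rw [two_wt, H _ (op_ps ho hq), funext h1, H _ h2, Qc, add_assoc]

theorem Qc_self (c : Fin h → ℤ) : Qc (2 * h + 1) c = -2 * cs c := by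
  have h1 : ∀ i j : Fin h, ee (2 * h + 1) (j + 1) (i + 1) = if j = i then -1 else 0 := fun i j => by
    have hi := i.2
    have hj := j.2
    unfold ee
    rw [if_neg (fun ⟨y, hy⟩ => by
      have := small hy (by push_cast; omega) (by push_cast; omega)
      rw [this] at hy
      omega)]
    by_cases e : j = i
    · simp [e]
    · rw [if_neg e, if_neg (fun ⟨y, hy⟩ => by
        have := small hy (by push_cast; omega) (by push_cast; omega)
        rw [this] at hy
        exact e (Fin.ext (by omega))), sub_self]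
  unfold Qc cs ps
  simp only [h1, mul_ite, mul_zero, Finset.sum_ite_eq', mem_univ, if_true]
  rw [Finset.mul_sum, Finset.mul_sum, ← Finset.sum_add_distrib]
  refine Finset.sum_congr rfl fun i _ => ?_
  have hi := i.2
  rw [Int.ediv_eq_zero_of_lt (by omega) (by push_cast; omega)]
  push_cast
  linear_combination (2 * h + 1 : ℤ) * two_tri (c i)

theorem wt_le {q : ℕ} (ho : Odd q) {L : List ℤ} (hL : Strict L) : q * wt q L ≤ L.sum ∧ (q = 1 → wt q L = L.sum) := by
  obtain ⟨h, rfl⟩ := ho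
  obtain ⟨Φ, H⟩ := exists_dec h
  obtain ⟨⟨c, μ, T⟩, e⟩ := Φ.surjective ⟨L, hL⟩
  have h1 := wt_dec (H c μ T).2.2 (q := 2 * h + 1) ⟨h, rfl⟩ (by push_cast; rfl)
  rw [e, Qc_self] at h1
  have h2 := cs_nonneg c
  refine ⟨by linarith, fun h3 => ?_⟩
  obtain rfl : h = 0 := by omega
  simpa [cs] using h1

/-- **the strict partitions of `p'`-degree** -/
theorem crit {p n k : ℕ} (hp : p.Prime) (h2 : p ≠ 2) {L : List ℤ} (hL : Strict L) (hs : L.sum = n) (hn : n < p ^ (k + 1)) :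
    ¬ (p : ℤ) ∣ X (Multiset.replicate n 1) L ↔ ∀ t ≤ k, wt (p ^ t) L = (n : ℤ) / (p ^ t : ℕ) := by
  have := Fact.mk hp
  have ho : ∀ t, Odd (p ^ t) := fun t => (hp.odd_of_ne_two h2).pow
  have hle : ∀ t, wt (p ^ t) L ≤ (n : ℤ) / (p ^ t : ℕ) := fun t =>
    Int.le_ediv_of_mul_le (by exact_mod_cast (ho t).pos) (by rw [mul_comm, ← hs]; exact (wt_le (ho t) hL).1)
  have hX := X_ones_pos n hL hs
  have h1 := X_ones n hL hs
  change _ = n.factorial / fden L * ratio L at h1
  have hdp := dp_pos hL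
  have hdm := dm_pos hL
  rw [ratio_eq hL, ← cast_df] at h1
  have hdp' : (dp L : ℚ) ≠ 0 := by exact_mod_cast hdp.ne'
  have hdf' : ((df L : ℕ) : ℚ) ≠ 0 := by exact_mod_cast df_ne L
  rw [div_mul_div_comm, eq_div_iff (mul_ne_zero hdf' hdp')] at h1
  have h2 : X (Multiset.replicate n 1) L * ((df L : ℤ) * dp L) = (n.factorial : ℤ) * dm L := by exact_mod_cast h1
  have h3 := congrArg (fun x : ℤ => x.natAbs.factorization p) h2
  simp only [Int.natAbs_mul, Int.natAbs_natCast] at h3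
  rw [Nat.factorization_mul (Int.natAbs_ne_zero.2 hX.ne')
      (mul_ne_zero (df_ne L) (Int.natAbs_ne_zero.2 hdp.ne')),
    Nat.factorization_mul (df_ne L) (Int.natAbs_ne_zero.2 hdp.ne'),
    Nat.factorization_mul (Nat.factorial_ne_zero n) (Int.natAbs_ne_zero.2 hdm.ne'),
    Finsupp.add_apply, Finsupp.add_apply, Finsupp.add_apply] at h3
  have h4 := vw_eq_fact (p := p) hL
  have h5 := vw_eq (p := p) hL (T := k + 2) (by
    have := hp.two_le
    rw [hs, pow_succ]
    have : 2 * n < p ^ (k + 1) * p := by nlinarith only [hn, this]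
    exact_mod_cast this)
  have h6 : (n.factorial.factorization p : ℤ) = ∑ t ∈ Finset.Ico 1 (k + 2), (n : ℤ) / (p ^ t : ℕ) := by
    rw [Nat.factorization_def _ hp, padicValNat_factorial (b := k + 2)
      (Nat.lt_succ_of_lt (Nat.log_lt_of_lt_pow' (Nat.succ_ne_zero k) hn))]
    push_cast
    rfl
  have h7 : ((X (Multiset.replicate n 1) L).natAbs.factorization p : ℤ) =
      ∑ t ∈ Finset.Ico 1 (k + 2), ((n : ℤ) / (p ^ t : ℕ) - wt (p ^ t) L) := by
    rw [Finset.sum_sub_distrib, ← h5, ← h6]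
    zify at h3
    linarith only [h4, h3]
  rw [Int.natCast_dvd, hp.dvd_iff_one_le_factorization (Int.natAbs_ne_zero.2 hX.ne'), not_le, Nat.lt_one_iff,
    ← Nat.cast_eq_zero (R := ℤ), h7, Finset.sum_eq_zero_iff_of_nonneg fun t _ => sub_nonneg.2 (hle t)]
  refine ⟨fun H t ht => ?_, fun H t ht => ?_⟩
  · rcases Nat.eq_zero_or_pos t with rfl | h0
    · rw [(wt_le (ho 0) hL).2 rfl, hs]
      simp
    · exact (sub_eq_zero.1 (H t (mem_Ico.2 ⟨h0, by omega⟩))).symm
  · rcases le_or_gt t k with h0 | h0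
    · exact sub_eq_zero.2 (H t h0).symm
    · obtain rfl : t = k + 1 := by have := (mem_Ico.1 ht).2; omega
      have h8 := hle (k + 1)
      have h9 := wt_nonneg' (q := p ^ (k + 1)) hL
      rw [Int.ediv_eq_zero_of_lt (Int.natCast_nonneg _) (by exact_mod_cast hn)] at h8 ⊢
      omega

/-! ### the count -/

theorem card_small {p j : ℕ} (hp : p.Prime) (h2 : p ≠ 2) (hj : j < p) (s : ℕ → Prop) :
    Nat.card {T : SP // T.1.sum.toNat = j ∧ s T.1.length} =
      Nat.card {L : List ℤ // Strict L ∧ L.sum = j ∧ ¬ (p : ℤ) ∣ X (Multiset.replicate j 1) L ∧ s L.length} := by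
  refine Nat.card_congr ((Equiv.subtypeSubtypeEquivSubtypeInter Strict fun L => L.sum.toNat = j ∧ s L.length).trans
    (Equiv.subtypeEquivRight fun L => and_congr_right fun hL => ?_))
  have h0 : 0 ≤ L.sum := List.sum_nonneg fun c hc => (hL.2 c hc).le
  refine ⟨fun H => ⟨by omega, (crit (k := 0) hp h2 hL (by omega) (by simpa using hj)).2 fun t ht => ?_, H.2⟩,
    fun H => ⟨by omega, H.2.2⟩⟩
  obtain rfl : t = 0 := by omega
  rw [(wt_le (q := p ^ 0) (by simp) hL).2 rfl]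
  simp
  omega

theorem card_quot {p a : ℕ} (hp : p.Prime) (h2 : p ≠ 2) (ha : a < p) (h : ℕ) :
    Nat.card {y : (Fin h → Par) × SP // ∑ i, sz (y.1 i) + y.2.1.sum.toNat = a ∧ Even (a + y.2.1.length)} =
      up p (2 * h + 1) a ∧
    Nat.card {y : (Fin h → Par) × SP // ∑ i, sz (y.1 i) + y.2.1.sum.toNat = a ∧ ¬ Even (a + y.2.1.length)} =
      un p (2 * h + 1) a := by
  have h1 := card_cp sz (K p) a (fun j hj => card_par hp (by omega)) h
  have h3 : ∀ j ≤ a, Finite {T : SP // T.1.sum.toNat = j} := fun j _ => by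
    have := finite_sp j
    refine Finite.of_equiv _ (Equiv.subtypeEquivRight (p := fun T : SP => T.1.sum = j) fun T => ?_)
    have h0 : 0 ≤ T.1.sum := List.sum_nonneg fun c hc => (T.2.2 c hc).le
    omega
  have h4 := fun s : ℕ → Prop => (card_anti (fun μ : Fin h → Par => ∑ i, sz (μ i)) (fun T : SP => T.1.sum.toNat)
    (fun _ T => s T.1.length) a (fun j hj => (h1 j hj).1) h3).2
  have h5 : (2 * h + 1) / 2 = h := by omega
  rw [h4 fun m => Even (a + m), h4 fun m => ¬ Even (a + m), up, un, h5]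
  constructor <;> refine Finset.sum_congr rfl fun x hx => ?_ <;> have h6 := mem_antidiagonal.1 hx <;>
    rw [(h1 x.1 (by omega)).2]
  · rw [card_small hp h2 (by omega) fun m => Even (a + m)]
    congr 1
    split_ifs with e <;> refine Nat.card_congr (Equiv.subtypeEquivRight fun L => ?_) <;>
      simp only [Nat.even_iff, Nat.odd_iff, and_congr_right_iff] at e ⊢ <;> intros <;> (clear * - h6 e; omega)
  · rw [card_small hp h2 (by omega) fun m => ¬ Even (a + m)]
    congr 1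
    split_ifs with e <;> refine Nat.card_congr (Equiv.subtypeEquivRight fun L => ?_) <;>
      simp only [Nat.even_iff, Nat.odd_iff, and_congr_right_iff] at e ⊢ <;> intros <;> (clear * - h6 e; omega)

theorem up_zero {p : ℕ} (hp : p.Prime) (e : ℕ) : up p e 0 = 1 ∧ un p e 0 = 0 := by
  have h0 : ∀ L : List ℤ, Strict L → L.sum = (0 : ℕ) → L = [] := fun L hL hs => by
    rcases L with _ | ⟨a, L⟩
    · rfl
    · have h1 := hL.head_pos
      have h3 : 0 ≤ L.sum := List.sum_nonneg fun c hc => (hL.tail.2 c hc).le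
      rw [List.sum_cons] at hs
      omega
  have h1 : sp p 0 = 1 := Nat.card_eq_one_iff_exists.2 ⟨⟨[], ⟨List.Pairwise.nil, fun _ h => absurd h List.not_mem_nil⟩, rfl,
    fun h => hp.not_dvd_one (by exact_mod_cast (show (p : ℤ) ∣ 1 from h)), by simp only [_root_.List.length_nil, _root_.add_zero, _root_.Even.zero]⟩, fun L => Subtype.ext (h0 _ L.2.1 L.2.2.1)⟩
  have h3 : sn p 0 = 0 := by
    refine Nat.card_eq_zero.2 (.inl ⟨fun L => ?_⟩)
    have := L.2.2.2.2
    rw [h0 _ L.2.1 L.2.2.1] at this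
    simp at this
  have h4 : K p 0 = 1 := by
    rw [← (card_par hp hp.pos).2]
    obtain ⟨e⟩ := card_beta 0
    rw [← Nat.card_congr e]
    exact Nat.card_eq_one_iff_exists.2 ⟨⟨Fin.elim0, fun i => i.elim0, rfl⟩, fun _ => Subtype.ext (Subsingleton.elim _ _)⟩
  have h5 : ∀ m, cp (K p) m 0 = 1 := fun m => by
    induction m with
    | zero => rfl
    | succ m ih => simp [cp, ih, h4]
  simp only [up, un, h1, h3, h5, _root_.Finset.HasAntidiagonal.antidiagonal_zero, _root_.mul_ite, _root_.Finset.sum_singleton, _root_.Even.zero, ↓ _root_.reduceIte, _root_.mul_one, _root_.MulZeroClass.mul_zero, _root_.and_self]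

/-- **box A4b** -/
theorem globT : GlobT := by
  intro p k a r hp h2 ha hr
  obtain ⟨h, he⟩ : Odd (p ^ k) := (hp.odd_of_ne_two h2).pow
  obtain ⟨Φ, H⟩ := exists_dec h
  let Gd : (Fin h → ℤ) → Prop := fun c => ∀ t ≤ k, 2 * (p ^ t : ℕ) * ((r : ℤ) / (p ^ t : ℕ)) = 2 * r + Qc (p ^ t) c
  have key : ∀ a < p, ∀ (c μ T), ((Φ (c, μ, T)).1.sum = (a * p ^ k + r : ℕ) ∧
      ¬ (p : ℤ) ∣ X (Multiset.replicate (a * p ^ k + r) 1) (Φ (c, μ, T)).1) ↔
      Gd c ∧ ∑ i, sz (μ i) + T.1.sum.toNat = a := by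
    intro a ha c μ T
    obtain ⟨H1, -, H3⟩ := H c μ T
    have hn : a * p ^ k + r < p ^ (k + 1) := by rw [pow_succ]; nlinarith only [hr, ha]
    have h0 : 0 ≤ T.1.sum := List.sum_nonneg fun c hc => (T.2.2 c hc).le
    have h3 : (Φ (c, μ, T)).1.sum = (a * p ^ k + r : ℕ) →
        (¬ (p : ℤ) ∣ X (Multiset.replicate (a * p ^ k + r) 1) (Φ (c, μ, T)).1 ↔ Gd c) := fun hs => by
      rw [crit hp h2 (Φ (c, μ, T)).2 hs hn]
      refine forall₂_congr fun t ht => ?_
      obtain ⟨m, hm⟩ := pow_dvd_pow p ht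
      have h4 := wt_dec H3 (q := p ^ t) (hp.odd_of_ne_two h2).pow (by exact_mod_cast he ▸ pow_dvd_pow p ht)
      have h5 : (0 : ℤ) < (p ^ t : ℕ) := by exact_mod_cast pow_pos hp.pos t
      rw [hs, hm] at h4
      rw [hm]
      generalize p ^ t = q at *
      push_cast at h4 ⊢
      rw [show (a : ℤ) * (q * m) + r = r + q * (a * m) by ring, Int.add_mul_ediv_left _ _ h5.ne']
      refine ⟨fun h6 => by rw [h6] at h4; linarith only [h4], fun h6 => mul_left_cancel₀ (mul_pos two_pos h5).ne' (by linarith only [h4, h6])⟩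
    have h4 : Gd c → cs c = r := fun hc => by
      have h5 := hc k le_rfl
      rw [Int.ediv_eq_zero_of_lt (Int.natCast_nonneg _) (by exact_mod_cast hr), he, Qc_self] at h5
      omega
    have h5 : cs c = r → ((Φ (c, μ, T)).1.sum = (a * p ^ k + r : ℕ) ↔ ∑ i, sz (μ i) + T.1.sum.toNat = a) := fun hc => by
      rw [H1, hc, he]
      generalize ∑ i, sz (μ i) = w
      push_cast
      refine ⟨fun h6 => ?_, fun h6 => by rw [← h6]; push_cast; rw [Int.toNat_of_nonneg h0]; ring⟩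
      have h7 : (w : ℤ) + T.1.sum = a := mul_left_cancel₀ (a := (2 * h + 1 : ℤ)) (by omega) (by linarith only [h6])
      omega
    exact ⟨fun h6 => ⟨(h3 h6.1).1 h6.2, (h5 (h4 ((h3 h6.1).1 h6.2))).1 h6.1⟩,
      fun h6 => ⟨(h5 (h4 h6.1)).2 h6.2, (h3 ((h5 (h4 h6.1)).2 h6.2)).2 h6.1⟩⟩
  have cnt : ∀ a < p, ∀ (s : ℕ → Prop) (s' : ℤ → Prop), (∀ (x : ℕ) (y : ℕ) (z : ℤ), Even (x + y + z) →
      (s x ↔ (s' z ↔ Even (a + y)))) →
      Nat.card {L : List ℤ // Strict L ∧ L.sum = (a * p ^ k + r : ℕ) ∧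
        ¬ (p : ℤ) ∣ X (Multiset.replicate (a * p ^ k + r) 1) L ∧ s L.length} =
      up p (p ^ k) a * Nat.card {c // Gd c ∧ s' (∑ i, c i)} + un p (p ^ k) a * Nat.card {c // Gd c ∧ ¬ s' (∑ i, c i)} := by
    intro a ha s s' hs
    let e : {z : (Fin h → ℤ) × (Fin h → Par) × SP // Gd z.1 ∧ ∑ i, sz (z.2.1 i) + z.2.2.1.sum.toNat = a ∧
        (s' (∑ i, z.1 i) ↔ Even (a + z.2.2.1.length))} ≃ {L : SP // L.1.sum = (a * p ^ k + r : ℕ) ∧
        ¬ (p : ℤ) ∣ X (Multiset.replicate (a * p ^ k + r) 1) L.1 ∧ s L.1.length} :=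
      Φ.subtypeEquiv fun z => by rw [← and_assoc, ← and_assoc, key a ha, hs _ _ _ (H z.1 z.2.1 z.2.2).2.1]
    have := finite_sp (a * p ^ k + r : ℕ)
    have : Finite {L : SP // L.1.sum = (a * p ^ k + r : ℕ) ∧
        ¬ (p : ℤ) ∣ X (Multiset.replicate (a * p ^ k + r) 1) L.1 ∧ s L.1.length} :=
      Finite.of_injective (fun L => (⟨L.1, L.2.1⟩ : {L : SP // L.1.sum = (a * p ^ k + r : ℕ)})) fun _ _ h =>
        Subtype.ext (congrArg (fun L : {L : SP // L.1.sum = (a * p ^ k + r : ℕ)} => L.1) h)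
    have := Finite.of_equiv _ e.symm
    rw [← Nat.card_congr (e.trans (Equiv.subtypeSubtypeEquivSubtypeInter Strict fun L => L.sum = (a * p ^ k + r : ℕ) ∧
      ¬ (p : ℤ) ∣ X (Multiset.replicate (a * p ^ k + r) 1) L ∧ s L.length)),
      card_iff Gd (fun c => s' (∑ i, c i)) (fun y : (Fin h → Par) × SP => ∑ i, sz (y.1 i) + y.2.1.sum.toNat = a)
        (fun y => Even (a + y.2.1.length)), (card_quot hp h2 ha h).1, (card_quot hp h2 ha h).2, he]
  have par : ∀ a : ℕ, (a * p ^ k) % 2 = a % 2 := fun a => by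
    rw [he, mul_add, mul_one, mul_left_comm, Nat.mul_add_mod]
  have c1 : ∀ a < p, sp p (a * p ^ k + r) = up p (p ^ k) a * Nat.card {c // Gd c ∧ Even (r + ∑ i, c i)} +
      un p (p ^ k) a * Nat.card {c // Gd c ∧ ¬ Even (r + ∑ i, c i)} := fun a ha =>
    cnt a ha (fun m => Even (a * p ^ k + r + m)) (fun z => Even (r + z)) fun x y z H => by
      have := par a
      simp only [Nat.even_iff, Int.even_iff] at H ⊢
      (clear * - this H; solve | lia | omega)
  have c2 : ∀ a < p, sn p (a * p ^ k + r) = up p (p ^ k) a * Nat.card {c // Gd c ∧ ¬ Even (r + ∑ i, c i)} +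
      un p (p ^ k) a * Nat.card {c // Gd c ∧ ¬ ¬ Even (r + ∑ i, c i)} := fun a ha =>
    cnt a ha (fun m => Odd (a * p ^ k + r + m)) (fun z => ¬ Even (r + z)) fun x y z H => by
      have := par a
      simp only [Nat.even_iff, Int.even_iff, Nat.odd_iff] at H ⊢
      omega
  simp only [not_not] at c2
  have d1 := c1 0 hp.pos
  have d2 := c2 0 hp.pos
  rw [(up_zero hp _).1, (up_zero hp _).2, zero_mul, zero_mul, zero_add, add_zero, one_mul] at d1 d2
  rw [c1 a ha, c2 a ha, d1, d2]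
  exact ⟨rfl, rfl⟩

end Cfsg.Agent.MO.A.GT
end

-- part: MO/A/W/Alt
section
/-!
# MO, the alternating groups: all boxes together (helper37)

* `wrT' : WrT`, `rowT : RowT`; `row_alt'` : the row of the alternating groups.
-/

set_option autoImplicit false

namespace Cfsg.Agent.MO.A.W

open Cfsg Cfsg.Agent.MO.S Cfsg.Agent.MO.TI Cfsg.Agent.ODD.Cv

theorem wrT' : WrT := wrT Spin.spinT GT.globT Glob.globS

theorem rowT : RowT := rowT_of Spin.spinT GT.globT wrT'

/-- **the alternating groups** -/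
theorem row_alt' {p : ℕ} [Fact p.Prime] (ae : AE p) (h2 : p ≠ 2) (dfn : Row1 p fun S _ => IsLieTypeChar p S) :
    Row1 p fun S _ => IsAlternating S := row_alt ae h2 RS.rowS rowT dfn

end Cfsg.Agent.MO.A.W
end

-- part: MO/Df/G23/Aut
section
/-!
# MO, defining characteristic: the outer automorphism of `G₂(3)` and the global counts (helper82)

`k0_A : k0 3 A = 15`; `Gr β` : `β` maps the letters to the words `sw j`; `Gr.f0_eq : f0 3 β = 7`; `Gr.out`.
-/

set_option autoImplicit false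
set_option maxRecDepth 100000
set_option Elab.async false

namespace Cfsg.Agent.MO.Df.G23

open Cfsg Subgroup Cfsg.Agent.H347.HX Cfsg.Agent.H347.HX.G23 Cfsg.Agent.TAB.Eng Cfsg.Agent.TAB.Use
open Cfsg.Agent.TAB.Sm2 Cfsg.Agent.H447.CTab Cfsg.Agent.MO.T Cfsg.Agent.ODD.Red
open Cfsg.Agent.GTwoThree (NA g8 pairs pairs_ker pairs_swap pairs_fst_surj canc)

/-- a second solution of the relations defines an automorphism -/
theorem exists_aut {J : Type} [Group J] [IsSimpleGroup J] {a b c d r t a' b' c' d' r' t' : J}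
    (h : GTwoThree.Rel a b c d r t) (h' : GTwoThree.Rel a' b' c' d' r' t') (ha : a ≠ 1) (ha' : a' ≠ 1)
    (hg : _root_.Subgroup.closure {a, b, c, d, r, t} = ⊤) (hg' : _root_.Subgroup.closure {a', b', c', d', r', t'} = ⊤) :
    ∃ β : MulAut J, ∀ k < 8, β (g8 a b c d r t k) = g8 a' b' c' d' r' t' k := by
  have core : ∀ {a b c d r t : J}, GTwoThree.Rel a b c d r t → a ≠ 1 → ∀ y : J, (∀ w : J, w⁻¹ * y * w ∈ NA a) → y = 1 :=
    fun {a b _ _ _ _} h ha y hy => by
      rcases (normalCore_normal (NA a)).eq_bot_or_eq_top with h1 | h1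
      · exact mem_bot.1 (h1 ▸ fun w => by simpa only [inv_inv] using hy w⁻¹ : y ∈ (⊥ : Subgroup J))
      · exact absurd (normalCore_le _ (h1 ▸ mem_top b : b ∈ (NA a).normalCore)) (h.b_not_mem ha)
  have b1 : Function.Bijective ((MonoidHom.fst J J).comp (pairs a b c d r t a' b' c' d' r' t').subtype) :=
    ⟨(injective_iff_map_eq_one _).2 fun x h1 =>
      Subtype.ext (Prod.ext h1 (pairs_ker h h' ha ha' hg' (core h' ha') x.2 h1)), fun y =>
        (pairs_fst_surj h hg y).elim fun x hx => ⟨⟨x, hx.1⟩, hx.2⟩⟩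
  have b2 : Function.Bijective ((MonoidHom.snd J J).comp (pairs a b c d r t a' b' c' d' r' t').subtype) :=
    ⟨(injective_iff_map_eq_one _).2 fun x h1 =>
      Subtype.ext (Prod.ext (pairs_ker h' h ha' ha hg (core h ha) (pairs_swap x.2) h1) h1), fun y =>
        (pairs_fst_surj h' hg' y).elim fun x hx => ⟨⟨x.swap, pairs_swap hx.1⟩, hx.2⟩⟩
  refine ⟨(MulEquiv.ofBijective _ b1).symm.trans (MulEquiv.ofBijective _ b2), fun k hk => ?_⟩
  have h1 : (MulEquiv.ofBijective _ b1).symm (g8 a b c d r t k) =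
      ⟨(g8 a b c d r t k, g8 a' b' c' d' r' t' k), subset_closure ⟨k, hk, rfl⟩⟩ := (MulEquiv.symm_apply_eq _).2 rfl
  rw [MulEquiv.trans_apply, h1]
  rfl

theorem out_congr {X S : Type} [Group X] [Group S] (e : X ≃* S) (hi : (MulAut.conj : S →* MulAut S).range.index = 2)
    {β : MulAut X} (h : ¬ ∃ x, β = MulAut.conj x) (γ : MulAut X) : ∃ x, γ = MulAut.conj x ∨ γ = MulAut.conj x * β := by
  obtain ⟨x, hx⟩ := MK.T.out_cases hi (β := MulAut.congr e β) (fun ⟨x, hx⟩ => not_inn_congr e h ⟨x, hx.symm⟩)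
    (MulAut.congr e γ)
  obtain ⟨x, rfl⟩ := e.surjective x
  rw [← congr_conj, ← map_mul] at hx
  exact ⟨x, hx.imp (fun h2 => (MulAut.congr e).injective h2) fun h2 => (MulAut.congr e).injective h2⟩

/-- the images of the letters -/
def sw : ℕ → List ℕ
  | 0 => [4, 1, 4]
  | 1 => [3, 5, 2, 3, 5, 1, 2, 5, 1, 4, 5, 2, 3, 0]
  | 2 => [1, 5, 3, 1, 4, 2, 1, 3, 5, 1]
  | 3 => [4, 1, 5, 1, 3, 4, 5, 4, 3, 1, 5, 1, 4]
  | 4 => [1, 0, 5, 3, 1, 4, 2, 1, 3, 5, 1]
  | _ => [0, 3, 4, 1, 3, 2, 1, 0]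

theorem rel' : GTwoThree.Rel (ev s (sw 0 ++ sw 1)) (ev s (sw 0 ++ sw 2)) (ev s (sw 0 ++ sw 3)) (ev s (sw 0 ++ sw 4))
    (ev s (sw 0)) (ev s (sw 5)) where
  a3 := by rw [pow_three', mulw, mulw]; exact eqw (v := []) (by decide +kernel)
  c3 := by rw [pow_three', mulw, mulw]; exact eqw (v := []) (by decide +kernel)
  b4 := by rw [pow_succ, pow_three', mulw, mulw, mulw]; exact eqw (v := []) (by decide +kernel)
  bd2 := by rw [mulw, mulw]; exact eqw (by decide +kernel)
  rr := by rw [mulw]; exact eqw (v := []) (by decide +kernel)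
  tt := by rw [mulw]; exact eqw (v := []) (by decide +kernel)
  ac := by rw [mulw, mulw]; exact eqw (by decide +kernel)
  ad := by rw [mulw, mulw]; exact eqw (by decide +kernel)
  bc := by rw [mulw, mulw]; exact eqw (by decide +kernel)
  bd := by rw [mulw, mulw]; exact eqw (by decide +kernel)
  ab3 := by rw [pow_three', mulw, mulw, mulw]; exact eqw (v := []) (by decide +kernel)
  cd3 := by rw [pow_three', mulw, mulw, mulw]; exact eqw (v := []) (by decide +kernel)
  za := by rw [mulw, mulw, mulw]; exact eqw (by decide +kernel)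
  zc := by rw [mulw, mulw, mulw]; exact eqw (by decide +kernel)
  ra := by rw [revw]; simp only [mulw]; exact eqw (by decide +kernel)
  rb := by rw [revw]; simp only [mulw]; exact eqw (by decide +kernel)
  rc := by rw [revw]; simp only [mulw]; exact eqw (by decide +kernel)
  rd := by rw [revw]; simp only [mulw]; exact eqw (by decide +kernel)
  bt3 := by rw [pow_three', mulw, mulw, mulw]; exact eqw (v := []) (by decide +kernel)
  te := by simp only [mulw]; exact eqw (by decide +kernel)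
  tz := by simp only [mulw]; exact eqw (by decide +kernel)
  k1 := by simp only [mulw]; exact eqw (by decide +kernel)
  k2 := by simp only [mulw, revw]; exact eqw (by decide +kernel)
  k3 := by simp only [mulw]; exact eqw (by decide +kernel)

/-- the graph automorphism -/
def Gr (β : MulAut A) : Prop := ∀ w, β (ev s w) = ev s (w.flatMap sw)

theorem exists_gr : ∃ β, Gr β := by
  have := simple
  have ha : ev s (sw 0 ++ sw 1) ≠ 1 := ne_of (v := []) 0 (by decide +kernel)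
  obtain ⟨β, h⟩ := exists_aut rel rel' a_ne ha iso.1 (H845.GTwoIso.iso_of_card_le rel' ha ⊤ trivial trivial trivial trivial
    trivial trivial (by rw [card_top]; exact card_le_A)).1.symm
  have h0 : ∀ j, ev s [j] = s j := fun j => mul_one _
  have h1 : ∀ j, ev s [0] * ev s [0, j] = s j := fun j => by rw [h0, ev_cons, h0, canc (s_sq 0)]
  have h2 : ∀ j, ev s (sw 0) * ev s (sw 0 ++ sw j) = ev s (sw j) := fun j => by rw [ev_append, canc rel'.rr]
  have h3 : ∀ j, β (s j) = ev s (sw j)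
    | 0 => (congrArg β (h0 0).symm).trans (h 0 (by decide))
    | 1 => (congrArg β (h1 1).symm).trans ((h 1 (by decide)).trans (h2 1))
    | 2 => (congrArg β (h1 2).symm).trans ((h 2 (by decide)).trans (h2 2))
    | 3 => (congrArg β (h1 3).symm).trans ((h 3 (by decide)).trans (h2 3))
    | 4 => (congrArg β (h1 4).symm).trans ((h 4 (by decide)).trans (h2 4))
    | _ + 5 => (congrArg β (h0 5).symm).trans (h 5 (by decide))
  refine ⟨β, fun w => ?_⟩
  induction w with
  | nil => exact map_one β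
  | cons j w ih => rw [ev_cons, map_mul, ih, h3, List.flatMap_cons, ev_append]

/-- the action on the classes -/
def sg (i : ℕ) : Fin 23 := [0, 1, 2, 3, 4, 6, 5, 8, 7, 9, 10, 12, 11, 13, 15, 14, 16, 17, 18, 20, 19, 22, 21].getD i 0

/-- conjugating words -/
def aw : List (List ℕ) := [[], [2, 5, 3, 4, 1, 3, 2], [5, 2, 1, 3, 2, 4, 3], [5, 2, 1, 0, 5, 1, 3], [5, 0, 1, 0, 3],
  [4, 5, 1, 3, 5], [4, 3, 2], [3, 5, 3, 4, 1, 3, 2], [1, 5, 3, 4, 1, 3, 2], [0, 4, 1, 3, 5, 3, 4, 1, 3, 2], [1, 3,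
  5, 1, 2, 5, 4, 1, 3, 1], [2, 3, 5, 2, 1, 5, 4, 0], [1, 3, 5, 1, 2, 5, 2, 1, 3], [5, 1, 2, 5, 2, 1, 5, 3, 4, 0],
  [1, 0, 5, 0, 1, 5, 2], [1, 5, 1, 3, 2, 1, 5, 2, 1, 5, 3, 2], [5, 4, 1, 5, 4, 3, 1], [1, 4, 3, 5, 4, 5, 1], [2, 4,
  3, 5, 2, 3, 1, 0, 5, 1, 3], [2, 3, 4, 0, 3, 5, 3, 4, 1, 2, 0], [2, 1, 5, 1, 4, 3, 4, 5, 3, 2], [0, 3, 1, 5, 2, 1,
  5, 1, 2, 1, 3], [3, 1, 2, 5, 2, 3, 1, 4, 3, 2]]

private noncomputable def _root_.Cfsg.Agent.LsF.f29900f_0 : {f // @Cfsg.Agent.H347.HX.ap = f} := ⟨_, by first | (delta Cfsg.Agent.H347.HX.ap List.brecOn List.brecOn.go Cfsg.Agent.H347.HX.ap._f; (try delta Cfsg.Agent.H347.HX.ap.match_1); (try delta List.casesOn); first | dsimp -zeta only | exact rfl) | exact rfl⟩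
private noncomputable def _root_.Cfsg.Agent.LsF.f29900f_1 : {f // @Cfsg.Agent.H347.HX.G23.LT = f} := ⟨_, by first | (delta Cfsg.Agent.H347.HX.G23.LT; (try delta Cfsg.Agent.H347.HX.G23.LT.match_1); (try rewrite [Cfsg.Agent.LsF.instDecEq_eq, Cfsg.Agent.LsF.dite_eq]); exact rfl) | exact rfl⟩
private noncomputable def _root_.Cfsg.Agent.LsF.f29900f_2 : {f // @Cfsg.Agent.H347.HX.G23.fl = f} := ⟨_, by first | (delta Cfsg.Agent.H347.HX.G23.fl; rewrite [Cfsg.Agent.LsF.f29900f_1.2]; exact rfl) | exact rfl⟩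
private noncomputable def _root_.Cfsg.Agent.LsF.f29900f_3 : {f // @Cfsg.Agent.MO.Df.G23.cb = f} := ⟨_, by first | (delta Cfsg.Agent.MO.Df.G23.cb; rewrite [Cfsg.Agent.LsF.f29900f_0.2, Cfsg.Agent.LsF.f29900f_2.2, Cfsg.Agent.LsF.all_eq]; exact rfl) | exact rfl⟩
private noncomputable def _root_.Cfsg.Agent.LsF.f29900f_4 : {f // @Cfsg.Agent.MO.Df.G23.sw = f} := ⟨_, by first | (delta Cfsg.Agent.MO.Df.G23.sw; (try delta Cfsg.Agent.MO.Df.G23.sw.match_1); (try rewrite [Cfsg.Agent.LsF.instDecEq_eq, Cfsg.Agent.LsF.dite_eq]); exact rfl) | exact rfl⟩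
private noncomputable def _root_.Cfsg.Agent.LsF.f29900f_5 : {f // @Cfsg.Agent.H347.HX.G23.wr = f} := ⟨_, by first | (delta Cfsg.Agent.H347.HX.G23.wr; rewrite [Cfsg.Agent.LsF.lappend_pat, Cfsg.Agent.LsF.reverse_eq]; exact rfl) | exact rfl⟩
private noncomputable def _root_.Cfsg.Agent.LsF.f29900f_6 : {f // @Cfsg.Agent.MO.Df.G23.xw = f} := ⟨_, by first | (delta Cfsg.Agent.MO.Df.G23.xw; rewrite [Cfsg.Agent.LsF.f29900f_5.2, Cfsg.Agent.LsF.getD_eq]; exact rfl) | exact rfl⟩
private noncomputable def _root_.Cfsg.Agent.LsF.f29900f_7 : {f // @Cfsg.Agent.MO.Df.G23.sg = f} := ⟨_, by first | (delta Cfsg.Agent.MO.Df.G23.sg; rewrite [Cfsg.Agent.LsF.getD_eq]; exact rfl) | exact rfl⟩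
theorem act_ok : ∀ i : Fin 23, cb (aw.getD i [] ++ (xw i).flatMap sw) (xw (sg i) ++ aw.getD i []) = true := by
  (refine of_decide_eq_true ?_; (try (rewrite [Cfsg.Agent.LsF.f29900f_3.2, Cfsg.Agent.LsF.f29900f_4.2, Cfsg.Agent.LsF.f29900f_6.2, Cfsg.Agent.LsF.f29900f_7.2, Cfsg.Agent.LsF.lappend_pat, Cfsg.Agent.LsF.flatMap_eq, Cfsg.Agent.LsF.getD_eq, Cfsg.Agent.LsF.dBoolEq_eq, Cfsg.Agent.LsF.dForallFin_eq, Cfsg.Agent.LsF.decide_eq])); decide +kernel)

theorem k0_A : k0 3 A = 15 := by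
  obtain ⟨S, -, h⟩ := tab
  rw [k0_of_degList h.degList]
  decide +kernel

/-- the fixed characters -/
def fq (a : List Bool) (j : ℕ) : Bool :=
  if j < 19 then decide (∀ i : Fin 23, (RA.getD j []).getD (rc.getD (sg i) 0) 0 = (RA.getD j []).getD (rc.getD i 0) 0)
  else a.getD (j - 19) false

namespace Gr

variable {β : MulAut A} (h : Gr β)
include h

theorem conj (i : Fin 23) : IsConj (β (T.x i)) (T.x (sg i)) := by
  rw [T_x, T_x, h]
  exact conj_w _ (act_ok i)

theorem cl_eq (g : A) : T.cl (β g) = sg (T.cl g) :=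
  T.cl_eq_iff.2 ((h.conj _).symm.trans (β.toMonoidHom.map_isConj (T.isConj_cl g)))

theorem not_inn : ¬ ∃ x, β = MulAut.conj x := by
  rintro ⟨x, hx⟩
  have h1 : IsConj (T.x 5) (β (T.x 5)) := isConj_iff.2 ⟨x, by rw [hx, MulAut.conj_apply]⟩
  exact absurd (T.inj _ _ (h1.trans (h.conj 5))) (by decide)

theorem out (γ : MulAut A) : ∃ x, γ = MulAut.conj x ∨ γ = MulAut.conj x * β :=
  iso.2.2.elim fun e => out_congr (by exact e) H96.Rad2.G23.card_out h.not_inn γ

theorem card_fix : Nat.card {C : ConjClasses A // ConjClasses.map β.toMonoidHom C = C} = 11 := by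
  have h1 : ∀ i : Fin 23, ConjClasses.map β.toMonoidHom (ConjClasses.mk (T.x i)) = ConjClasses.mk (T.x i) ↔ sg i = i :=
    fun i => ConjClasses.mk_eq_mk_iff_isConj.trans ⟨fun e => T.inj _ _ ((h.conj i).symm.trans e),
      fun e => (h.conj i).trans (by rw [e])⟩
  rw [← Nat.card_congr (Equiv.ofBijective (fun i : {i : Fin 23 // sg i = i} =>
    (⟨ConjClasses.mk (T.x i), (h1 i).2 i.2⟩ : {C : ConjClasses A // ConjClasses.map β.toMonoidHom C = C}))
    ⟨fun i j e => Subtype.ext (T.inj _ _ (ConjClasses.mk_eq_mk_iff_isConj.1 (congrArg Subtype.val e))), fun C => ?_⟩),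
    Nat.card_eq_fintype_card]
  · decide +kernel
  · obtain ⟨C, hC⟩ := C
    obtain ⟨g, rfl⟩ := ConjClasses.exists_rep C
    have h2 := ConjClasses.mk_eq_mk_iff_isConj.2 (T.isConj_cl g)
    exact ⟨⟨T.cl g, (h1 _).1 (h2 ▸ hC)⟩, Subtype.ext h2⟩

theorem f0_eq : f0 3 β = 7 := by
  classical
  obtain ⟨S, hT, χ, hE, hR⟩ := tab
  have hn : (mkRows RA RB).n = 23 := by decide +kernel
  rw [hn] at hE
  have h1 : ∀ j < 19, ∀ g, χ j g = ((RA.getD j []).getD (rc.getD (T.cl g) 0) 0 : ℤ) := fun j hj g => by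
    have h2 := hR ([(j, 1)], rw' RA RB j) (List.mem_append_left _ (List.mem_map.2 ⟨j, List.mem_range.2 hj, rfl⟩)) g
    rw [hT, rw', List.getD_append _ _ _ _ hj] at h2
    simpa only [_root_.List.getD_eq_getElem?_getD, _root_.List.map_cons, _root_.Int.cast_one, _root_.one_mul, _root_.List.map_nil, _root_.List.sum_cons, _root_.List.sum_nil, _root_.add_zero] using h2
  let a := [19, 20, 21, 22].map fun j => decide (∀ x, χ j (β x) = χ j x)
  have h2 : ∀ j < 23, (∀ x, χ j (β x) = χ j x) ↔ fq a j = true := fun j hj => by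
    rw [fq]
    split_ifs with h3
    · simp only [h1 j h3, h.cl_eq, decide_eq_true_eq, Int.cast_inj]
      exact ⟨fun h4 i => by simpa only [T.cl_x] using h4 (T.x i), fun h4 x => h4 _⟩
    · interval_cases j <;> exact decide_eq_true_iff.symm
  have h3 : f0 5 β = 11 := by
    rw [← h.card_fix, S0173.result β]
    refine Nat.card_congr ⟨fun ψ => ⟨⟨ψ.1, ψ.2.1.1⟩, funext ψ.2.2⟩, fun ψ => ⟨ψ.1.1, ⟨ψ.1.2, ?_⟩, congrFun ψ.2⟩,
      fun _ => rfl, fun _ => rfl⟩
    obtain ⟨j, hj, e⟩ := hE.all _ ψ.1.2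
    rw [e, charDegree_of (hE.deg j hj)]
    exact (by decide +kernel : ∀ j < 23, ¬ 5 ∣ (mkRows RA RB).d j) j hj
  rw [f0_enum hE fun j hj _ => h2 j hj] at h3 ⊢
  exact (by decide +kernel : ∀ a b c d : Bool,
    ((List.range 23).countP fun j => (mkRows RA RB).d j % 5 != 0 && fq [a, b, c, d] j) = 11 →
    ((List.range 23).countP fun j => (mkRows RA RB).d j % 3 != 0 && fq [a, b, c, d] j) = 7) _ _ _ _ h3

end Gr

end Cfsg.Agent.MO.Df.G23
end

-- part: MO/Df/G23/Main
section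
/-!
# MO, defining characteristic: the row `G₂(3)`, `p = 3` (helper82)

The Sylow subgroup `V y 6 0` fixes the point `18` and the line `{18, 10, 12, 42}` of the hexagon; its normaliser has the
order `4 * 729`.
-/

set_option autoImplicit false
set_option maxRecDepth 100000
set_option Elab.async false

namespace Cfsg.Agent.MO.Df.G23

open Cfsg Subgroup Cfsg.Agent.H347.HX Cfsg.Agent.H347.HX.G23 Cfsg.Agent.MO.T Cfsg.Agent.MO.L Cfsg.Agent.MO.S
open Cfsg.Agent.MK.S.Pc (V V_le mem_V inR inR_mem)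
open scoped Pointwise

instance factThree : Fact (Nat.Prime 3) := ⟨Nat.prime_three⟩

/-- the words of a polycyclic sequence of the Sylow subgroup and of two elements of the torus -/
def yw : List (List ℕ) := [[3, 4, 5, 1, 0, 5, 4, 3], [3, 5, 3, 0, 5, 3], [1, 0, 2, 0], [3, 5, 3, 2, 5, 2, 3, 5, 2,
  3], [3, 1, 5, 1, 2, 1, 0, 5, 1, 3], [4, 0, 3, 0], [4, 2, 0], [2, 3, 0]]

/-- the elements -/
noncomputable def y (a : ℕ) : A := ev s (yw.getD a [])

/-- the elements as functions -/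
def fy (a : ℕ) : ℕ → ℕ := ap fl (yw.getD a [])

theorem y_rp (a : ℕ) (x : Fin 364) : ((y a • x : Fin 364) : ℕ) = fy a x := Rp.ev rp_s _ x

theorem he : ∀ v w, Pc.eqb fy base v w = true → MK.S.Pc.ev y v = MK.S.Pc.ev y w :=
  Pc.eqb_sound Fin.val_injective y_rp fun a h => hbase a fun f hf => ⟨base_lt f hf, h ⟨f, base_lt f hf⟩ hf⟩

theorem ev_y (w : List ℕ) : MK.S.Pc.ev y w = ev s (w.flatMap fun a => yw.getD a []) := by
  induction w with
  | nil => rfl
  | cons a w ih => rw [MK.S.Pc.ev_cons, ih, List.flatMap_cons, ev_append, y]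

/-- the relations -/
def cc : Pc.Cert := ⟨[[], [], [], [], [], []], [[[], [], [4, 4], [], [], []], [[], [], [3, 3, 4], [5, 5], [], []],
  [[], [], [], [4, 4], [], []], [[], [], [], [], [], []], [[], [], [], [], [], []], [[], [], [], [], [], []]], [([],
  [], []), ([], [], []), ([], [], []), ([1], [2, 2], []), ([0], [2, 2], []), ([1], [3, 3], [])]⟩

theorem pc_ok : Pc.chk (Pc.eqb fy base) 3 6 3 cc = true := by decide +kernel

theorem card_Q : 3 ^ 6 ≤ Nat.card (V y 6 0) :=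
  Pc.card_ge (ok := (Nat.blt · 364)) Fin.val_injective (fun c hc => ⟨⟨c, Nat.blt_eq ▸ hc⟩, rfl⟩)
    (fun u _ => Pc.imw_spec y_rp u) (lv := 
      [(10, [[], [2], [2, 2]]), (0, [[], [4], [4, 4], [3, 3], [3, 3, 4, 4], [3], [3, 4], [3, 3, 4], [3, 4, 4]]), (1, [[],
      [1], [0], [1, 1], [0, 0], [0, 0, 1], [0, 1], [0, 1, 1], [0, 0, 1, 1]]), (2, [[], [5], [5, 5]])]) (by decide +kernel)

theorem loc : Loc 3 3 (V y 6 0) y := Pc.loc_of_chk he pc_ok (by decide) card_Q

/-- the action of the torus -/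
def RR : List (List (List ℕ)) := [[[2, 0, 0, 0, 1, 0], [0, 1, 0, 2, 0, 2], [0, 0, 2, 0, 0, 0], [0, 0, 0, 2, 0, 0],
  [0, 0, 0, 0, 1, 0], [0, 0, 0, 0, 0, 2]], [[1, 0, 0, 0, 2, 0], [0, 2, 0, 1, 0, 0], [0, 0, 2, 0, 0, 0], [0, 0, 0, 1,
  0, 1], [0, 0, 0, 0, 2, 0], [0, 0, 0, 0, 0, 2]]]

theorem nrm_ok : Pc.nrms (Pc.eqb fy base) 6 RR = true := by decide +kernel

private noncomputable def _root_.Cfsg.Agent.LsF.f29900f_8 : {f // @Cfsg.Agent.MO.Df.G23.fy = f} := ⟨_, by first | (delta Cfsg.Agent.MO.Df.G23.fy; rewrite [Cfsg.Agent.LsF.f29900f_0.2, Cfsg.Agent.LsF.f29900f_2.2, Cfsg.Agent.LsF.getD_eq]; exact rfl) | exact rfl⟩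
/-- the Sylow subgroup fixes a flag -/
theorem flag : V y 6 0 ≤ MulAction.stabilizer A (18 : Fin 364) ⊓ MulAction.stabilizer A ({10, 12, 42} : Finset (Fin 364)) :=
  V_le fun i _ hi => by
    have h := (by (refine of_decide_eq_true ?_; (try (rewrite [Cfsg.Agent.LsF.f29900f_8.2, Cfsg.Agent.LsF.dFMem_eq, Cfsg.Agent.LsF.instDecEq_eq, Cfsg.Agent.LsF.dAnd_eq, Cfsg.Agent.LsF.dFinEq_eq, Cfsg.Agent.LsF.dBallLT_eq, Cfsg.Agent.LsF.dForallFin_eq, Cfsg.Agent.LsF.dExistsFin_eq, Cfsg.Agent.LsF.dAllP_eq, Cfsg.Agent.LsF.decide_eq])); decide +kernel) : ∀ i < 6, fy i 18 = 18 ∧ ∀ b ∈ ({10, 12, 42} : Finset (Fin 364)),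
      ∃ c ∈ ({10, 12, 42} : Finset (Fin 364)), fy i b = c) i hi
    refine ⟨Fin.ext ((y_rp i 18).trans h.1), MulAction.mem_stabilizer_finset'.2 fun b hb => ?_⟩
    obtain ⟨c, hc, e⟩ := h.2 b hb
    rwa [show y i • b = c from Fin.ext ((y_rp i b).trans e)]

theorem reg_ok : (alb 364 fun q => (!Nat.beq (Pc.imw fy [0, 1, 2] q) q || Nat.beq q 18) &&
    (!Nat.ble (co q (Pc.imw fy [0, 1, 2] q)) 1 || !Nat.beq (co 18 q) 1 || elemN q [10, 12, 42])) = true := by
  decide +kernel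

private noncomputable def _root_.Cfsg.Agent.LsF.f29900f_9 : {f // @Cfsg.Agent.H347.HX.elemN = f} := ⟨_, by first | (delta Cfsg.Agent.H347.HX.elemN; rewrite [Cfsg.Agent.LsF.any_eq]; exact rfl) | exact rfl⟩
private noncomputable def _root_.Cfsg.Agent.LsF.f29900f_10 : {f // @Cfsg.Agent.H347.HX.cnt = f} := ⟨_, by first | (delta Cfsg.Agent.H347.HX.cnt; rewrite [Cfsg.Agent.LsF.cond_eq]; exact rfl) | exact rfl⟩
private noncomputable def _root_.Cfsg.Agent.LsF.f29900f_11 : {f // @Cfsg.Agent.H347.HX.qz = f} := ⟨_, by first | (delta Cfsg.Agent.H347.HX.qz; rewrite [Cfsg.Agent.LsF.cond_eq, Cfsg.Agent.LsF.all_eq]; exact rfl) | exact rfl⟩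
private noncomputable def _root_.Cfsg.Agent.LsF.f29900f_12 : {f // @Cfsg.Agent.H347.HX.tt = f} := ⟨_, by first | (delta Cfsg.Agent.H347.HX.tt; rewrite [Cfsg.Agent.LsF.f29900f_10.2, Cfsg.Agent.LsF.f29900f_11.2, Cfsg.Agent.LsF.cond_eq, Cfsg.Agent.LsF.all_eq]; exact rfl) | exact rfl⟩
private noncomputable def _root_.Cfsg.Agent.LsF.f29900f_13 : {f // @Cfsg.Agent.H347.HX.vOk = f} := ⟨_, by first | (delta Cfsg.Agent.H347.HX.vOk; rewrite [Cfsg.Agent.LsF.f29900f_9.2, Cfsg.Agent.LsF.f29900f_12.2, Cfsg.Agent.LsF.cond_eq, Cfsg.Agent.LsF.all_eq]; exact rfl) | exact rfl⟩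
private noncomputable def _root_.Cfsg.Agent.LsF.f29900f_14 : {f // @Cfsg.Agent.H347.HX.nx = f} := ⟨_, by first | (delta Cfsg.Agent.H347.HX.nx Cfsg.Agent.H347.HX.nx._f Nat.brecOn.go Nat.brecOn; (try delta Cfsg.Agent.H347.HX.nx.match_1); (try delta Nat.casesOn); first | dsimp -zeta only | exact rfl) | exact rfl⟩
private noncomputable def _root_.Cfsg.Agent.LsF.f29900f_15 : {f // @Cfsg.Agent.H347.HX.run = f} := ⟨_, by first | (delta Cfsg.Agent.H347.HX.run List.brecOn List.brecOn.go Cfsg.Agent.H347.HX.run._f; rewrite [Cfsg.Agent.LsF.f29900f_9.2, Cfsg.Agent.LsF.f29900f_13.2, Cfsg.Agent.LsF.f29900f_10.2, Cfsg.Agent.LsF.f29900f_12.2, Cfsg.Agent.LsF.f29900f_14.2, Cfsg.Agent.LsF.cond_eq, Cfsg.Agent.LsF.all_eq]; (try delta Cfsg.Agent.H347.HX.run.match_1); (try delta List.casesOn); first | dsimp -zeta only | exact rfl) | exact rfl⟩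
theorem run_ok : _root_.Cfsg.Agent.H347.HX.run 364 co (fun y => y) 1 base (c0.l.drop 2) [12, 18] = true := by ((try (rewrite [Cfsg.Agent.LsF.f29900f_15.2, Cfsg.Agent.LsF.drop_eq])); decide +kernel)

theorem card_N : Nat.card (normalizer (V y 6 0 : Set A)) ≤ 3 ^ 6 * 4 := by
  have hu : MK.S.Pc.ev y [0, 1, 2] ∈ V y 6 0 := inR_mem (by decide)
  have h0 := fun q : Fin 364 => of_alb reg_ok q q.2
  simp only [Bool.and_eq_true, Bool.or_eq_true, Bool.not_eq_true', ← Bool.not_eq_true, Nat.beq_eq, Nat.ble_eq,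
    ← Pc.imw_spec y_rp] at h0
  generalize MK.S.Pc.ev y [0, 1, 2] = u at hu h0
  have h1 : ∀ n ∈ normalizer (V y 6 0 : Set A), ∃ v ∈ V y 6 0, ∀ q : Fin 364, u • n • q = n • v • q := fun n hn =>
    ⟨n⁻¹ * u * n⁻¹⁻¹, (mem_normalizer_iff.1 (inv_mem hn) u).1 hu, fun q => by
      rw [inv_inv, mul_smul, mul_smul, smul_inv_smul]⟩
  have h2 : ∀ n ∈ normalizer (V y 6 0 : Set A), n • (18 : Fin 364) = 18 := fun n hn => by
    obtain ⟨v, hv, e⟩ := h1 n hn
    exact Fin.ext ((h0 _).1.resolve_left fun h => h (by rw [e, show v • (18 : Fin 364) = 18 from (flag hv).1]))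
  refine (orb _ 12 {10, 12, 42} (fun n hn => ?_) (le_of_run (x := 1) (fun _ => rfl) hbase _ _ _
    (fun c _ => by rw [mul_one, one_mul]) (fun c hc => ?_) run_ok)).trans (by decide +kernel)
  · obtain ⟨v, hv, e⟩ := h1 n hn
    have h3 := MulAction.mem_stabilizer_finset'.1 (flag hv).2
      (show (12 : Fin 364) ∈ ({10, 12, 42} : Finset (Fin 364)) by decide)
    have h4 : co (n • (12 : Fin 364) : Fin 364) (u • n • (12 : Fin 364) : Fin 364) ≤ 1 := by
      rw [e]
      exact (n.2 12 _).trans_le ((by decide +kernel : ∀ b ∈ ({10, 12, 42} : Finset (Fin 364)),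
        co (12 : Fin 364) b ≤ 1) _ h3)
    have h5 : co 18 (n • (12 : Fin 364) : Fin 364) = 1 := by
      have h6 : co (n • (18 : Fin 364) : Fin 364) (n • (12 : Fin 364) : Fin 364) = co (18 : Fin 364) (12 : Fin 364) :=
        n.2 18 12
      rw [h2 n hn] at h6
      exact h6.trans (by decide +kernel)
    have h6 := of_elemN ((h0 (n • 12)).2.resolve_left fun h => h.elim (fun h => h h4) fun h => h h5)
    simp only [List.mem_cons, List.not_mem_nil, or_false] at h6
    simp only [Finset.mem_insert, Finset.mem_singleton]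
    exact h6
  · exact List.forall_mem_cons.2 ⟨⟨by decide, (mem_st.1 hc).2⟩,
      List.forall_mem_singleton.2 ⟨by decide, h2 c (mem_st.1 hc).1⟩⟩

/-- the action of the graph automorphism -/
def RG : List (List ℕ) := [[1, 0, 0, 1, 1, 1], [0, 0, 2, 1, 0, 0], [0, 2, 0, 1, 0, 0], [0, 0, 0, 2, 2, 1], [0, 0, 0,
  0, 0, 1], [0, 0, 0, 0, 1, 0]]

theorem gr_ok : ∀ j < 6, (RG.getD j []).length ≤ 6 ∧
    cb ((yw.getD j []).flatMap sw) ((Pc.pwd (RG.getD j [])).flatMap fun a => yw.getD a []) = true := by decide +kernel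

theorem smC_A : SmC 3 1 A := by
  obtain ⟨β, h⟩ := exists_gr
  have hp := Pc.pc_of_chk he pc_ok
  obtain ⟨Q, hQ⟩ := hp.sylow card_Q (o := 5824) (card_A.trans (by norm_num)) (by norm_num)
  have h1 : ∀ j < 6, β (y j) = MK.S.Pc.ev y (Pc.pwd (RG.getD j [])) := fun j hj => by
    rw [ev_y, y, h]
    exact eqw (gr_ok j hj).2
  have h2 : ∀ x, β x ∈ V y 6 0 ↔ x ∈ V y 6 0 := fun x => by
    have h3 : (V y 6 0).map β.toMonoidHom = V y 6 0 := eq_of_le_of_card_ge (map_le_iff_le_comap.2 (V_le fun j _ hj =>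
      show β (y j) ∈ _ from h1 j hj ▸ Pc.pwd_mem (gr_ok j hj).1)) (card_map_of_injective β.injective).ge
    conv_lhs => rw [← h3]
    exact mem_map_iff_mem (f := β.toMonoidHom) β.injective
  refine smC_one_two h.out fun _ => ⟨Q, ?_⟩
  rw [hQ, k0_A, h.f0_eq]
  exact ⟨h2, Pc.k0_pc he pc_ok (by decide) card_Q nrm_ok card_N (prog := [1, 2, 0, 0, 2]) (by decide +kernel),
    fN_norm loc ((hp.card_zero card_Q).symm ▸ card_N) (Pc.mts_of_nrms he pc_ok nrm_ok) h2 (M := RG)
      (fun j hj => hp.comm_eq ▸ h1 j (by omega) ▸ Pc.pwd_mod (gr_ok j (by omega)).1 3) (prog := [1, 2, 0, 0, 2])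
      (by decide +kernel)⟩

/-- **the row `G₂(3)`, `p = 3`** -/
theorem smC (F : Type) [Field F] [Fintype F] (h : Fintype.card F = 3) : SmC 3 1 ↥(Lie.chevG2.group F) :=
  iso.2.2.elim fun e => SmC.congr (e.trans (ChevalleyStructure.FieldIso.groupEquiv Lie.chevG2
    (FiniteField.ringEquivOfCardEq (by rw [h]; rfl : Fintype.card (ZMod 3) = Fintype.card F)))).symm smC_A

end Cfsg.Agent.MO.Df.G23
end

private theorem dce_32e05c32e951 : _root_.True := by
  try have : _root_.True := by simp only [_root_.Cfsg.Agent.MO.A.W.Lab.eq_1]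
  try have : _root_.True := by simp only [_root_.Cfsg.Agent.MO.A.K.eq_1]
  try have : _root_.True := by simp only [_root_.Cfsg.Agent.MO.A.GT.ch.eq_1]
  try have : _root_.True := by simp only [_root_.Cfsg.Agent.MO.A.RS.Th.eq_1]
  try have : _root_.True := by simp only [_root_.Cfsg.Agent.MO.A.un.eq_1]
  try have : _root_.True := by simp only [_root_.Cfsg.Agent.MO.A.W.nA.eq_1]
  try have : _root_.True := by simp only [_root_.Cfsg.Agent.MO.A.GT.sh.eq_1]
  try have : _root_.True := by simp only [_root_.Cfsg.Agent.MO.A.W.sg.eq_1]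
  try have : _root_.True := by simp only [_root_.Cfsg.Agent.MO.A.RS.th.eq_1]
  try have : _root_.True := by simp only [_root_.Cfsg.Agent.MO.Df.G23.y.eq_1]
  try have : _root_.True := by simp only [_root_.Cfsg.Agent.MO.A.GT.wg.eq_1]
  try have : _root_.True := by simp only [_root_.Cfsg.Agent.MO.A.GT.sg.eq_1]
  try have : _root_.True := by simp only [_root_.Cfsg.Agent.MO.Df.G23.fq.eq_1]
  try have : _root_.True := by simp only [_root_.Cfsg.Agent.MO.A.GT.emb.eq_1]
  try have : _root_.True := by simp only [_root_.Cfsg.Agent.MO.A.GT.ps.eq_1]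
  try have : _root_.True := by simp only [_root_.Cfsg.Agent.MO.A.GT.en.eq_1]
  try have : _root_.True := by simp only [_root_.Cfsg.Agent.MO.A.GT.tri.eq_1]
  try have : _root_.True := by simp only [_root_.Cfsg.Agent.MO.A.RS.ps.eq_1]
  try have : _root_.True := by simp only [_root_.Cfsg.Agent.MO.A.W.nb.eq_1]
  try have : _root_.True := by simp only [_root_.Cfsg.Agent.MO.A.GT.emb.eq_2]
  try have : _root_.True := by simp only [_root_.Cfsg.Agent.MO.A.GT.Qc.eq_1]
  try have : _root_.True := by simp only [_root_.Cfsg.Agent.H886.Spin.ec.eq_1]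
  try have : _root_.True := by simp only [_root_.Cfsg.Agent.MO.A.GT.cs.eq_1]
  try have : _root_.True := by simp only [_root_.Cfsg.Agent.MO.A.W.Wt.act.congr_simp]
  try have : _root_.True := by simp only [_root_.Cfsg.Agent.MO.A.W.fib.eq_1]
  try have : _root_.True := by simp only [_root_.Cfsg.Agent.MO.A.RS.Lb.tw.eq_1]
  try have : _root_.True := by simp only [_root_.Cfsg.Agent.MO.A.W.Wt.Sb.congr_simp]
  try have : _root_.True := by simp only [_root_.Cfsg.Agent.MO.S.AE.congr_simp]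
  try have : _root_.True := by simp only [_root_.Cfsg.Agent.MO.A.Spin.F.eq_1]
  try have : _root_.True := by simp only [_root_.Cfsg.Agent.MO.A.up.eq_1]
  exact _root_.True.intro
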